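import Cfsg.Agent.H8.Gold2
import Cfsg.Agent.FT.PGen3a
import Cfsg.Agent.H3.SzB

/-! Automorphisms of order `3` of `3'`-groups. -/

set_option autoImplicit false
set_option linter.unusedSectionVars false

universe u

namespace Cfsg.H8

open Subgroup Cfsg.L0 Cfsg.FT
open scoped commutatorElement

section general
variable {G : Type*} [Group G] [Finite G] {D H K L T T' : Subgroup G} {a z z' y : G}

theorem exists_quo0 (h : K ⊴ H) : ∃ (Q : Type) (_ : Group Q) (_ : Finite Q) (f : H →* Q),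
    Function.Surjective f ∧ up f ⊥ = K := by
  obtain ⟨Q, _, _, f, hf, e⟩ := exists_quo h
  have i := (Shrink.mulEquiv.{0} (α := Q)).symm
  refine ⟨_, _, Finite.of_equiv _ i.toEquiv, i.toMonoidHom.comp f, i.surjective.comp hf, ?_⟩
  rw [← e]
  ext x
  simp [mem_up]

theorem pg3 (a3 : a ^ 3 = 1) : IsPGroup 3 (zpowers a) := isPGroup_zpowers (k := 1) (by simpa)

theorem glau3 (h3 : ¬ 3 ∣ ♯K) (ha : a ∈ 𝒩 K) (a3 : a ^ 3 = 1) {k : G} (hk : k ∈ K)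
    (h : k⁻¹ * a ∈ H) : ∃ k ∈ K, k⁻¹ * a * k ∈ H := by
  obtain ⟨l, hl, e⟩ := (mkCA_p Nat.prime_three (zpowers_le.2 ha) (pg3 a3) h3).glauberman (H := H)
    fun b hb => by
      have : a ∈ K ⊔ (H ⊓ 𝒩 K) := (mem_sup_l inf_le_right).2
        ⟨k, hk, _, mem_inf.2 ⟨h, mul_mem (inv_mem (le_norm K hk)) ha⟩, mul_inv_cancel_left k a⟩
      obtain ⟨c, hc, d, hd, rfl⟩ := (mem_sup_l inf_le_right).1 (zpowers_le.2 this hb)
      exact ⟨c, hc, by simpa using hd.1⟩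
  exact ⟨l, hl, e a (mem_zpowers a)⟩

theorem glau3_inv (h3 : ¬ 3 ∣ ♯K) (ha : a ∈ 𝒩 K) (a3 : a ^ 3 = 1) {k : G} (hk : k ∈ K)
    (h : k * z * k⁻¹ = a * z * a⁻¹) : ∃ k ∈ K, k * z * k⁻¹ ∈ 𝒞₁ a := by
  obtain ⟨l, hl, e⟩ := glau3 (H := 𝒞₁ z) h3 ha a3 hk (mem_cent1.2 (by
    calc k⁻¹ * a * z = k⁻¹ * (a * z * a⁻¹) * a := by group
      _ = _ := by rw [← h]; group))
  refine ⟨l, hl, mem_cent1.2 ?_⟩
  calc l * z * l⁻¹ * a = l * (z * (l⁻¹ * a * l)) * l⁻¹ := by group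
    _ = _ := by rw [← mem_cent1.1 e]; group

theorem norm_of_sol (hs : SN L K) (hq : QS L) (ha : a ∈ 𝒩 K) (a3 : a ^ 3 = 1)
    (h : Sol (K ⊓ 𝒞₁ a)) : a ∈ 𝒩 L := by
  by_contra hn
  have s : ∀ g ∈ 𝒩 K, g ∉ 𝒩 L → ∀ x ∈ L, ∀ y ∈ L, x * (g * y * g⁻¹) = g * y * g⁻¹ * x :=
    fun g hg n x hx y hy => mem_cent.1 (comm_eq_bot_iff.1 ((hq.eq_or_comm (hq.cj g) hs
      (cj_eq_of_mem_norm hg ▸ hs.cj g)).resolve_left fun e => n (cj_eq_iff.1 e.symm))
      (conj_mem_cj hy)) x hx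
  have e : a * a = a⁻¹ := by rw [eq_inv_iff_mul_eq_one, ← a3, pow_three']
  have e' : a⁻¹ * a⁻¹ = a := by rw [← mul_inv_rev, e, inv_inv]
  have s1 := s a ha hn
  have s2 := s a⁻¹ (inv_mem ha) (by simpa)
  rw [inv_inv] at s2
  have s3 : ∀ x ∈ L, ∀ y ∈ L, a⁻¹ * x * a * (a * y * a⁻¹) = a * y * a⁻¹ * (a⁻¹ * x * a) :=
    fun x hx y hy => by
      calc _ = a * (a⁻¹ * a⁻¹ * x * (a * a) * y) * a⁻¹ := by group
        _ = a * (y * (a⁻¹ * a⁻¹ * x * (a * a))) * a⁻¹ := by rw [e, e', s1 y hy x hx]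
        _ = _ := by group
  let φ : L →* G := .mk' (fun x => x * (a * x * a⁻¹) * (a⁻¹ * x * a)) fun x y => by
    push_cast
    calc _ = x * (y * (a * x * a⁻¹)) * (a * y * a⁻¹ * (a⁻¹ * x * a)) * (a⁻¹ * y * a) := by group
      _ = x * (a * x * a⁻¹) * (y * (a⁻¹ * x * a)) * (a * y * a⁻¹) * (a⁻¹ * y * a) := by
        rw [s1 _ y.2 _ x.2, ← s3 _ x.2 _ y.2]; group
      _ = _ := by rw [s2 _ y.2 _ x.2]; group
  have r : φ.range ≤ K ⊓ 𝒞₁ a := by
    rintro _ ⟨x, rfl⟩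
    have k := hs.le x.2
    refine ⟨mul_mem (mul_mem k (conj_mem_of_norm ha k)) (conj_mem_of_norm' ha k), mem_cent1.2 ?_⟩
    show x * (a * x * a⁻¹) * (a⁻¹ * x * a) * a = a * (x * (a * x * a⁻¹) * (a⁻¹ * x * a))
    calc _ = x * (a * x * a⁻¹) * (a⁻¹ * x * a) * a := rfl
      _ = a * x * a⁻¹ * (a⁻¹ * x * a) * x * a := by
        rw [s1 _ x.2 _ x.2, mul_assoc _ (x : G), s2 _ x.2 _ x.2, ← mul_assoc]
      _ = a * (x * (a⁻¹ * a⁻¹ * x * a) * (x * a)) := by group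
      _ = a * (x * (a * x * (a * a)) * (a⁻¹ * x * a)) := by rw [e']; group
      _ = _ := by rw [e]
  have := h.mono r
  have : Group.IsSolvable (center L) := Group.isSolvable_of_comm fun x y => mul_comm' x y
  refine hq.not_isSolvable (Group.isSolvable_of_ker_le_range (center L).subtype φ.rangeRestrict
    fun x hx => ?_)
  rw [range_subtype, mem_center_iff]
  intro y
  have b : (x : G) * (a * x * a⁻¹) * (a⁻¹ * x * a) = 1 := congrArg Subtype.val hx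
  rw [mul_assoc, mul_eq_one_iff_eq_inv] at b
  refine Subtype.ext ?_
  push_cast
  rw [b, mul_inv_eq_iff_eq_mul, mul_assoc, eq_inv_mul_iff_mul_eq, mul_assoc, ← s2 _ y.2 _ x.2,
    ← mul_assoc, ← s1 _ y.2 _ x.2, mul_assoc]

theorem SzA.not3 (h : SzA D) : ¬ 3 ∣ ♯D := fun e => by
  obtain ⟨x, hx, e⟩ := exists_orderOf_eq Nat.prime_three e
  rw [h.no3 x hx (e ▸ pow_orderOf_eq_one x)] at e
  simp at e

theorem Cit.conj (h : Cit D) (hs : SE D) (h1 : z ∈ D) (h2 : z * z = 1) (h3 : z ≠ 1) (h1' : z' ∈ D)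
    (h2' : z' * z' = 1) (h3' : z' ≠ 1) : ∃ g ∈ D, g * z * g⁻¹ = z' := by
  have : Fact (Nat.Prime 2) := ⟨Nat.prime_two⟩
  obtain ⟨T, hT, a⟩ := exists_isSyl_ge (isPGroup_zpowers (p := 2) (k := 1) (by simpa [sq]))
    (zpowers_le.2 h1')
  obtain ⟨g, g1, b⟩ := hT.exists_conj_mem h1 ⟨1, by simpa [sq]⟩
  obtain ⟨d, d1, d2⟩ := SetLike.not_le_iff_exists.1 (hs.not_le hT)
  have c := a (mem_zpowers z')
  obtain ⟨k, k1, -, -, k2, -⟩ := h.trans hT (hT.cj_of_mem (le_norm D d1))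
    (fun e => d2 (cj_eq_iff.1 e.symm)) b (conj_inv_two g h2) (conj_ne_one g h3) c h2' h3'
    (conj_mem_cj c) (conj_inv_two d h2') (conj_ne_one d h3') (hT.le b) h1'
    (conj_mem_of_norm (le_norm D d1) h1')
  exact ⟨k * g, mul_mem k1 g1, by rw [← k2]; group⟩

theorem SzA.exists_fix (h : SzA D) (hs : SE D) (ha : a ∈ 𝒩 D) (a3 : a ^ 3 = 1) :
    ∃ z ∈ D ⊓ 𝒞₁ a, z * z = 1 ∧ z ≠ 1 := by
  obtain ⟨z, h1, h2, h3⟩ := exists_inv_of_even hs.even
  obtain ⟨g, g1, g2⟩ := h.cit.conj hs h1 h2 h3 (conj_mem_of_norm ha h1) (conj_inv_two a h2)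
    (conj_ne_one a h3)
  obtain ⟨k, k1, k2⟩ := glau3_inv h.not3 ha a3 g1 g2
  exact ⟨_, ⟨conj_mem_of_norm (le_norm D k1) h1, k2⟩, conj_inv_two k h2, conj_ne_one k h3⟩

theorem Cit.not_sol (h : Cit D) (hT : IsSyl 2 T D) (hT' : IsSyl 2 T' D) (hne : T ≠ T')
    (hL : L ≤ D) (h1 : z ∈ T ⊓ L) (h2 : z * z = 1) (h3 : z ≠ 1) (h1' : z' ∈ T ⊓ L)
    (h2' : z' * z' = 1) (h3' : z' ≠ 1) (hz : z ≠ z') (h4 : y ∈ T' ⊓ L) (h5 : y * y = 1)
    (h6 : y ≠ 1) : ¬ Sol L := fun s => by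
  have : Fact (Nat.Prime 2) := ⟨Nat.prime_two⟩
  obtain ⟨U, u1, u2⟩ := exists_minI (ne_bot_of_mem h1.2 h3) (le_norm L)
  obtain ⟨p, hp, hd, u3, u4⟩ := u2.exists_elem (s.mono u1)
  obtain ⟨x, x1, x2⟩ := exists_orderOf_eq hp hd
  have x3 : x ≠ 1 := fun e => hp.ne_one (by rw [← x2, e, orderOf_one])
  by_cases e : p = 2
  · subst e
    have k : ∀ {T z}, IsSyl 2 T D → z ∈ T ⊓ L → z * z = 1 → z ≠ 1 → x ∈ T := fun {T z} hT a b c => by
      obtain ⟨S, hS, d⟩ := exists_isSyl_ge (pgroup_sup (zpowers_le.2 (u2.norm a.2))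
        (isPGroup_iff_forall.2 fun y hy => ⟨1, by simpa using u4 y hy⟩)
        (isPGroup_zpowers (p := 2) (k := 1) (by simpa [sq])))
        (sup_le (u1.trans hL) (zpowers_le.2 (hL a.2)))
      rw [h.eq_of_mem hT hS a.1 (d (mem_sup_right (mem_zpowers z))) b c]
      exact d (mem_sup_left x1)
    exact hne (h.eq_of_mem hT hT' (k hT h1 h2 h3) (k hT' h4 h5 h6) (by rw [← sq, u4 x x1]) x3)
  · have k0 : ∀ w ∈ T, w * w = 1 → w ≠ 1 → ∀ m ∈ U, m * w = w * m → m = 1 := fun w a b c m d f => by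
      obtain ⟨j, hj⟩ := isPGroup_iff_forall.1 hT.isPGroup m ((h T hT w a b c m (hL (u1 d))).1 f)
      exact eq_one_of_pow_coprime (((Nat.coprime_primes hp Nat.prime_two).2 e).pow_right j)
        (u4 m d) hj
    have k : ∀ w ∈ T ⊓ L, w * w = 1 → w ≠ 1 → w * x * w⁻¹ = x⁻¹ := fun w a b c => by
      have d := conj_mem_of_norm (u2.norm a.2) x1
      refine eq_inv_of_mul_eq_one_right (k0 w a.1 b c _ (mul_mem x1 d) ?_)
      calc x * (w * x * w⁻¹) * w = w * x * w⁻¹ * x * w := by rw [u3 d x x1]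
        _ = _ := by rw [inv_self_of b]; group
    refine x3 (k0 (z * z') (mul_mem h1.1 h1'.1) ?_ (fun e => hz ?_) x x1 ?_)
    · calc z * z' * (z * z') = z * (z' * z) * z' := by group
        _ = z * z * (z' * z') := by rw [h.comm hT h1.1 h2 h1'.1]; group
        _ = 1 := by rw [h2, h2', mul_one]
    · rw [eq_inv_of_mul_eq_one_left e, inv_self_of h2']
    · calc x * (z * z') = z * (z⁻¹ * x * z) * z' := by group
        _ = z * (z' * x * z'⁻¹) * z' := by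
          rw [k z' h1' h2' h3', ← k z h1 h2 h3, inv_self_of h2]
        _ = _ := by group

theorem SzA.two_fixed (h : SzA D) (hs : SE D) (ha : a ∈ 𝒩 D) (a3 : a ^ 3 = 1) :
    ∃ T T' z y, IsSyl 2 T D ∧ IsSyl 2 T' D ∧ T ≠ T' ∧ a ∈ 𝒩 T ∧ a ∈ 𝒩 T' ∧ z ∈ T ⊓ 𝒞₁ a ∧
      z * z = 1 ∧ z ≠ 1 ∧ y ∈ T' ⊓ 𝒞₁ a ∧ y * y = 1 ∧ y ≠ 1 := by
  have : Fact (Nat.Prime 2) := ⟨Nat.prime_two⟩
  obtain ⟨z, ⟨z1, z2⟩, z3, z4⟩ := h.exists_fix hs ha a3
  obtain ⟨T, hT, z5⟩ := exists_isSyl_ge (isPGroup_zpowers (p := 2) (k := 1) (by simpa [sq]))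
    (zpowers_le.2 z1)
  replace z5 := z5 (mem_zpowers z)
  have n : a ∈ 𝒩 T := cj_eq_iff.1 (h.cit.cj_eq hT hT z5 z3 z4 ha (by
    rwa [← mem_cent1.1 z2, mul_inv_cancel_right]))
  obtain ⟨d, d1, d2⟩ := SetLike.not_le_iff_exists.1 (hs.not_le hT)
  have hS := hT.cj_of_mem (le_norm D d1)
  have ne : T ≠ cj d T := fun e => d2 (cj_eq_iff.1 e.symm)
  generalize cj d T = S at hS ne
  obtain ⟨u, u1, v, v1, u2, u3, v2, v3, uv, -⟩ := hs.two_inv hT
  obtain ⟨t, t1, t2⟩ := h.trans2 hT hS (hS.cj_of_mem ha) ne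
    (fun e => ne ((cj_inj a).1 ((cj_eq_of_mem_norm n).trans e))) u1 u2 u3 v1 v2 v3 uv
  have n3 : ∀ {X}, X ≤ D → ¬ 3 ∣ ♯X := fun b e => h.not3 (e.trans (card_dvd b))
  obtain ⟨k, k1, k2⟩ := glau3 (H := 𝒩 S) (n3 hT.le) n a3 t1
    (cj_eq_iff.1 (by rw [cj_mul, ← t2, cj_inv_cj]))
  have hT' := hS.cj_of_mem (le_norm D (hT.le k1))
  have ne' : T ≠ cj k S := fun e => ne ((cj_inj k).1 ((cj_eq_of_mem k1).trans e))
  have n' : a ∈ 𝒩 (cj k S) := by rwa [← cj_norm, mem_cj]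
  generalize cj k S = T' at hT' ne' n'
  obtain ⟨y, y1, y2, y3⟩ := hT.exists_inv hT' z5 z3 z4
  have y4 := conj_mem_of_norm n' y1
  obtain ⟨l, l1, l2, -, l4, -⟩ := h.cit.trans hT' hT ne'.symm y1 y2 y3 y4 (conj_inv_two a y2)
    (conj_ne_one a y3) z5 z3 z4 (hT'.le y1) (hT'.le y4) z1
  obtain ⟨m, m1, m2⟩ := glau3_inv (K := D ⊓ 𝒩 T') (n3 inf_le_left)
    (zpowers_le.1 (le_norm_inf (zpowers_le.2 ha) (le_norm_norm (zpowers_le.2 n')))) a3 ⟨l1, l2⟩ l4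
  exact ⟨T, T', z, _, hT, hT', ne', n, n', ⟨z5, z2⟩, z3, z4, ⟨conj_mem_of_norm m1.2 y1, m2⟩,
    conj_inv_two m y2, conj_ne_one m y3⟩

end general

theorem SzA.card_le_64 {X : Type} [Group X] [Finite X] {D : Subgroup X} {a : X} (h : SzA D)
    (hs : SE D) (ha : a ∈ 𝒩 D) (a3 : a ^ 3 = 1) (hc : Sol (D ⊓ 𝒞₁ a)) :
    ∃ T, IsSyl 2 T D ∧ ♯T ≤ 64 := by
  have : Fact (Nat.Prime 2) := ⟨Nat.prime_two⟩
  obtain ⟨T, T', z, y, hT, hT', ne, n, n', z1, z2, z3, y1, y2, y3⟩ := h.two_fixed hs ha a3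
  have m := fun x => h.cit.mem_om (z := x) hT
  have c := h.card_le hT
  have nZ := H7.normalizer_le_normalizer_omegaOneCenter 2 T
  generalize omegaOneCenter 2 T = Z at m c nZ
  have zt : Z ≤ T := fun x hx => ((m x).1 hx).1
  have u : ∀ w ∈ Z ⊓ 𝒞₁ a, w ≠ 1 → z = w := fun w w1 w2 => by
    by_contra e
    exact h.cit.not_sol hT hT' ne inf_le_left ⟨z1.1, hT.le z1.1, z1.2⟩ z2 z3
      ⟨zt w1.1, hT.le (zt w1.1), w1.2⟩ ((m w).1 w1.1).2 w2 e ⟨y1.1, hT'.le y1.1, y1.2⟩ y2 y3 hc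
  obtain ⟨H, hH⟩ : ∃ H, H = D ⊓ 𝒩 T ⊓ 𝒩 T' := ⟨_, rfl⟩
  have h1 : H ≤ D := hH ▸ inf_le_left.trans inf_le_left
  have h2 : H ≤ 𝒩 T := hH ▸ inf_le_left.trans inf_le_right
  have h3 : H ≤ 𝒩 T' := hH ▸ inf_le_right
  have h4 : zpowers a ≤ 𝒩 H := hH ▸ le_norm_inf (le_norm_inf (zpowers_le.2 ha)
    (le_norm_norm (zpowers_le.2 n))) (le_norm_norm (zpowers_le.2 n'))
  have r : Reg Z H := reg_iff.2 fun x x1 w w1 e => by
    by_contra! b
    exact ne (h.cit.eq_of_norm hT hT' ((h.cit T hT w (zt w1) ((m w).1 w1).2 b.2 x (h1 x1)).1 e.symm)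
      b.1 (h3 x1))
  have zz := (m z).2 ⟨z1.1, z2⟩
  obtain ⟨v, v1, v2, v3, v4⟩ : ∃ v ∈ T, v * v = 1 ∧ v ≠ 1 ∧ z ≠ v := by
    obtain ⟨u, u1, v, v1, u2, u3, v2, v3, uv, -⟩ := hs.two_inv hT
    by_cases e : z = u
    · exact ⟨v, v1, v2, v3, e ▸ uv⟩
    · exact ⟨u, u1, u2, u3, e⟩
  have H0 : H ≠ ⊥ := fun e => by
    obtain ⟨k, k1, k2, k3, k4, -⟩ := h.cit.trans hT hT' ne z1.1 z2 z3 v1 v2 v3 y1.1 y2 y3
      (hT.le z1.1) (hT.le v1) (hT'.le y1.1)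
    rw [eq_one_of_mem e (hH ▸ ⟨⟨k1, k2⟩, k3⟩ : k ∈ H)] at k4
    exact v4 (by simpa using k4)
  have a1 : a ≠ 1 := fun e => v4 (u v ⟨(m v).2 ⟨v1, v2⟩, by simp [e, cent1_one]⟩ v3)
  have oa : ♯(zpowers a) = 3 := by
    have : Fact (Nat.Prime 3) := ⟨Nat.prime_three⟩
    rw [card_zpow, orderOf_eq_prime a3 a1]
  have r' : H ⊓ 𝒞 (zpowers a) = ⊥ := eq_bot_iff.2 fun x x1 => by
    rw [cent_zpowers] at x1
    refine (reg_iff.1 r x x1.1 z zz ?_).resolve_right z3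
    exact (mul_inv_eq_iff_eq_mul.1 (u _ (mem_inf.2 ⟨conj_mem_of_norm (nZ (h2 x1.1)) zz,
      mul_mem (mul_mem x1.2 z1.2) (inv_mem x1.2)⟩) (conj_ne_one x z3)).symm).symm
  have pz : IsPGroup 2 Z := hT.isPGroup.to_le zt
  have w := G3.wielandt (mk_frob h4 (reg_of_prime (oa ▸ Nat.prime_three) r') H0
    (ne_bot_of_mem (mem_zpowers a) a1)) (sup_le (h2.trans nZ) (zpowers_le.2 (nZ n)))
    (((r.cop (h2.trans nZ)).mul_right (cop_of_pgroup Nat.prime_two pz (by rw [oa]; norm_num))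
      ).coprime_dvd_right (card_sup_dvd h4)) (sol_of_pgroup Nat.prime_two pz)
  have e1 := r.cent_eq_bot le_rfl H0
  have e2 : ♯(Z ⊓ 𝒞 (zpowers a)) ≤ 2 := by
    rw [← orderOf_eq_prime (p := 2) (by rwa [sq]) z3, ← card_zpow]
    refine FT.card_le fun x x1 => ?_
    by_cases e : x = 1
    · simp [e]
    · rw [← u x (cent_zpowers a ▸ x1) e]
      exact mem_zpowers z
  rw [e1, eq_bot_of_le e1 (inf_le_inf le_rfl (cent_anti le_sup_left)), card_bot', oa, one_pow,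
    one_mul, mul_one] at w
  have e3 : ♯Z ≤ 8 := w ▸ Nat.pow_le_pow_left e2 3
  exact ⟨T, hT, c.trans (Nat.mul_le_mul e3 e3)⟩

/-- simple groups of order prime to `3` are Suzuki groups -/
def Sz3 : Prop := ∀ (G : Type) [Group G] [Finite G], IsSimpleGroup G → ¬ IsMulCommutative G →
  ¬ 3 ∣ Nat.card G → Lie.IsoSuzuki G

theorem sz3_of_gold (hF : OddOrder) (hG : GS.GoldSimple) : Sz3 := fun _ _ _ _ =>
  sz_of_not_three hF hG

theorem se_of_simple (hF : OddOrder) {G : Type*} [Group G] [Finite G] {D : Subgroup G}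
    (h : IsSimpleGroup D) (hn : ¬ IsMulCommutative D) : SE D := by
  have q := qs_of_isSimpleGroup h hn
  refine ⟨q, ?_, even_of_simple hF hn⟩
  rw [← map_center_subtype, (IsSimpleGroup.eq_bot_or_eq_top_of_normal (center D)
    inferInstance).resolve_right fun e => hn ⟨⟨fun x y => mem_center_iff.1 (e ▸ mem_top y) x⟩⟩,
    Subgroup.map_bot]

theorem szA_of_iso {G : Type*} [Group G] [Finite G] {D : Subgroup G} (h : Lie.IsoSuzuki D) :
    SzA D :=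
  (szA_of_isoSuzuki h).pull (MonoidHom.id D) (fun _ _ e => e) fun _ => mem_top _

theorem sz8 {X : Type} [Group X] [Finite X] {D : Subgroup X} {a : X} (h : Lie.IsoSuzuki D)
    (hs : SE D) (ha : a ∈ 𝒩 D) (a3 : a ^ 3 = 1) (hc : Sol (D ⊓ 𝒞₁ a)) :
    ♯D = 29120 ∧ ∃ (F : Type) (_ : Field F) (_ : Fintype F), Fintype.card F = 8 ∧
      Nonempty (D ≃* Lie.Sz F 4) := by
  have : Fact (Nat.Prime 2) := ⟨Nat.prime_two⟩
  obtain ⟨T, hT, c⟩ := (szA_of_iso h).card_le_64 hs ha a3 hc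
  obtain ⟨F, _, _, m, hm, hF, ⟨e⟩⟩ := h
  have k : ♯D = ((2 ^ (2 * m + 1)) ^ 2 + 1) * ((2 ^ (2 * m + 1)) ^ 2 * (2 ^ (2 * m + 1) - 1)) := by
    obtain ⟨_, θ, _, h0⟩ := H7.Suz.exists_tits hF
    rw [Nat.card_congr e.toEquiv, H7.Suz.Sz_eq h0, H3.card_szG, Nat.card_eq_fintype_card, hF]
  have d : (2 ^ (2 * m + 1)) ^ 2 ∣ ♯T :=
    ((hT.coprime.symm.pow_left _).pow_left _).dvd_of_dvd_mul_right (by
      rw [card_mul_ri hT.le, k]; exact ((dvd_mul_right _ _).mul_left _))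
  have := (Nat.le_of_dvd (card_pos' T) d).trans c
  rw [← pow_mul, show 64 = 2 ^ 6 from rfl, Nat.pow_le_pow_iff_right one_lt_two] at this
  obtain rfl : m = 1 := by omega
  exact ⟨k, F, _, _, hF, ⟨e⟩⟩

theorem s2976 (hF : OddOrder) (h0 : Sz3) {G : Type*} [Group G] [Finite G] (K : Subgroup G)
    (hK : IsComponent K) (h3 : ¬ 3 ∣ ♯K) (y : G) (hy : orderOf y = 3) (hsol : Sol (𝒞₁ y)) :
    (∃ (F : Type) (_ : Field F) (_ : Fintype F), Fintype.card F = 8 ∧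
      Nonempty (K ⧸ center K ≃* Lie.Sz F 4)) ∧ y ∈ 𝒩 K ∧ (pCore 2 G = ⊥ → IsSimpleGroup K) := by
  obtain ⟨s, q⟩ := isComponent_iff.1 hK
  have y3 : y ^ 3 = 1 := hy ▸ pow_orderOf_eq_one y
  have n := norm_of_sol s q (le_norm ⊤ (mem_top y)) y3 (hsol.mono inf_le_right)
  have n1 := nrm_sup_left (zpowers_le.2 n)
  obtain ⟨Q, _, _, f, hf, e⟩ := exists_quo0 n1.ctr
  let φ : K →* down f K := (f.comp (inclusion n1.le)).codRestrict _ fun x => mem_down_of_mem x.2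
  have φ1 : Function.Surjective φ := fun ⟨_, hx⟩ => by
    obtain ⟨x, x1, rfl⟩ := mem_down.1 hx
    exact ⟨⟨x, x1⟩, rfl⟩
  have φ2 : center K = φ.ker := by
    ext x
    rw [← mem_map_iff_mem K.subtype_injective, map_center_subtype, ← e]
    exact (coe_mem_up (x := inclusion n1.le x)).trans (mem_bot.trans
      ⟨fun a => Subtype.ext a, fun a => congrArg Subtype.val a⟩)
  have ψ := (QuotientGroup.quotientMulEquivOfEq φ2).trans
    (QuotientGroup.quotientKerEquivOfSurjective φ φ1)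
  have := hK.2.2
  have d1 := ψ.symm.isSimpleGroup
  have d2 : ¬ IsMulCommutative (down f K) := fun a => q.not_isSolvable
    (sol_of_down n1.le (e ▸ ((abel_ctr K).mono inf_le_left).sol) (abel_iff.2 a).sol)
  have ym : y ∈ K ⊔ zpowers y := mem_sup_right (mem_zpowers y)
  have c := (mkCA_p Nat.prime_three (zpowers_le.2 n) (pg3 y3) h3).down_cent f le_sup_right
  rw [down_zpowers f ⟨y, ym⟩, cent_zpowers, cent_zpowers] at c
  obtain ⟨c1, F, _, _, c2, ⟨c3⟩⟩ := sz8 (h0 _ d1 d2 fun a => h3 (a.trans (card_down_dvd f K)))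
    (se_of_simple hF d1 d2) (a := f ⟨y, ym⟩) (down_normalizer_le f K (mem_down_of_mem n))
    (by rw [← map_pow, ← map_one f]; exact congrArg f (Subtype.ext y3))
    (c ▸ (hsol.mono inf_le_right).down f)
  refine ⟨⟨F, _, _, c2, ⟨ψ.trans c3⟩⟩, n, fun o => q.isSimpleGroup ?_⟩
  by_contra b
  obtain ⟨p, hp, b⟩ := exists_prime_dvd b
  obtain ⟨x, x1, x2⟩ := exists_orderOf_eq hp b
  have : Fact p.Prime := ⟨hp⟩
  have x3 : IsPGroup p (zpowers x) := isPGroup_of_card ((card_zpow x).trans x2)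
  have x4 : x ≠ 1 := fun e => hp.ne_one (by rw [← x2, e, orderOf_one])
  by_cases e2 : p = 2
  · subst e2
    refine x4 (eq_one_of_mem o (le_pCore_of_isSubnormal (sn_top_iff.1 (SN.trans ?_ s)) x3
      (mem_zpowers x)))
    exact (Nrm.mk (zpowers_le.2 x1.1) (le_norm_of_le_cent (cent_symm (zpowers_le.2 x1.2)))).sn
  obtain ⟨P, hP, x5⟩ := exists_isSyl_ge x3 (zpowers_le.2 x1.1)
  have p1 := hP.down f n1.le
  have p2 : Cyc (down f P) := by
    obtain ⟨k, hk⟩ := IsPGroup.iff_card.1 p1.isPGroup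
    have d := card_dvd p1.le
    rw [hk, c1] at d
    rcases k with _ | _ | k
    · rw [card_eq_one_iff.1 hk]
      exact cyc_bot
    · exact cyc_of_prime (by simpa [hk])
    · have d1 : p * p ∣ 2 ^ 6 * 455 := (show p * p ∣ p ^ (k + 1 + 1) from ⟨p ^ k, by ring⟩).trans d
      have d2 := (((Nat.coprime_primes hp Nat.prime_two).2 e2).mul_left
        ((Nat.coprime_primes hp Nat.prime_two).2 e2)).pow_right 6 |>.dvd_of_dvd_mul_left d1
      exact absurd ((by decide +kernel : Squarefree 455) p d2) (by simpa using hp.ne_one)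
  have p3 : Abel P := by
    obtain ⟨g, g1, g2⟩ := (cyc_down_iff (hP.le.trans n1.le)).1 p2
    exact (abel_sup (abel_ctr K) (cyc_zpowers g).abel (inf_le_right.trans
      (cent_anti (zpowers_le.2 (hP.le g1))))).mono (e ▸ g2)
  exact x4 (eq_one_of_mem (abel_syl_inf_der_cent hp hP p3) ⟨⟨x5 (mem_zpowers x),
    q.perfect.ge x1.1⟩, cent_anti inf_le_left x1.2⟩)

theorem sol_of_odd_cent (hF : OddOrder) (h0 : Sz3) {X : Type} [Group X] [Finite X] {K : Subgroup X}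
    {a : X} (h3 : ¬ 3 ∣ ♯K) (ha : a ∈ 𝒩 K) (a3 : a ^ 3 = 1) (ho : Odd ♯(K ⊓ 𝒞₁ a)) : Sol K := by
  induction hn : ♯K using Nat.strong_induction_on generalizing X with | _ n ih
  subst hn
  have n1 := nrm_sup_left (zpowers_le.2 ha)
  by_cases e : Fit K = ⊥
  · by_contra ns
    have f0 : fittingSubgroup K = ⊥ := (map_eq_bot_iff_of_injective _ K.subtype_injective).1 e
    obtain ⟨A, hA⟩ : ∃ A : Subgroup K, IsComponent A := by
      by_contra! b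
      have := centralizer_fitting_le (layer_eq_bot_iff.2 b)
      rw [f0, cent_bot] at this
      have := Subgroup.subsingleton_iff.1 (subsingleton_of_top_le_bot this)
      exact ns inferInstance
    have z : A ⊓ 𝒞 A = ⊥ := eq_bot_of_le f0 (inf_centralizer_le_fitting hA.1)
    have i := equivMapOfInjective A _ K.subtype_injective
    have := (isComponent_iff.1 hA).2.isSimpleGroup z
    have d1 := i.symm.isSimpleGroup
    obtain ⟨s, q⟩ := isComponent_map_subtype_iff.1 hA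
    have d2 := q.not_isMulCommutative
    obtain ⟨z, z1, z2, z3⟩ := (szA_of_iso (h0 _ d1 d2 fun b => h3 (b.trans
      (card_dvd s.le)))).exists_fix (se_of_simple hF d1 d2) (norm_of_sol s q ha a3 (hF _ ho)) a3
    exact z3 (eq_one_of_odd (ho.of_dvd_nat (orderOf_dvd ⟨s.le z1.1, z1.2⟩)) z2)
  · obtain ⟨Q, _, _, f, hf, k⟩ := exists_quo n1.Fit
    have am : a ∈ K ⊔ zpowers a := mem_sup_right (mem_zpowers a)
    have c := (mkCA_p Nat.prime_three (zpowers_le.2 ha) (pg3 a3) h3).down_cent f le_sup_right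
    rw [down_zpowers f ⟨a, am⟩, cent_zpowers, cent_zpowers] at c
    refine sol_of_down n1.le (k ▸ (Fit_nil K).sol.mono inf_le_left) (ih _ (card_down_lt n1.le
      (by rwa [k, inf_eq_left.2 (Fit_le K)])) (fun a => h3 (a.trans (card_down_dvd f K)))
      (a := f ⟨a, am⟩) (down_normalizer_le f K (mem_down_of_mem ha))
      (by rw [← map_pow, ← map_one f]; exact congrArg f (Subtype.ext a3)) (c ▸ odd_down f ho) rfl)

theorem comm_le_opp {X : Type} [Group X] [Finite X] {K A : Subgroup X} (h3 : ¬ 3 ∣ ♯K)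
    (ha : A ≤ 𝒩 K) (a3 : ♯A = 3) (ho : Odd ♯(K ⊓ 𝒞 A)) (hs : Sol K) :
    ⁅K, A⁆ ≤ opMod 2 K (Op {2}ᶜ K) := by
  have n1 := nrm_sup_left ha
  obtain ⟨Q, _, _, f, hf, k⟩ := exists_quo (n1.Op {2}ᶜ)
  have ca := mkCA_p Nat.prime_three ha (isPGroup_of_card a3) h3
  have c := ca.down_cent f le_sup_right
  have c1 := ca.down f
  have s := hs.down f
  have c2 : ♯(down f A) = 3 := by
    rw [card_down_eq le_sup_right, a3]
    exact eq_bot_of_le ca.sd.inf (inf_le_inf (k ▸ Op_le _ K) le_rfl)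
  obtain ⟨R, r1, r2⟩ := c1.exists_hall s {2}ᶜ
  have r3 := (piG_compl_single Nat.prime_two).1 r1.pi
  have c3 := c1.sub r1.le r2
  have o : Odd ♯(R ⊔ down f A) := Odd.of_dvd_nat (by
    rw [c2]; exact (Nat.not_even_iff_odd.1 (mt Even.two_dvd r3)).mul (by decide)) (card_sup_dvd r2)
  have q := Op_pgroup Nat.prime_two (down f K)
  have t := G3.t3_4 c3.sd (sol_sup (s.mono r1.le) (cyc_of_prime (c2 ▸ Nat.prime_three)).abel.sol r2) o
    c3.cop' (c2 ▸ Nat.prime_three) (V := Op {2} (down f K)) (le_norm_Op _ (sup_le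
      (le_norm_of_le r1.le) c1.norm)) (cop_of_pgroup Nat.prime_two q o.not_two_dvd_nat)
    (sol_of_pgroup Nat.prime_two q) (eq_bot_of_le (inf_eq_bot_of_cop (cop_of_pgroup Nat.prime_two q
      (c ▸ odd_down f ho).not_two_dvd_nat)) (le_inf inf_le_left (inf_le_inf (Op_le _ _) le_rfl)))
  have t1 : ⁅R, down f A⁆ = ⊥ := eq_bot_of_le (inf_eq_bot_of_cop (cop_of_pgroup Nat.prime_two q r3))
    (le_inf ((le_inf ((comm_le_left r2).trans r1.le) t).trans (cent_Op_le Nat.prime_two s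
      (Op_down_eq_bot n1.le k))) (comm_le_left r2))
  rw [← k, ← up_Op_p Nat.prime_two n1.le (k ▸ Op_le _ K), ← down_le_iff' (comm_le_sup K A),
    down_commutator f n1.le le_sup_right]
  exact c1.comm_le_Op s r1 (comm_eq_bot_iff'.1 t1)

theorem exists_hol (G : Type*) [Group G] [Finite G] : ∃ (X : Type) (_ : Group X) (_ : Finite X)
    (i : G →* X) (j : MulAut G →* X), Function.Injective i ∧ Function.Injective j ∧
      ∀ σ g, j σ * i g * (j σ)⁻¹ = i (σ g) := by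
  have : Finite (G ⋊[MonoidHom.id _] MulAut G) :=
    Finite.of_equiv _ SemidirectProduct.equivProd.symm
  have e := (Shrink.mulEquiv.{0} (α := G ⋊[MonoidHom.id _] MulAut G)).symm
  refine ⟨_, _, Finite.of_equiv _ e.toEquiv, e.toMonoidHom.comp SemidirectProduct.inl,
    e.toMonoidHom.comp SemidirectProduct.inr,
    e.injective.comp SemidirectProduct.inl_injective,
    e.injective.comp SemidirectProduct.inr_injective, fun σ g => ?_⟩
  rw [← map_inv]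
  simp only [MonoidHom.comp_apply]
  rw [← map_mul, ← map_mul]
  exact congrArg _ (SemidirectProduct.inl_aut (φ := MonoidHom.id _) σ g).symm

theorem s3040 (hF : OddOrder) (h0 : Sz3) {G : Type*} [Group G] [Finite G] (h3 : ¬ 3 ∣ Nat.card G)
    (S : Subgroup (MulAut G)) (hS : Nonempty (S ≃* Equiv.Perm (Fin 3)))
    (hf : ∀ g : G, (∀ σ ∈ S, σ g = g) → g = 1) :
    Group.IsSolvable G ∧ ¬ 2 ∣ (pPrimePCore 2 G).index ∧ ∀ σ ∈ S, orderOf σ = 3 →
      pPrimePCore 2 G ⊔ closure {g : G | σ g = g} = ⊤ := by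
  have : Fact (Nat.Prime 2) := ⟨Nat.prime_two⟩
  obtain ⟨X, _, _, i, j, hi, hj, c⟩ := exists_hol G
  obtain ⟨e⟩ := hS
  have n : ∀ σ, j σ ∈ 𝒩 i.range := fun σ => mem_normalizer_of_forall (by
    rintro _ ⟨g, rfl⟩; exact ⟨_, (c σ g).symm⟩)
  have m : ∀ σ g, i g ∈ 𝒞₁ (j σ) ↔ σ g = g := fun σ g => by
    rw [mem_cent1, eq_comm, ← mul_inv_eq_iff_eq_mul, c, hi.eq_iff]
  have k3 : ¬ 3 ∣ ♯i.range := by rwa [← Nat.card_congr (MonoidHom.ofInjective hi).toEquiv]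
  have key : ∀ σ ∈ S, orderOf σ = 3 → Odd ♯(i.range ⊓ 𝒞₁ (j σ)) := fun σ hσ o => by
    obtain ⟨t, t1, t2, t3⟩ : ∃ t : S, t ^ 2 = 1 ∧ t * ⟨σ, hσ⟩ * t⁻¹ = ⟨σ, hσ⟩⁻¹ ∧
        ∀ x : S, x ∈ zpowers ⟨σ, hσ⟩ ⊔ zpowers t := by
      have o1 : orderOf (e ⟨σ, hσ⟩) = 3 := by rw [e.orderOf_eq, ← o, Subgroup.orderOf_mk]
      have o2 : (e ⟨σ, hσ⟩) ^ 3 = 1 := orderOf_dvd_iff_pow_eq_one.1 o1.dvd
      have o3 : e ⟨σ, hσ⟩ ≠ 1 := fun a => by simp [a] at o1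
      have a : ∀ s : Equiv.Perm (Fin 3), s ^ 3 = 1 → s ≠ 1 → Equiv.swap 0 1 * s * (Equiv.swap 0 1)⁻¹
        = s⁻¹ ∧ ∀ x, ∃ a : Fin 3, ∃ b : Fin 2, x = s ^ a.1 * Equiv.swap 0 1 ^ b.1 := by decide
      refine ⟨e.symm (.swap 0 1), e.injective (by simp [sq]), e.injective (by
        simpa using (a _ o2 o3).1), fun x => ?_⟩
      obtain ⟨a, b, h⟩ := (a _ o2 o3).2 (e x)
      rw [show x = ⟨σ, hσ⟩ ^ a.1 * e.symm (.swap 0 1) ^ b.1 from e.injective (by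
        rw [map_mul, map_pow, map_pow, e.apply_symm_apply, h])]
      exact mul_mem (mem_sup_left (pow_mem (mem_zpowers _) _))
        (mem_sup_right (pow_mem (mem_zpowers _) _))
    have t4 : j t ∈ 𝒩 (i.range ⊓ 𝒞₁ (j σ)) := zpowers_le.1 (le_norm_inf (zpowers_le.2 (n t)) (by
      rw [← cent_zpowers]
      refine le_norm_cent (zpowers_le.2 (mem_normalizer_zpowers_of_inverts ?_))
      rw [← map_inv, ← map_inv, ← map_mul, ← map_mul]
      exact congrArg j (congrArg Subtype.val t2)))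
    have := card_modEq_cent Nat.prime_two (isPGroup_zpowers (p := 2) (k := 1) (x := j t) (by
      rw [pow_one, ← map_pow, ← map_one j]; exact congrArg j (congrArg Subtype.val t1)))
      (zpowers_le.2 t4)
    rw [show i.range ⊓ 𝒞₁ (j σ) ⊓ 𝒞 (zpowers (j t)) = ⊥ from eq_bot_iff.2 (by
      rintro _ ⟨⟨⟨g, rfl⟩, a⟩, b⟩
      rw [cent_zpowers] at b
      rw [hf g fun τ hτ => (show zpowers ⟨σ, hσ⟩ ⊔ zpowers t ≤ (MulAction.stabilizer _ g).comap
        S.subtype from sup_le (zpowers_le.2 ((m _ g).1 a)) (zpowers_le.2 ((m _ g).1 b)))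
        (t3 ⟨τ, hτ⟩), map_one]
      exact one_mem _), card_bot'] at this
    exact Nat.odd_iff.2 this
  have p3 : ∀ σ, orderOf σ = 3 → j σ ^ 3 = 1 := fun σ o => by
    rw [← map_pow, ← o, pow_orderOf_eq_one, map_one]
  obtain ⟨σ, σ1, σ2⟩ : ∃ σ ∈ S, orderOf σ = 3 := exists_orderOf_eq Nat.prime_three (by
    rw [Nat.card_congr e.toEquiv, Nat.card_perm]; simp [Nat.factorial])
  have s := sol_of_odd_cent hF h0 k3 (n σ) (p3 σ σ2) (key σ σ1 σ2)
  have main : ∀ σ ∈ S, orderOf σ = 3 → pPrimePCore 2 G ⊔ (𝒞₁ (j σ)).comap i = ⊤ := fun σ hσ o => by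
    have a := comm_le_opp k3 (zpowers_le.2 (n σ)) (by rw [card_zpow, orderOf_injective j hj, o])
      (cent_zpowers (j σ) ▸ key σ hσ o) s
    have nr : ∀ {Y}, Y ⊴ i.range → (Y.comap i).Normal := fun y => ⟨fun x hx g => by
      simpa using y.conj_mem ⟨g, rfl⟩ hx⟩
    have b : (opMod 2 i.range (Op {2}ᶜ i.range)).comap i ≤ pPrimePCore 2 G := by
      rw [pPrimePCore_eq]
      have := nr (Opp_nrm 2 i.range)
      refine le_opMod le_top (by rw [normalizer_eq_top]) fun x hx => ?_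
      obtain ⟨k, hk⟩ := pow_mem_of_mem_opMod (Op_nrm _ _).norm hx
      refine ⟨k, le_pPrimeCore_of_isSubnormal (nr (Op_nrm {2}ᶜ i.range)).isSubnormal ?_
        (by simpa using hk)⟩
      exact ((Nat.Prime.coprime_iff_not_dvd Nat.prime_two).2
        (not_dvd_Op_compl Nat.prime_two _)).symm.coprime_dvd_left (card_comap_dvd_of_injective _ i hi)
    refine eq_top_iff.2 fun g _ => ?_
    have ca := mkCA_p Nat.prime_three (zpowers_le.2 (n σ)) (pg3 (p3 σ o)) k3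
    obtain ⟨_, x1, _, ⟨⟨y, rfl⟩, y1⟩, d⟩ := (mem_sup_l (inf_le_left.trans (left_le_norm_comm _ _))).1
      (ca.comm_sup_cent.ge ⟨g, rfl⟩)
    obtain ⟨x, rfl⟩ := comm_le_left ca.norm x1
    rw [← hi ((map_mul i x y).trans d)]
    exact mul_mem (mem_sup_left (b (a x1))) (mem_sup_right (cent_zpowers (j σ) ▸ y1))
  refine ⟨Group.isSolvable_of_isSolvable_injective (f := i.rangeRestrict) ((MonoidHom.rangeRestrict_injective_iff).2
    hi), fun d => (key σ σ1 σ2).not_two_dvd_nat (d.trans ?_), fun σ hσ o => ?_⟩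
  · have : (pPrimePCore 2 G).Normal := inferInstanceAs (comap _ _).Normal
    rw [← relIndex_top_right, ← main σ σ1 σ2, relIndex_sup_left]
    refine (relIndex_dvd_card _ _).trans ?_
    rw [← card_map_of_injective hi, map_comap_eq]
  · rw [← main σ hσ o, show {g : G | σ g = g} = (𝒞₁ (j σ)).comap i from
      Set.ext fun g => (m σ g).symm, closure_eq]

end Cfsg.H8
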