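import Cfsg.Agent.H8.ReeC2
import Cfsg.Agent.H3.U3
import Cfsg.Agent.H3.MaxDih
import Cfsg.Agent.H4.J1.Iso
import Cfsg.Agent.H6.Ab

/-! Goldschmidt groups are `S₄`-free; which of them are `S₃`-free. -/

set_option autoImplicit false
set_option linter.unusedSectionVars false

namespace Cfsg.H8

open Subgroup Cfsg.L0

local notation "𝒩" X:max => Subgroup.normalizer (SetLike.coe X)
local notation "𝒞" X:max => Subgroup.centralizer (SetLike.coe X)
local notation "𝒞₁" x:max => Subgroup.centralizer (singleton x : Set _)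

section general
variable {G X : Type*} [Group G] [Group X]

theorem Inv.of_injective {p : ℕ} (h : Inv p (⊤ : Subgroup X)) {f : X →* G}
    (hf : Function.Injective f) : Inv p (⊤ : Subgroup G) := by
  obtain ⟨x, -, h1, ⟨k, h2⟩, g, -, h3⟩ := h
  exact ⟨f x, mem_top _, fun e => h1 ((map_eq_one_iff f hf).1 e), ⟨k, by rw [← map_pow, h2, map_one]⟩,
    f g, mem_top _, by rw [← map_inv, ← map_mul, ← map_mul, h3, map_inv]⟩

theorem inv3_of_pair {a b : G} (ha : a * a = 1) (hb : b * b = 1) (h3 : (a * b) ^ 3 = 1)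
    (h1 : a * b ≠ 1) : Inv 3 (⊤ : Subgroup G) :=
  ⟨a * b, mem_top _, h1, ⟨1, by simpa⟩, a, mem_top _, by
    rw [← mul_assoc, ha, one_mul, mul_inv_rev, inv_self_of hb]⟩

theorem v4_normal : (closure {Equiv.swap 0 1 * Equiv.swap 2 3, Equiv.swap 0 2 * Equiv.swap 1 3} :
    Subgroup (Equiv.Perm (Fin 4))).Normal := ⟨fun x hx g => by
  rw [H3.mem_closure_pair_of_comm (by decide) (by decide) (by decide)] at hx ⊢
  revert g x; decide⟩

variable [Finite G]

theorem inv3_of_S3 (h : Involves (Equiv.Perm (Fin 3)) G) : Inv 3 (⊤ : Subgroup G) :=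
  inv_of_involves (hp := ⟨Nat.prime_three⟩) (by norm_num) (involves_top_iff.2 h)
    (inv3_of_pair (a := Equiv.swap 0 1) (b := Equiv.swap 1 2) (by decide) (by decide) (by decide)
      (by decide))

theorem not_S4_of_ab (h : ∀ T : Subgroup G, IsPGroup 2 T → ∀ x ∈ T, ∀ y ∈ T, x * y = y * x) :
    ¬ Involves (Equiv.Perm (Fin 4)) G := fun e => by
  have : Fact (Nat.Prime 2) := ⟨Nat.prime_two⟩
  obtain ⟨K, f, hf⟩ := involves_iff.1 e
  obtain ⟨R, hR⟩ := exists_isSyl 2 (⊤ : Subgroup (Equiv.Perm (Fin 4)))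
  obtain ⟨P, hP, e1⟩ := (show IsSyl 2 R ((⊤ : Subgroup K).map f) by
    rwa [map_top_of_surjective f hf]).exists_map_eq
  obtain ⟨g, -, hg⟩ := hR.exists_conj_mem (mem_top (finRotate 4)) ⟨2, by decide⟩
  obtain ⟨x, hx, e2⟩ := e1.ge hg
  obtain ⟨y, hy, e3⟩ := e1.ge (hR.le_of_normalizes (Q := closure {Equiv.swap 0 1 * Equiv.swap 2 3,
    Equiv.swap 0 2 * Equiv.swap 1 3}) (KP.p2 (by constructor <;> decide)) le_top
    (fun g _ => mem_normalizer_of_forall fun x hx => v4_normal.conj_mem x hx g)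
    (v4_normal.conj_mem _ (subset_closure (Set.mem_insert _ _)) g))
  have e4 : x * y = y * x := Subtype.ext (h _ (hP.isPGroup.map K.subtype) _ (mem_map_of_mem _ hx) _
    (mem_map_of_mem _ hy))
  have e5 := conj_comm (by rw [← map_mul, e4, map_mul] : f x * f y = f y * f x) g⁻¹
  rw [e2, e3] at e5
  simp only [inv_inv, mul_assoc, inv_mul_cancel_left, inv_mul_cancel, mul_one] at e5
  exact absurd e5 (by decide)

theorem ab_of_syl {E : Subgroup G} (hE : IsSyl 2 E ⊤) (h : ∀ x ∈ E, ∀ y ∈ E, x * y = y * x)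
    (T : Subgroup G) (hT : IsPGroup 2 T) : ∀ x ∈ T, ∀ y ∈ T, x * y = y * x := fun x hx y hy => by
  have : Fact (Nat.Prime 2) := ⟨Nat.prime_two⟩
  obtain ⟨g, -, hg⟩ := hE.exists_cj_le hT le_top
  simpa [mul_assoc] using conj_comm (h _ (hg (conj_mem_cj hx)) _ (hg (conj_mem_cj hy))) g⁻¹

theorem exists_of_S4 (e : Involves (Equiv.Perm (Fin 4)) G) : ∃ P : Subgroup G, IsPGroup 2 P ∧
    P ≠ ⊥ ∧ ∃ a ∈ 𝒩 P, ∃ b ∈ 𝒩 P, (∃ k, a ^ 2 ^ k = 1) ∧ (∃ k, b ^ 2 ^ k = 1) ∧
      ¬ ∃ k, (a * b) ^ 2 ^ k = 1 := by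
  have : Fact (Nat.Prime 2) := ⟨Nat.prime_two⟩
  obtain ⟨K, f, hf⟩ := involves_iff.1 e
  have := v4_normal
  obtain ⟨P, hP, e1, e2⟩ := H1.exists_lift_normal_pgroup hf (L := closure {Equiv.swap 0 1 *
    Equiv.swap 2 3, Equiv.swap 0 2 * Equiv.swap 1 3}) (KP.p2 (by constructor <;> decide))
  obtain ⟨a, ha, a1⟩ := e2 (Equiv.swap 0 1)
  obtain ⟨b, hb, b1⟩ := e2 (Equiv.swap 1 2)
  obtain ⟨a', ha', ⟨k, a2⟩, a3⟩ := H1.exists_two_elt_lift (f := f) ha (by rw [a1]; decide)
  obtain ⟨b', hb', ⟨l, b2⟩, b3⟩ := H1.exists_two_elt_lift (f := f) hb (by rw [b1]; decide)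
  refine ⟨_, hP.map K.subtype, fun e => ?_, _, H1.mem_normalizer_map_subtype ha', _,
    H1.mem_normalizer_map_subtype hb', ⟨k, congrArg Subtype.val a2⟩, ⟨l, congrArg Subtype.val b2⟩,
    fun ⟨m, hm⟩ => ?_⟩
  · rw [map_eq_bot_iff_of_injective _ K.subtype_injective] at e
    rw [e, Subgroup.map_bot] at e1
    exact absurd (mem_bot.1 (e1.ge (subset_closure (Set.mem_insert _ _)))) (by decide)
  · have := congrArg f (show (a' * b') ^ 2 ^ m = 1 from Subtype.ext hm)
    rw [map_pow, map_mul, a3, b3, a1, b1, map_one] at this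
    exact absurd (eq_one_of_pow_coprime (m := 3) (Nat.Coprime.pow_right m (by norm_num)) (by decide)
      this) (by decide)

end general

section ree
variable {G : Type*} [Group G] [Finite G]

theorem ree_struct (h : IsReeType G) : ∃ (t : G) (K R D : Subgroup G) (u : G) (q : ℕ),
    KS K R D u q ∧ t * t = 1 ∧ t ∉ K ∧ (∀ k ∈ K, t * k = k * t) ∧
      (∀ g, g * t = t * g → g ∈ K ∨ t * g ∈ K) ∧ Odd (𝒞₁ t).index := by
  obtain ⟨-, -, t, K, n, hn, h1, h2, ⟨-, -, a1, a2, a3⟩, F, _, _, hF, ⟨e⟩⟩ := h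
  have tt : t * t = 1 := by rw [← sq, ← h1, pow_orderOf_eq_one]
  have k := (ks_psl hn hF).map (K.subtype.comp e.symm.toMonoidHom)
    (K.subtype_injective.comp e.symm.injective)
  rw [← map_map, map_top_of_surjective _ e.symm.surjective, ← MonoidHom.range_eq_map,
    range_subtype] at k
  refine ⟨t, K, _, _, _, _, k, tt, fun e => ?_, a1 t (mem_zpowers t), fun g hg => ?_, h2⟩
  · have := mem_bot.1 (a2.le ⟨mem_zpowers t, e⟩)
    simp [this] at h1
  · obtain ⟨a, ha, b, hb, rfl⟩ := (mem_sup_of_le_normalizer_right (zpowers_le.2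
      (mem_normalizer_of_forall fun y hy => by
        rwa [a1 t (mem_zpowers t) y hy, mul_inv_cancel_right]))).1 (a3.ge (mem_c1.2 hg))
    rcases (mem_zp_inv tt).1 ha with rfl | rfl
    · left; rwa [one_mul]
    · right; rwa [← mul_assoc, tt, one_mul]

theorem ree_ab (h : IsReeType G) (T : Subgroup G) (hT : IsPGroup 2 T) :
    ∀ x ∈ T, x * x = 1 := fun y hy => by
  have : Fact (Nat.Prime 2) := ⟨Nat.prime_two⟩
  obtain ⟨t, K, R, D, u, q, ks, tt, -, c1, c2, od⟩ := ree_struct h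
  obtain ⟨j, hj⟩ := isPGroup_iff_forall.1 hT y hy
  obtain ⟨P, hP⟩ := exists_isSyl 2 (𝒞₁ t)
  obtain ⟨g, -, hg⟩ := (hP.trans le_top (by
    rw [relIndex_top_right]; exact od.not_two_dvd_nat)).exists_conj_mem (mem_top y) ⟨j, hj⟩
  have e := conj_pow_one hj g
  suffices g * y * g⁻¹ * (g * y * g⁻¹) = 1 by simpa [mul_assoc] using conj_sq this g⁻¹
  have c := mem_c1.1 (hP.le hg)
  generalize g * y * g⁻¹ = z at e c
  rcases c2 z c with e1 | e1
  · exact ks.two z e1 j e
  · have cm : Commute t z := c.symm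
    have := ks.two _ e1 (j + 1) (by
      rw [cm.mul_pow, pow_succ, pow_mul z, e, one_pow, mul_comm, pow_mul, sq, tt, one_pow, mul_one])
    rwa [mul_assoc, ← mul_assoc z, c, mul_assoc, ← mul_assoc t t, tt, one_mul] at this

theorem ree_inv3 (h : IsReeType G) : Inv 3 (⊤ : Subgroup G) := by
  by_contra h3
  obtain ⟨t, K, R, D, u, q, ks, tt, tK, c1, c2, od⟩ := ree_struct h
  have := h.1
  have e := (Shrink.mulEquiv.{0} (α := G)).symm
  have : Finite (Shrink.{0} G) := Finite.of_equiv _ e.toEquiv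
  have := e.symm.isSimpleGroup
  refine RT.false (t := e t) ⟨ks.map e.toMonoidHom e.injective, by rw [← map_mul, tt, map_one],
    fun a => tK ((mem_map_iff_mem e.injective).1 a), ?_, fun g hg => ?_, ?_, fun N hN => ?_,
    fun a => h3 (a.of_injective (f := e.symm.toMonoidHom) e.symm.injective)⟩
  · rintro _ ⟨k, hk, rfl⟩
    exact (map_mul e _ _).symm.trans ((congrArg e (c1 k hk)).trans (map_mul e _ _))
  · obtain ⟨g, rfl⟩ := e.surjective g
    rw [← map_mul, ← map_mul, e.apply_eq_iff_eq] at hg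
    rw [← map_mul]
    exact (c2 g hg).imp (mem_map_of_mem e.toMonoidHom) (mem_map_of_mem e.toMonoidHom)
  · have : 𝒞₁ (e t) = (𝒞₁ t).map e := by
      ext g
      obtain ⟨g, rfl⟩ := e.surjective g
      rw [mem_c1, ← map_mul, ← map_mul, e.apply_eq_iff_eq, ← mem_c1]
      exact (mem_map_iff_mem (f := (e : G →* Shrink.{0} G)) e.injective).symm
    rwa [this, index_map_equiv]
  · rcases (normal_of_index_eq_two hN).eq_bot_or_eq_top with rfl | rfl
    · rw [index_bot, ← Nat.card_congr e.toEquiv] at hN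
      have : Fact (Nat.Prime 2) := ⟨Nat.prime_two⟩
      have := isCyclic_of_prime_card hN
      exact h.2.1 inferInstance
    · simp at hN

end ree

section L2
open scoped MatrixGroups
open H3

variable {F : Type*} [Field F] [Fintype F]

theorem inv3_psl (h3 : (3 : F) ≠ 0) : Inv 3 (⊤ : Subgroup PSL(2, F)) := by
  obtain ⟨w, h1, h2⟩ := exists_inverter (comp (-1 : F)) (by
    rw [tr_comp]; exact fun e => h3 (by linear_combination -e))
  have s : ∀ {A : SL(2, F)}, tr A = 0 → (A : PSL(2, F)) * A = 1 := fun e =>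
    mk_eq_one_SL2.2 (Or.inr (mul_self_of_trace_eq_zero e))
  have e : (w : PSL(2, F)) * (w * comp (-1 : F) : SL(2, F)) = (comp (-1 : F) : SL(2, F)) := by
    rw [QuotientGroup.mk_mul, ← mul_assoc, s h1, one_mul]
  refine inv3_of_pair (s h1) (s h2) ?_ ?_ <;> rw [e]
  · rw [← QuotientGroup.mk_pow, mk_eq_one_SL2]
    exact Or.inl (SL2_ext (by simp [comp, mkSL_coe, pow_succ]))
  · rw [Ne, mk_eq_one_SL2]
    rintro (e | e) <;> simpa [comp, mkSL_coe] using congrArg (fun A : SL(2, F) => A 1 0) e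

theorem not_inv3_psl {n : ℕ} (h : Fintype.card F = 3 ^ (2 * n + 1)) :
    ¬ Inv 3 (⊤ : Subgroup PSL(2, F)) := fun e => by
  have : Fact (Nat.Prime 3) := ⟨Nat.prime_three⟩
  have h3 : CharP F 3 := charP_of_card_eq_prime_pow h
  have three : (3 : F) = 0 := by exact_mod_cast CharP.cast_eq_zero F 3
  obtain ⟨P, hP⟩ := exists_sylow_eq (F := F) 3
  obtain ⟨x, hx, h1, g, -, hg⟩ := e.exists_mem (isSyl_sylow P)
  obtain ⟨b, rfl⟩ := H3.mem_uHom_range.1 (hP ▸ hx)
  obtain ⟨A, rfl⟩ := QuotientGroup.mk_surjective g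
  have b0 : b ≠ 0 := by rintro rfl; exact h1 (by rw [U_zero]; rfl)
  rw [mul_inv_eq_iff_eq_mul, ← QuotientGroup.mk_inv, ← U_neg, ← QuotientGroup.mk_mul,
    ← QuotientGroup.mk_mul, mk_eq_mk_SL2] at hg
  have hd := det_SL2 A
  refine (FiniteField.isSquare_neg_one_iff (F := F)).1 ⟨A 0 0, ?_⟩ (by
    rw [h, pow_succ, pow_mul, Nat.mul_mod, Nat.pow_mod]; simp)
  rcases hg with e | e
  · have e1 := congrArg (fun A : SL(2, F) => A 0 0) e
    have e2 := congrArg (fun A : SL(2, F) => A 0 1) e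
    simp [U_coe, Matrix.mul_apply, b0] at e1 e2
    apply mul_left_cancel₀ b0
    linear_combination b * hd - A 0 0 * e2 + b * A 0 1 * e1
  · have e1 := congrArg (fun A : SL(2, F) => A 0 0) e
    have e2 := congrArg (fun A : SL(2, F) => A 1 0) e
    simp [U_coe, Matrix.mul_apply, Matrix.vecMul, dotProduct] at e1 e2
    have c : A 1 0 = 0 := by linear_combination -e2 + A 1 0 * three
    have a : A 0 0 = 0 := by linear_combination -e1 + A 0 0 * three - b * c
    rw [a, c] at hd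
    simp at hd

theorem not_eight_psl (h : Fintype.card F % 8 = 3 ∨ Fintype.card F % 8 = 5) :
    ¬ 8 ∣ Nat.card PSL(2, F) := fun e => by
  have e1 := card_PSL2_mul (F := F)
  rw [show Nat.gcd 2 (Fintype.card F - 1) = 2 from Nat.gcd_eq_left (by omega)] at e1
  have e3 : 2 ^ 4 ∣ Fintype.card F * (Fintype.card F ^ 2 - 1) := e1 ▸ Nat.mul_dvd_mul_right e 2
  have := Nat.Coprime.dvd_of_dvd_mul_left (Nat.Coprime.pow_left 4
    (Nat.coprime_two_left.2 (Nat.odd_iff.2 (by omega)))) e3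
  have e2 : Fintype.card F ^ 2 % 16 = 9 := by
    rw [Nat.pow_mod]
    have : Fintype.card F % 16 = 3 ∨ Fintype.card F % 16 = 11 ∨ Fintype.card F % 16 = 5 ∨
      Fintype.card F % 16 = 13 := by omega
    rcases this with e | e | e | e <;> rw [e]
  omega

end L2

section U3
open H3 H3.U3

variable {F : Type*} [Field F] [CharP F 2] {σ : F →+* F} [Invol σ]

theorem u3_inv3 : Inv 3 (⊤ : Subgroup (U3 σ ⧸ center (U3 σ))) := by
  have two : (2 : F) = 0 := CharTwo.two_eq_zero
  have hc : (1 : F) + σ 1 + 0 * σ 0 = 0 := by simp [CharTwo.add_self_eq_zero]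
  have e1 : u (σ := σ) 0 1 hc * u 0 1 hc = 1 := by
    rw [u_mul]; exact (u_congr _ (by simp) (by simp [CharTwo.add_self_eq_zero])).trans (u_zero (by simp))
  have e2 : (w σ * u 0 1 hc) ^ 3 = 1 := M_injective (by
    ext i j
    simp only [pow_succ, pow_zero, one_mul, M_mul_apply]
    fin_cases i <;> fin_cases j <;> simp [M_w, M_u, M_one, CharTwo.add_self_eq_zero, CharTwo.neg_eq])
  refine inv3_of_pair (a := (w σ : U3 σ)) (b := (u 0 1 hc : U3 σ))
    (by rw [← QuotientGroup.mk_mul, w_mul_w]; rfl) (by rw [← QuotientGroup.mk_mul, e1]; rfl)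
    (by rw [← QuotientGroup.mk_mul, ← QuotientGroup.mk_pow, e2]; rfl) fun e => ?_
  have := congrArg (fun x => M x 0 2) (mem_center_iff.1 ((QuotientGroup.eq_one_iff _).1 e) (w σ))
  simp [M_mul_apply, M_w, M_u] at this

variable (σ) in
/-- the stabilizer of the first coordinate line -/
def u3B : Subgroup (U3 σ) where
  carrier := {g | M g 1 0 = 0 ∧ M g 2 0 = 0}
  one_mem' := by simp [M_one]
  mul_mem' := fun ha hb => by simp [M_mul_apply, ha.1, ha.2, hb.1, hb.2]
  inv_mem' := fun {g} hg => by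
    have h1 := col g 0 1
    have h2 := col g 0 2
    simp [hg.1, hg.2] at h1 h2
    have : M g 2 1 = 0 := h1.resolve_left fun e => by simp [e] at h2
    simp [M_inv_apply, Fin.rev, this, hg.2]

theorem u3B_mem_UU {g : U3 σ} (hg : g ∈ u3B σ) (h : ∃ k, g ^ 2 ^ k = 1) : g ∈ UU σ := by
  have e : ∀ n : ℕ, M (g ^ n) 0 0 = M g 0 0 ^ n := fun n => by
    induction n with
    | zero => simp [M_one]
    | succ n ih => rw [pow_succ, M_mul_apply, ih, hg.1, hg.2, pow_succ]; ring
  obtain ⟨k, hk⟩ := h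
  have e0 : M g 0 0 = 1 := by
    have := e (2 ^ k)
    rw [hk, M_one, Matrix.one_apply_eq] at this
    exact sub_eq_zero.1 (pow_eq_zero_iff (pow_ne_zero k two_ne_zero) |>.1
      (by rw [sub_pow_char_pow, ← this, one_pow, sub_self]))
  have h1 := col g 0 1
  have h2 := col g 0 2
  have h3 := col g 1 2
  have h4 := col g 2 2
  have h5 := M_det g
  simp [hg.1, hg.2, e0] at h1 h2
  have e2 : M g 2 2 = 1 := by rw [← Invol.invol (σ := σ) (M g 2 2), h2, map_one]
  have e1 : M g 1 1 = 1 := by simpa [Matrix.det_fin_three, hg.1, hg.2, e0, h1, e2] using h5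
  simp [h1, e1, e2] at h3 h4
  refine ⟨M g 1 2, M g 0 2, by linear_combination h4, M_injective ?_⟩
  ext i j
  fin_cases i <;> fin_cases j <;> simp [M_u, hg.1, hg.2, e0, e1, e2, h1]
  linear_combination h3

theorem u3B_of_conj {z g : U3 σ} (hz : z ∈ UU σ) (h1 : z ≠ 1) (h : g⁻¹ * z * g ∈ UU σ) :
    g ∈ u3B σ := by
  obtain ⟨a, b, hab, rfl⟩ := hz
  obtain ⟨c, e, hce, h2⟩ := h
  rw [mul_assoc, inv_mul_eq_iff_eq_mul] at h2
  have e0 := congrArg (fun x => M x 0 0) h2
  have e1 := congrArg (fun x => M x 1 0) h2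
  have e2 := col g 0 0
  simp [M_mul_apply, M_u] at e0 e1 e2
  have e3 : M g 2 0 = 0 := e1.elim (fun e => by
    subst e
    simp at e0
    exact e0.resolve_left fun e => h1 (by subst e; exact u_zero _)) id
  simp [e3] at e2
  exact ⟨e2, e3⟩

theorem u3_not_S4 [Finite F] (hs : ∀ a, ∃ b, b + σ b + a * σ a = 0) (hn : ∃ a, σ a ≠ a) :
    ¬ Involves (Equiv.Perm (Fin 4)) (U3 σ) := fun e => by
  have : Fact (Nat.Prime 2) := ⟨Nat.prime_two⟩
  obtain ⟨P, hP, h0, a, ha, b, hb, a2, b2, hab⟩ := exists_of_S4 e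
  obtain ⟨S, hS, h1⟩ := exists_isSyl_ge (isPGroup_UU (σ := σ) 2) le_top
  have SU : S ≤ UU σ := fun y hy => by
    obtain ⟨s, hs', s1⟩ := FT.exists_ne_one (FT.inf_cent_ne_bot_of_pgroup Nat.prime_two hS.isPGroup
      hS.isPGroup le_normalizer fun e => by
        obtain ⟨c, hc⟩ := hs 1
        have := congrArg (fun x => M x 1 2) (mem_bot.1 (e.le (h1 ⟨1, c, hc, rfl⟩)))
        simp [M_u, M_one] at this)
    obtain ⟨l, c, hc, e1⟩ := eq_of_comm hs hn fun k hk => (hs'.2 k (h1 hk)).symm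
    have sU := u3B_mem_UU (g := s) ⟨by simp [e1, M_u], by simp [e1, M_u]⟩
      (isPGroup_iff_forall.1 hS.isPGroup s hs'.1)
    exact u3B_mem_UU (u3B_of_conj sU s1 (by
      rwa [mul_assoc, ← hs'.2 y hy, inv_mul_cancel_left])) (isPGroup_iff_forall.1 hS.isPGroup y hy)
  obtain ⟨g, -, hg⟩ := hS.exists_cj_le hP le_top
  obtain ⟨z, hz, z1⟩ := FT.exists_ne_one h0
  have key : ∀ a ∈ 𝒩 P, (∃ k, a ^ 2 ^ k = 1) → g * a * g⁻¹ ∈ UU σ := fun a ha ⟨k, hk⟩ =>
    u3B_mem_UU (u3B_of_conj (SU (hg (conj_mem_cj hz))) (by simpa) (by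
      simpa [mul_assoc] using SU (hg (conj_mem_cj (conj_mem_of_mem_normalizer' ha hz)))))
      ⟨k, conj_pow_one hk g⟩
  obtain ⟨k, hk⟩ := isPGroup_iff_forall.1 (isPGroup_UU (σ := σ) 2) _
    (mul_mem (key a ha a2) (key b hb b2))
  exact hab ⟨k, by simpa [mul_assoc] using conj_pow_one hk g⁻¹⟩

end U3

section J1
open H6 H4.J1

theorem j1_inv3 : Inv 3 (⊤ : Subgroup Grp) :=
  inv3_of_pair (a := evL ev [4]) (b := evL ev [4, 1]) (main.2.2 [4, 4] (by decide +kernel))
    (main.2.2 [4, 1, 4, 1] (by decide +kernel))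
    (by simpa [evL, pow_succ, mul_assoc] using main.2.2 [4, 4, 1, 4, 4, 1, 4, 4, 1] (by decide +kernel))
    (hφ.ne_one (w := [4, 4, 1]) (p := 100) (by decide +kernel))

theorem j1_two (T : Subgroup Grp) (hT : IsPGroup 2 T) : ∀ x ∈ T, x * x = 1 := fun x hx => by
  have : Fact (Nat.Prime 2) := ⟨Nat.prime_two⟩
  have := finite
  have o : ∀ w, fixB img 8 bs w = true → evL ev w = 1 := main.2.2
  have n : ∀ w, (inR 8 w && Nat.blt 100 1463 && !Nat.beq (trF img w 100) 100) = true →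
      evL ev w ≠ 1 := fun w => hφ.ne_one
  have c : ∀ v w, fixB img 8 bs (v ++ v) = true → fixB img 8 bs (w ++ w) = true →
      fixB img 8 bs (v ++ w ++ (v ++ w)) = true → evL ev v * evL ev w = evL ev w * evL ev v :=
    fun v w a b c => by
      have a := o _ a
      have b := o _ b
      have c := o _ c
      simp only [evL_append] at a b c
      rw [← inv_self_of c, mul_inv_rev, inv_self_of a, inv_self_of b]
  have k : KP (evL ev [3]) (evL ev [2, 3, 1]) := ⟨o [3, 3] (by decide +kernel),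
    by rw [← evL_append]; exact o _ (by decide +kernel), n _ (by decide +kernel),
    n _ (by decide +kernel), fun e => n [3, 2, 3, 1] (by decide +kernel) (by
      rw [show [3, 2, 3, 1] = [3] ++ [2, 3, 1] from rfl, evL_append, e, ← evL_append]
      exact o _ (by decide +kernel)),
    c _ _ (by decide +kernel) (by decide +kernel) (by decide +kernel)⟩
  have t2 : evL ev [5] * evL ev [5] = 1 := o [5, 5] (by decide +kernel)
  have c1 := c [3] [5] (by decide +kernel) (by decide +kernel) (by decide +kernel)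
  have c2 := c [2, 3, 1] [5] (by decide +kernel) (by decide +kernel) (by decide +kernel)
  have hc : ∀ y ∈ closure {evL ev [3], evL ev [2, 3, 1]}, y * evL ev [5] = evL ev [5] * y :=
    fun y hy => mem_c1.1 (closure_pair_le (mem_c1.2 c1) (mem_c1.2 c2) hy)
  have nt : zpowers (evL ev [5]) ≤ 𝒩 (closure {evL ev [3], evL ev [2, 3, 1]}) :=
    zpowers_le.2 (mem_normalizer_of_forall fun y hy => by rwa [← hc y hy, mul_inv_cancel_right])
  have sq : ∀ y ∈ closure {evL ev [3], evL ev [2, 3, 1]} ⊔ zpowers (evL ev [5]), y * y = 1 :=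
    fun y hy => by
      obtain ⟨a, ha, b, hb, rfl⟩ := (mem_sup_of_le_normalizer_left nt).1 hy
      have a2 : a * a = 1 := by
        rcases (H3.mem_closure_pair_of_comm k.ss k.ww k.comm).1 ha with rfl | rfl | rfl | rfl
        exacts [one_mul 1, k.ss, k.ww, k.mul.ww]
      rcases (mem_zp_inv t2).1 hb with rfl | rfl
      · rwa [mul_one]
      · rw [mul_assoc, ← mul_assoc _ a, ← hc a ha, mul_assoc, t2, mul_one, a2]
  have pE : IsPGroup 2 ↥(closure {evL ev [3], evL ev [2, 3, 1]} ⊔ zpowers (evL ev [5])) :=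
    isPGroup_iff_forall.2 fun y hy => ⟨1, by rw [pow_one, pow_two, sq y hy]⟩
  have lt : closure {evL ev [3], evL ev [2, 3, 1]} <
      closure {evL ev [3], evL ev [2, 3, 1]} ⊔ zpowers (evL ev [5]) := by
    refine lt_of_le_of_ne le_sup_left fun e => ?_
    have f : ∀ w, evL ev [5] = evL ev w → evL ev (w ++ [5]) = 1 := fun w e => by
      rw [evL_append, ← e, t2]
    rcases (H3.mem_closure_pair_of_comm k.ss k.ww k.comm).1 (e.ge (mem_sup_right (mem_zpowers _)))
      with e | e | e | e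
    · exact n _ (by decide +kernel) e
    · exact n _ (by decide +kernel) (f _ e)
    · exact n _ (by decide +kernel) (f _ e)
    · exact n _ (by decide +kernel) (f _ (e.trans (evL_append ..).symm))
  have c4 := four_le_card (T := closure {evL ev [3], evL ev [2, 3, 1]}) (subset_closure (by simp))
    (subset_closure (by simp)) k.ss k.s1 k.w1 k.ne.symm
  have c5 := (Set.ncard_le_ncard c4.1).trans_lt (card_lt_of_lt lt)
  obtain ⟨j, hj⟩ := pE.exists_card_eq
  have hE : IsSyl 2 (closure {evL ev [3], evL ev [2, 3, 1]} ⊔ zpowers (evL ev [5])) ⊤ := by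
    refine ⟨le_top, pE, fun e => ?_⟩
    have e1 := card_mul_relIndex (le_top (a := closure {evL ev [3], evL ev [2, 3, 1]} ⊔
      zpowers (evL ev [5])))
    rw [c4.2, hj] at c5
    rw [card_top, main.1, hj] at e1
    have : 2 ^ 3 ∣ 2 ^ j := pow_dvd_pow 2 (by
      by_contra hn
      have := Nat.pow_le_pow_right two_pos (show j ≤ 2 by omega)
      omega)
    have := e1 ▸ mul_dvd_mul this e
    omega
  obtain ⟨g, -, hg⟩ := hE.exists_cj_le hT le_top
  simpa [mul_assoc] using conj_sq (sq _ (hg (conj_mem_cj hx))) g⁻¹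

end J1

section main
variable {G : Type*} [Group G] [Finite G]

theorem comm_of_sq {T : Subgroup G} (h : ∀ x ∈ T, x * x = 1) : ∀ x ∈ T, ∀ y ∈ T, x * y = y * x :=
  fun x hx y hy => by
    rw [← inv_self_of (h _ (mul_mem hx hy)), mul_inv_rev, inv_self_of (h x hx), inv_self_of (h y hy)]

theorem not_three_of_sz (h : Lie.IsoSuzuki G) : ¬ 3 ∣ Nat.card G := fun e => by
  have : Fact (Nat.Prime 3) := ⟨Nat.prime_three⟩
  obtain ⟨x, hx⟩ := exists_prime_orderOf_dvd_card' 3 e
  rw [(szA_of_isoSuzuki h).no3 x (mem_top _) (hx ▸ pow_orderOf_eq_one x)] at hx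
  simp at hx

theorem gold_not_S4 (h : IsGoldschmidtGroup G) : ¬ Involves (Equiv.Perm (Fin 4)) G := by
  have : Fact (Nat.Prime 2) := ⟨Nat.prime_two⟩
  have c : Nat.card (Equiv.Perm (Fin 4)) = 24 := by rw [Nat.card_perm]; simp [Nat.factorial]
  rcases h with h | ⟨F, _, _, n, -, hF, ⟨e⟩⟩ | h | ⟨F, _, _, n, -, hF, ⟨e⟩⟩ |
    ⟨F, _, _, q, rfl, -, hq, ⟨e⟩⟩ | ⟨⟨e⟩⟩
  · exact not_S4_of_ab fun T hT => comm_of_sq (ree_ab h T hT)
  · rw [involves_congr_right e]
    have := charP_of_card_eq_prime_pow hF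
    obtain ⟨P, hP⟩ := H3.exists_sylow_eq (F := F) 2
    refine not_S4_of_ab (ab_of_syl (isSyl_sylow P) ?_)
    rw [hP]
    rintro _ ⟨a, rfl⟩ _ ⟨b, rfl⟩
    rw [← map_mul, mul_comm, map_mul]
  · exact fun e => not_three_of_sz h ((by norm_num : 3 ∣ 24).trans (c ▸ Involves.card_dvd e))
  · rw [involves_congr_right e]
    have hF' : Fintype.card F = (2 ^ n) ^ 2 := by rw [hF, ← pow_mul, mul_comm, pow_mul]; rfl
    have := charP_of_card_eq_prime_pow (p := 2) (hF'.trans (pow_mul 2 n 2).symm)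
    obtain ⟨e'⟩ := H3.nonempty_U3_equiv hF'
    exact fun a => u3_not_S4 (H3.frobq_exists_tr hF') (H3.frobq_exists_ne hF')
      ((involves_congr_right e').2 (involves_trans a (involves_of_surjective
        (QuotientGroup.mk'_surjective _))))
  · rw [involves_congr_right e]
    exact fun a => not_eight_psl hq ((by norm_num : 8 ∣ 24).trans (c ▸ Involves.card_dvd a))
  · obtain ⟨e'⟩ := H4.J1.iso
    have := H4.J1.finite
    rw [involves_congr_right (e.trans e'.symm)]
    exact not_S4_of_ab fun T hT => comm_of_sq (j1_two T hT)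

theorem not_inv3_of_szl (h : IsSuzukiOrPSL2OddPowerThree G) : ¬ Inv 3 (⊤ : Subgroup G) := by
  rcases h with h | ⟨F, _, _, n, hF, ⟨e⟩⟩
  · rintro ⟨x, -, h1, ⟨k, h2⟩, -⟩
    exact h1 (eq_one_of_pElt_of_coprime ⟨k, h2⟩ (Nat.Coprime.coprime_dvd_left (orderOf_dvd_natCard x)
      ((Nat.Prime.coprime_iff_not_dvd Nat.prime_three).2 (not_three_of_sz h)).symm))
  · exact fun a => not_inv3_psl hF (a.of_injective (f := e.toMonoidHom) e.injective)

theorem szl_of_gold (h : IsGoldschmidtGroup G) (h3 : ¬ Inv 3 (⊤ : Subgroup G)) :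
    IsSuzukiOrPSL2OddPowerThree G := by
  have : Fact (Nat.Prime 2) := ⟨Nat.prime_two⟩
  rcases h with h | ⟨F, _, _, n, -, hF, ⟨e⟩⟩ | h | ⟨F, _, _, n, -, hF, ⟨e⟩⟩ |
    ⟨F, _, _, q, rfl, -, hq, ⟨e⟩⟩ | ⟨⟨e⟩⟩
  · exact absurd (ree_inv3 h) h3
  · have := charP_of_card_eq_prime_pow hF
    exact absurd ((inv3_psl fun a => one_ne_zero (α := F) (by
      linear_combination a - CharTwo.two_eq_zero (R := F))).of_injective
      (f := e.symm.toMonoidHom) e.symm.injective) h3
  · exact Or.inl h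
  · have hF' : Fintype.card F = (2 ^ n) ^ 2 := by rw [hF, ← pow_mul, mul_comm, pow_mul]; rfl
    have := charP_of_card_eq_prime_pow (p := 2) (hF'.trans (pow_mul 2 n 2).symm)
    obtain ⟨e'⟩ := H3.nonempty_U3_equiv hF'
    have e2 := (H3.centerQuotCongr e').trans e.symm
    exact absurd (u3_inv3.of_injective (f := e2.toMonoidHom) e2.injective) h3
  · by_cases a : (3 : F) = 0
    · obtain ⟨p, _, n, hp, hn⟩ := FiniteField.card' F
      obtain rfl : p = 3 := (Nat.prime_dvd_prime_iff_eq hp Nat.prime_three).1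
        ((CharP.cast_eq_zero_iff F p 3).1 (by exact_mod_cast a))
      obtain ⟨m, hm | hm⟩ := Nat.even_or_odd' (n : ℕ)
      · rw [hn, hm, pow_mul, Nat.pow_mod] at hq
        simp at hq
      · exact Or.inr ⟨F, _, _, m, hm ▸ hn, ⟨e⟩⟩
    · exact absurd ((inv3_psl a).of_injective (f := e.symm.toMonoidHom) e.symm.injective) h3
  · obtain ⟨e'⟩ := H4.J1.iso
    have e2 := e'.trans e.symm
    exact absurd (j1_inv3.of_injective (f := e2.toMonoidHom) e2.injective) h3

end main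

end Cfsg.H8
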