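import Cfsg.Agent.H8.Gold
import Cfsg.Agent.H8.FFree
import Cfsg.Agent.S2796
import Cfsg.Agent.GS.Defs

/-! Consequences of Goldschmidt's theorem for `S₄`-free and `S₃`-free groups. -/

set_option autoImplicit false
set_option linter.unusedSectionVars false

universe u

namespace Cfsg.H8

open Subgroup Cfsg.L0

local notation "𝒩" X:max => Subgroup.normalizer (SetLike.coe X)
local notation "𝒞" X:max => Subgroup.centralizer (SetLike.coe X)
local notation "𝒞₁" x:max => Subgroup.centralizer (singleton x : Set _)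

section congr
variable {G X : Type*} [Group G] [Group X]

theorem comm_congr (e : G ≃* X) (h : ¬ IsMulCommutative X) : ¬ IsMulCommutative G := fun a =>
  h ⟨⟨fun x y => e.symm.injective (by rw [map_mul, map_mul, a.1.1])⟩⟩

theorem map_c1 (e : X ≃* G) (t : X) : (𝒞₁ t).map e.toMonoidHom = 𝒞₁ (e t) := by
  ext g
  obtain ⟨x, rfl⟩ := e.surjective g
  rw [mem_c1, ← map_mul, ← map_mul, e.injective.eq_iff, ← mem_c1]
  exact mem_map_iff_mem (f := e.toMonoidHom) e.injective

theorem ree_congr (e : G ≃* X) (h : IsReeType X) : IsReeType G := by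
  obtain ⟨a, b, t, K, n, hn, h1, h2, ⟨a1, a2, a3, a4, a5⟩, F, _, _, hF, ⟨f⟩⟩ := h
  have i : Function.Injective e.symm.toMonoidHom := e.symm.injective
  refine ⟨e.isSimpleGroup, comm_congr e b, e.symm t, K.map e.symm.toMonoidHom, n, hn,
    (e.symm.orderOf_eq t).trans h1, ?_, ?_, F, _, _, hF, ⟨(equivMapOfInjective K _ i).symm.trans f⟩⟩
  · rwa [← map_c1, index_map_of_bijective e.symm.bijective]
  · rw [← map_c1, show zpowers (e.symm t) = (zpowers t).map e.symm.toMonoidHom from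
      (MonoidHom.map_zpowers e.symm.toMonoidHom t).symm]
    refine ⟨map_mono a1, map_mono a2, ?_, by rw [← map_inf _ _ _ i, a4, Subgroup.map_bot],
      by rw [← Subgroup.map_sup, a5]⟩
    rintro _ ⟨x, hx, rfl⟩ _ ⟨y, hy, rfl⟩
    rw [← map_mul, ← map_mul, a3 x hx y hy]

theorem gold_congr (e : G ≃* X) (h : IsGoldschmidtGroup X) : IsGoldschmidtGroup G := by
  rcases h with h | ⟨F, _, _, n, a, hF, ⟨f⟩⟩ | ⟨F, _, _, n, a, hF, ⟨f⟩⟩ | ⟨F, _, _, n, a, hF, ⟨f⟩⟩ |
    ⟨F, _, _, q, a, b, hq, ⟨f⟩⟩ | ⟨⟨f⟩⟩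
  · exact .inl (ree_congr e h)
  · exact .inr (.inl ⟨F, _, _, n, a, hF, ⟨e.trans f⟩⟩)
  · exact .inr (.inr (.inl ⟨F, _, _, n, a, hF, ⟨e.trans f⟩⟩))
  · exact .inr (.inr (.inr (.inl ⟨F, _, _, n, a, hF, ⟨e.trans f⟩⟩)))
  · exact .inr (.inr (.inr (.inr (.inl ⟨F, _, _, q, a, b, hq, ⟨e.trans f⟩⟩))))
  · exact .inr (.inr (.inr (.inr (.inr ⟨e.trans f⟩))))

end congr

theorem gold_of_sc (hG : GS.GoldSimple) {G : Type*} [Group G] [Finite G] [IsSimpleGroup G]
    (hna : ¬ IsMulCommutative G) {S A : Subgroup G} (hS : IsSyl 2 S ⊤) (h0 : A ≠ ⊥)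
    (h1 : A ≤ 𝒞 A) (h2 : IsStronglyClosed A S) : IsGoldschmidtGroup G := by
  have : Fact (Nat.Prime 2) := ⟨Nat.prime_two⟩
  have e := (Shrink.mulEquiv.{0} (α := G)).symm
  have := Finite.of_equiv _ e.toEquiv
  have s := hS.map e.toMonoidHom
  rw [map_top_of_surjective _ e.surjective] at s
  refine gold_congr e (hG _ e.symm.isSimpleGroup (comm_congr e.symm hna) s.toSylowTop
    (A.map e.toMonoidHom) (by rwa [Ne, map_eq_bot_iff_of_injective _ e.injective])
    ⟨⟨?_⟩⟩ ⟨map_mono h2.1, ?_⟩).1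
  · rintro ⟨_, x, hx, rfl⟩ ⟨_, y, hy, rfl⟩
    exact Subtype.ext ((map_mul e x y).symm.trans ((congrArg e (h1 hx y hy).symm).trans
      (map_mul e y x)))
  · rintro _ ⟨x, hx, rfl⟩ g hg
    obtain ⟨g, rfl⟩ := e.surjective g
    have a : e g * e.toMonoidHom x * (e g)⁻¹ = e.toMonoidHom (g * x * g⁻¹) := by simp
    rw [a] at hg ⊢
    exact mem_map_of_mem _ (h2.2 x hx g ((mem_map_iff_mem (f := e.toMonoidHom) e.injective).1 hg))

theorem even_of_simple (hF : FT.OddOrder) {G : Type*} [Group G] [Finite G] [IsSimpleGroup G]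
    (hna : ¬ IsMulCommutative G) : Even (Nat.card G) := by
  by_contra h
  have e := Shrink.mulEquiv.{0} (α := G)
  have := Finite.of_equiv _ e.symm.toEquiv
  have := hF (Shrink.{0} G) (by rwa [Nat.card_congr e.toEquiv, ← Nat.not_even_iff_odd])
  have := Group.isSolvable_of_surjective (f := e.toMonoidHom) e.surjective
  exact hna ⟨⟨IsSimpleGroup.comm_iff_isSolvable.2 this⟩⟩

theorem involves_factor {G : Type*} [Group G] (H : Subgroup G) (N : Subgroup H) [N.Normal] :
    Involves (H ⧸ N) G :=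
  involves_trans (involves_of_surjective (QuotientGroup.mk'_surjective N)) (involves_subgroup H)

theorem Involves.equiv_of_card {G Y : Type*} [Group G] [Group Y] [Finite G] (h : Involves Y G)
    (hc : Nat.card G ≤ Nat.card Y) : Nonempty (G ≃* Y) := by
  obtain ⟨K, f, hf⟩ := involves_iff.1 h
  have a := Nat.card_le_card_of_surjective f hf
  obtain rfl : K = ⊤ := eq_top_of_le_card K (hc.trans a)
  exact ⟨topEquiv.symm.trans (.ofBijective f (hf.bijective_of_nat_card_le (by simpa using hc)))⟩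

theorem pCore_simple {G : Type*} [Group G] [Finite G] [IsSimpleGroup G] {p : ℕ} [Fact p.Prime]
    (hna : ¬ IsMulCommutative G) : pCore p G = ⊥ :=
  (IsSimpleGroup.eq_bot_or_eq_top_of_normal (pCore p G) inferInstance).resolve_right fun e => by
    have : Group.IsNilpotent G := ((e ▸ isPGroup_pCore p G : IsPGroup p (⊤ : Subgroup G)).of_equiv
      topEquiv).isNilpotent
    exact hna ⟨⟨IsSimpleGroup.comm_iff_isSolvable.2 inferInstance⟩⟩

theorem not_S4_of_not_inv3 {G : Type*} [Group G] [Finite G] (h : ¬ Inv 3 (⊤ : Subgroup G)) :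
    ¬ Involves (Equiv.Perm (Fin 4)) G := fun e =>
  h (inv_of_involves (hp := ⟨Nat.prime_three⟩) (by norm_num) (involves_top_iff.2 e)
    (inv3_of_pair (a := Equiv.swap 0 1) (b := Equiv.swap 1 2) (by decide) (by decide) (by decide)
      (by decide)))

theorem gold_of_not_S4 (hF : FT.OddOrder) (hG : GS.GoldSimple) {G : Type u} [Group G] [Finite G]
    [IsSimpleGroup G] (hna : ¬ IsMulCommutative G) (h : ¬ Involves (Equiv.Perm (Fin 4)) G) :
    IsGoldschmidtGroup G := by
  have : Fact (Nat.Prime 2) := ⟨Nat.prime_two⟩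
  have : Fact (Nat.Prime 3) := ⟨Nat.prime_three⟩
  induction hn : Nat.card G using Nat.strong_induction_on generalizing G with | _ n ih
  subst hn
  obtain ⟨S⟩ : Nonempty (Sylow 2 G) := inferInstance
  have hS := isSyl_sylow S
  obtain ⟨-, a2, a3, -⟩ := Cfsg.Agent.S2796.result h (fun K R _ c H _ N _ s na => by
    have i0 : Involves (K ⧸ R.subgroupOf K) G := involves_factor K _
    have i := involves_factor H N
    have n3 := not_inv3_of_S4 c fun a => h (involves_trans a i0)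
    have n3' : ¬ Inv 3 (⊤ : Subgroup (H ⧸ N)) := fun a =>
      n3 (inv_of_involves (by norm_num) (involves_top_iff.2 i) a)
    refine szl_of_gold (ih _ ?_ na (not_S4_of_not_inv3 n3') rfl) n3'
    refine (Nat.le_of_dvd Nat.card_pos (Involves.card_dvd i)).trans_lt (lt_of_not_ge fun a => ?_)
    obtain ⟨e⟩ := Involves.equiv_of_card i0 a
    have := e.symm.isSimpleGroup
    rw [pCore_simple (comm_congr e.symm hna), coe_bot, centralizer_eq_top_iff_subset.2 (by simp)] at c
    exact not_subsingleton _ (Subgroup.subsingleton_iff.1 (subsingleton_of_top_le_bot c)))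
    S _ rfl _ rfl
  refine gold_of_sc hG hna hS ?_ (H7.ea_le_centralizer a2) a3
  have s1 := H9.le_normalizer_J 2 (S : Subgroup G)
  refine fun e => H7.omegaOneCenter_ne_bot S.isPGroup' (fun b => ?_) (le_bot_iff.1
    ((le_ncl _ _).trans ((map_normalClosure_eq_ncl ((H7.omegaOneCenter_le 2 _).trans s1)).symm.trans
      e).le))
  have := hS.not_dvd
  rw [b, relIndex_bot_left, card_top] at this
  exact this (even_of_simple hF hna).two_dvd

theorem comp_of_not_inv3 (hF : FT.OddOrder) (hG : GS.GoldSimple) {G : Type u} [Group G] [Finite G]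
    (h : ¬ Inv 3 (⊤ : Subgroup G)) : IsCompositionKGroupWith IsSuzukiOrPSL2OddPowerThree G :=
  fun H _ N _ _ na =>
    have n3 : ¬ Inv 3 (⊤ : Subgroup (H ⧸ N)) := fun a => h (inv_of_involves
      (hp := ⟨Nat.prime_three⟩) (by norm_num) (involves_top_iff.2 (involves_factor H N)) a)
    szl_of_gold (gold_of_not_S4 hF hG na (not_S4_of_not_inv3 n3)) n3

theorem not_inv_of_ZJ {G : Type u} [Group G] [Finite G] {q : ℕ} [Fact q.Prime] (hq : q ≠ 2)
    (T : Sylow q G) (h : ∀ x ∈ (T : Subgroup G), x ≠ 1 →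
      ∀ g ∈ 𝒩 (centerThompsonAOf (T : Subgroup G)), g * x * g⁻¹ ≠ x⁻¹) :
    ¬ Inv q (⊤ : Subgroup G) := fun hI => by
  rw [centerThompsonAOf_eq] at h
  have hT := isSyl_sylow T
  have h2 := ctrl_ZJ_of_fOver_free hq (dvd_zero q) hT (sc_self _)
    (not_involves_fOver_of_not_inv hq fun hI => by
      obtain ⟨x, h2, h3, g, h4, h5⟩ := hI.exists_mem (hT.mono (le_inf le_top
        (le_normalizer.trans (normalizer_le_normalizer_ZJ 0 _))) le_top)
      exact h x h2 h3 g h4.2 h5)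
  obtain ⟨x, h3, h4, g, h5, h6⟩ := h2.inv hT hI
  exact h x h3 h4 g h5.2 h6

theorem sz_of_not_three (hF : FT.OddOrder) (hG : GS.GoldSimple) {G : Type*} [Group G] [Finite G]
    [IsSimpleGroup G] (hna : ¬ IsMulCommutative G) (h : ¬ 3 ∣ Nat.card G) : Lie.IsoSuzuki G := by
  have n3 : ¬ Inv 3 (⊤ : Subgroup G) := by
    rintro ⟨x, -, h1, ⟨k, h2⟩, -⟩
    exact h1 (eq_one_of_pElt_of_coprime ⟨k, h2⟩ (Nat.Coprime.coprime_dvd_left (orderOf_dvd_natCard x)
      ((Nat.Prime.coprime_iff_not_dvd Nat.prime_three).2 h).symm))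
  refine (szl_of_gold (gold_of_not_S4 hF hG hna (not_S4_of_not_inv3 n3)) n3).resolve_right ?_
  rintro ⟨F, _, _, n, hF, ⟨e⟩⟩
  have a : 3 ∣ Nat.card G * Nat.gcd 2 (Fintype.card F - 1) := by
    rw [Nat.card_congr e.toEquiv, H3.card_PSL2_mul, hF]
    exact (dvd_pow_self 3 (by omega)).mul_right _
  exact (Nat.prime_three.dvd_mul.1 a).elim h fun b => absurd (b.trans (Nat.gcd_dvd_left _ _))
    (by norm_num)

theorem s2754 (hF : FT.OddOrder) (hG : GS.GoldSimple) {G : Type*} [Group G] [Finite G]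
    [IsSimpleGroup G] (hna : ¬ IsMulCommutative G) :
    ¬ Involves (Equiv.Perm (Fin 4)) G ↔ IsGoldschmidtGroup G :=
  ⟨gold_of_not_S4 hF hG hna, gold_not_S4⟩

theorem s2757 (hF : FT.OddOrder) (hG : GS.GoldSimple) {G : Type u} [Group G] [Finite G]
    (T : Sylow 3 G) (h : ∀ x ∈ (T : Subgroup G), x ≠ 1 →
      ∀ g ∈ 𝒩 (centerThompsonAOf (T : Subgroup G)), g * x * g⁻¹ ≠ x⁻¹) :
    ¬ Involves (Equiv.Perm (Fin 3)) G ∧ IsCompositionKGroupWith IsSuzukiOrPSL2OddPowerThree G :=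
  have : Fact (Nat.Prime 3) := ⟨Nat.prime_three⟩
  have n := not_inv_of_ZJ (by norm_num) T h
  ⟨fun e => n (inv3_of_S3 e), comp_of_not_inv3 hF hG n⟩

end Cfsg.H8
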