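import Cfsg.Agent.H8.ReeG3
import Cfsg.Agent.H8.ReeC1

/-! In a group of Ree type some element of order 3 is real. -/

set_option autoImplicit false
set_option linter.unusedSectionVars false

namespace Cfsg.H8

open Subgroup Cfsg.L0 Cfsg.FT
open scoped ComplexConjugate commutatorElement

variable {G : Type} [Group G] [Finite G]

section
variable {X : Subgroup G} {φ : G → ℂ} {g u : G}

theorem ind_apply_on (hφ : Sp X φ) {S : Set G} (h : ∀ y, φ (y⁻¹ * g * y) ≠ 0 → y ∈ S) :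
    ind X ⊤ φ g = (♯X : ℂ)⁻¹ * ∑ y ∈ fs S, φ (y⁻¹ * g * y) := by
  rw [hφ.ind_apply, sum_fs_subset (A := S) (B := ((⊤ : Subgroup G) : Set G)) (fun _ _ => mem_top _)
    fun y _ hy => by_contra fun e => hy (h y e)]

theorem ind_apply_zero (hφ : Sp X φ) (h : ∀ y, φ (y⁻¹ * g * y) = 0) : ind X ⊤ φ g = 0 := by
  rw [hφ.ind_apply, sum_fs_eq_zero fun y _ => h y, mul_zero]

theorem ind_apply_one (hφ : CF X φ) (h : ∀ y, φ (y⁻¹ * g * y) ≠ 0 → y ∈ X) : ind X ⊤ φ g = φ g := by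
  rw [ind_apply_on hφ.sp (S := X) h, sum_fs_congr fun y hy => hφ.cnj' hy g, sum_sub_const,
    inv_mul_cancel_left₀ (card_ne_zero_c X)]

theorem ind_apply_two (hφ : CF X φ) (hu : u ∉ X)
    (h : ∀ y, φ (y⁻¹ * g * y) ≠ 0 → y ∈ X ∨ u⁻¹ * y ∈ X) :
    ind X ⊤ φ g = φ g + φ (u⁻¹ * g * u) := by
  rw [ind_apply_on hφ.sp (S := X ∪ {y | u⁻¹ * y ∈ X}) h, sum_fs_union (Set.disjoint_left.2
    fun y a b => hu (by simpa using mul_mem a (inv_mem b))),
    ← sum_fs_equiv (A := X) (B := {y | u⁻¹ * y ∈ X}) (Equiv.mulLeft u) (by simp),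
    sum_fs_congr fun y hy => hφ.cnj' hy g, sum_sub_const,
    sum_fs_congr (f' := fun _ => φ (u⁻¹ * g * u)) fun y hy => by
      rw [← hφ.cnj' hy (u⁻¹ * g * u)]; simp [mul_assoc],
    sum_sub_const, ← mul_add, inv_mul_cancel_left₀ (card_ne_zero_c X)]

end

namespace KS

variable {K R D : Subgroup G} {u : G} {q : ℕ} (h : KS K R D u q)
include h

theorem sum_B (f : G → ℂ) : ∑ b ∈ fs ((R ⊔ D : Subgroup G) : Set G), f b =
    ∑ d ∈ fs (D : Set G), ∑ x ∈ fs (R : Set G), f (x * d) := by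
  rw [← Finset.sum_product']
  symm
  refine Finset.sum_bij (fun p _ => p.2 * p.1) (fun p hp => ?_) (fun p hp p' hp' e => ?_)
    (fun b hb => ?_) fun _ _ => rfl
  · rw [Finset.mem_product, mem_fs, mem_fs] at hp
    exact mem_fs.2 (mul_mem (mem_sup_left hp.2) (mem_sup_right hp.1))
  · rw [Finset.mem_product, mem_fs, mem_fs] at hp hp'
    have := h.uniq hp.2 hp'.2 hp.1 hp'.1 e
    exact Prod.ext this.2 this.1
  · obtain ⟨x, hx, d, hd, rfl⟩ := h.memB.1 (mem_fs.1 hb)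
    exact ⟨(d, x), Finset.mem_product.2 ⟨mem_fs.2 hd, mem_fs.2 hx⟩, rfl⟩

end KS

namespace RT

variable {t : G} {K R D L : Subgroup G} {u d x y b : G} {q : ℕ} {μ F : G → ℂ} (h : RT t K R D u q)
include h

theorem memT (hL : L ≤ K) : y ∈ zpowers t ⊔ L ↔ y ∈ L ∨ t * y ∈ L := by
  have n : zpowers t ≤ 𝒩 L := zpowers_le.2 (mem_normalizer_of_forall fun y hy => by
    rwa [h.comm y (hL hy), mul_inv_cancel_right])
  rw [mem_sup_of_le_normalizer_right n]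
  constructor
  · rintro ⟨a, ha, b, hb, rfl⟩
    rcases (mem_zp_inv h.tt).1 ha with rfl | rfl
    · left; rwa [one_mul]
    · right; rwa [h.tl]
  · rintro (e | e)
    · exact ⟨1, one_mem _, y, e, one_mul y⟩
    · exact ⟨t, mem_zpowers t, _, e, h.tl y⟩

theorem not_mem (hL : L ≤ K) (hy : y ∈ L) : t * y ∉ L := fun e =>
  h.tK (hL (by simpa using mul_mem e (inv_mem hy)))

theorem sum_T (hL : L ≤ K) (f : G → ℂ) : ∑ y ∈ fs ((zpowers t ⊔ L : Subgroup G) : Set G), f y =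
    ∑ y ∈ fs (L : Set G), (f y + f (t * y)) := by
  rw [show ((zpowers t ⊔ L : Subgroup G) : Set G) = (L : Set G) ∪ {y | t * y ∈ L} from
    Set.ext fun _ => h.memT hL, sum_fs_union (B := {y | t * y ∈ L}) (Set.disjoint_left.2 fun y a => h.not_mem hL a),
    ← sum_fs_equiv (A := L) (B := {y | t * y ∈ L}) (Equiv.mulLeft t) (by simp [h.tl]),
    Finset.sum_add_distrib]
  rfl

theorem card_T (hL : L ≤ K) : (♯(zpowers t ⊔ L) : ℂ) = 2 * ♯L := by
  have := h.sum_T hL fun _ => 1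
  rw [sum_sub_const, sum_sub_const] at this
  linear_combination this

theorem exists_mu : ∃ μ, Lin (zpowers t ⊔ (R ⊔ D)) μ ∧ μ t = 1 ∧ (∀ x ∈ R, μ x = 1) ∧
    ∃ d ∈ D, μ d ≠ 1 := by
  have nD : D ≤ 𝒩 (zpowers t ⊔ R) := fun d hd => mem_normalizer_of_forall fun y hy => by
    rw [h.memT h.ks.RK] at hy ⊢
    refine hy.imp (h.ks.nrm d hd y) fun e => ?_
    have := h.ks.nrm d hd _ e
    rwa [← mul_assoc, ← h.comm d (h.ks.DK hd), mul_assoc t, mul_assoc t] at this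
  have hd : ⁅zpowers t ⊔ (R ⊔ D), zpowers t ⊔ (R ⊔ D)⁆ ≤ zpowers t ⊔ R := by
    rw [← sup_assoc, commutator_le]
    intro a ha b hb
    obtain ⟨m, hm, d, hd, rfl⟩ := (mem_sup_of_le_normalizer_left nD).1 ha
    obtain ⟨n, hn, e, he, rfl⟩ := (mem_sup_of_le_normalizer_left nD).1 hb
    have : ⁅m * d, n * e⁆ = m * (d * n * d⁻¹) * (e * m⁻¹ * e⁻¹) * n⁻¹ := by
      calc _ = m * (d * n * d⁻¹) * (d * e * d⁻¹) * m⁻¹ * e⁻¹ * n⁻¹ := by
            rw [commutatorElement_def]; group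
        _ = _ := by rw [h.ks.Dab hd he]; group
    rw [this]
    exact mul_mem (mul_mem (mul_mem hm (conj_mem_of_mem_normalizer (nD hd) hn))
      (conj_mem_of_mem_normalizer (nD he) (inv_mem hm))) (inv_mem hn)
  obtain ⟨μ, hμ⟩ := exists_irrKD (K := zpowers t ⊔ (R ⊔ D)) (M := zpowers t ⊔ R) (H := D)
    ⟨sup_le_sup_left le_sup_left _, by rw [← sup_assoc]; exact sup_le le_normalizer nD⟩ fun e => by
      have : D = ⊥ := eq_bot_iff.2 fun d hd => ((h.memT h.ks.RK).1 (e hd)).elim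
        (fun e => h.ks.RD e hd) fun e => absurd (h.ks.RK e) (h.not_mem le_rfl (h.ks.DK hd))
      have e1 := h.ks.cD
      have := h.ks.q27
      simp only [*, card_bot] at e1
      omega
  obtain ⟨a, b, c⟩ := mem_irrKD.1 hμ
  have l := lin_of_mem_irrK (mem_irrK.2 ⟨a, b⟩) hd
  refine ⟨μ, l, l.mem_cker.1 (b (mem_sup_left (mem_zpowers t))),
    fun x hx => l.mem_cker.1 (b (mem_sup_right hx)), by_contra fun hn => c fun d hd => ?_⟩
  exact l.mem_cker.2 (by_contra fun e => hn ⟨d, hd, e⟩)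

theorem acnt_t : acnt t = q * (q - 1) := by
  have e : {i : G | (i * i = 1 ∧ i ≠ 1) ∧ i * t * (i * t) = 1 ∧ i * t ≠ 1} =
      {k | k ∈ K ∧ k * k = 1 ∧ k ≠ 1} ∪ (t * ·) '' {k | k ∈ K ∧ k * k = 1 ∧ k ≠ 1} := by
    ext i
    constructor
    · rintro ⟨⟨a, b⟩, c, d⟩
      have e : i * t = t * i := by rw [← inv_self_of c, mul_inv_rev, h.tinv, inv_self_of a]
      obtain ⟨k, hk, rfl | rfl⟩ := h.exists_K e
      · exact Or.inl ⟨hk, a, b⟩
      · exact Or.inr ⟨k, ⟨hk, by rwa [h.tk_sq hk] at a, by rintro rfl; simp [h.tt] at d⟩, rfl⟩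
    · rintro (⟨a, b, c⟩ | ⟨k, ⟨a, b, c⟩, rfl⟩)
      · exact ⟨⟨b, c⟩, by rw [← h.comm i a, h.tk_sq a, b], by
          rw [← h.comm i a]; exact fun e => h.not_mem le_rfl a (e ▸ one_mem K)⟩
      · simp only []
        exact ⟨⟨by rw [h.tk_sq a, b], fun e => h.not_mem le_rfl a (e ▸ one_mem K)⟩,
          by rw [mul_assoc t, ← h.comm k a, h.tl]; exact ⟨b, c⟩⟩
  rw [acnt, e, Set.ncard_union_eq (Set.disjoint_left.2 (by
    rintro _ ⟨a, -⟩ ⟨k, ⟨b, -⟩, rfl⟩; exact h.not_mem le_rfl b a)),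
    Set.ncard_image_of_injective _ (mul_right_injective t), h.ks.ncard_inv, ← h.ks.cD]
  push_cast; ring

theorem inv_of_cnt {i g : G} (a : i * i = 1) (c : i * g * (i * g) = 1) : i * g * i⁻¹ = g⁻¹ := by
  rw [inv_self_of a, eq_inv_iff_mul_eq_one, ← c, mul_assoc]

theorem acnt_tx (hx : x ∈ R) (h1 : x ≠ 1) : acnt (t * x) = 0 := by
  rw [acnt, Nat.cast_eq_zero, Set.ncard_eq_zero]
  refine Set.eq_empty_of_forall_notMem fun i ⟨⟨a, _⟩, c, _⟩ => h1 ?_
  have := inv_pow_of (h.inv_of_cnt a c) 2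
  rw [sq, h.tk_sq (h.ks.RK hx)] at this
  exact eq_one_of_odd (h.ks.R_odd hx) (h.noinv (by
    rw [← sq, ← pow_mul, mul_comm, pow_mul, h.ks.R3 x hx, one_pow]) this)

theorem acnt_E {e : G} (he : e ∈ zpowers t ⊔ D) (h1 : e * e ≠ 1) : acnt e = q - 1 := by
  have ee : e * e ∈ D := by
    rcases (h.memT h.ks.DK).1 he with e1 | e1
    · exact mul_mem e1 e1
    · rw [← h.tl e, h.tk_sq (h.ks.DK e1)]; exact mul_mem e1 e1
  have ut := h.comm u h.ks.uK
  have sq : ∀ c ∈ zpowers t ⊔ D, u * c * (u * c) = 1 ∧ u * c ≠ 1 := fun c hc => by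
    rcases (h.memT h.ks.DK).1 hc with e1 | e1
    · exact ⟨h.ks.ud_sq e1, h.ks.ud_ne e1⟩
    · have uK := mul_mem h.ks.uK (h.ks.DK e1)
      rw [show u * c = t * (u * (t * c)) by rw [← mul_assoc u, ← ut, mul_assoc, h.tl], h.tk_sq uK]
      exact ⟨h.ks.ud_sq e1, fun e => h.not_mem le_rfl uK (e ▸ one_mem K)⟩
  have e1 : {i : G | (i * i = 1 ∧ i ≠ 1) ∧ i * e * (i * e) = 1 ∧ i * e ≠ 1} =
      (u * ·) '' (zpowers t ⊔ D : Subgroup G) := by
    ext i
    constructor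
    · rintro ⟨⟨a, -⟩, c, -⟩
      have := inv_pow_of (h.inv_of_cnt a c) 2
      rw [pow_two] at this
      clear c
      obtain ⟨c, hc, rfl | rfl⟩ := h.inv_d ee h1 (h.fus ee h1 (by
        have e2 := inv_mem ee
        rw [← this] at e2
        rwa [inv_self_of a] at e2 ⊢)) this
      · exact ⟨c, mem_sup_right hc, rfl⟩
      · exact ⟨t * c, mul_mem (mem_sup_left (mem_zpowers t)) (mem_sup_right hc), by
          simp only []; rw [← mul_assoc, ← ut, mul_assoc]⟩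
    · rintro ⟨c, hc, rfl⟩
      simp only []
      exact ⟨sq c hc, by rw [mul_assoc u]; exact sq _ (mul_mem hc he)⟩
  rw [acnt, e1, Set.ncard_image_of_injective _ (mul_right_injective u), ncard_sub, h.card_T h.ks.DK,
    ← h.ks.cD]
  push_cast; ring

section mu

variable (hμ : Lin (zpowers t ⊔ (R ⊔ D)) μ) (μt : μ t = 1) (μR : ∀ x ∈ R, μ x = 1)
  (μD : ∃ d ∈ D, μ d ≠ 1)
include hμ μt μR μD

theorem sum_mu (a b c : ℂ) : ∑ d ∈ fs (D : Set G), (a * μ d + b * (μ d * μ d) + c * μ d⁻¹) = 0 := by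
  have m : ∀ {d}, d ∈ D → d ∈ zpowers t ⊔ (R ⊔ D) := fun e => mem_sup_right (mem_sup_right e)
  obtain ⟨e, he, e1⟩ := μD
  have s1 : ∑ d ∈ fs (D : Set G), μ d = 0 := by
    have := sum_mul_left he μ
    rw [sum_fs_congr fun d hd => hμ.map_mul (m he) (m hd), ← Finset.mul_sum] at this
    exact (mul_eq_zero.1 (by linear_combination this)).resolve_left (sub_ne_zero.2 e1)
  have s2 : ∑ d ∈ fs (D : Set G), μ d * μ d = 0 := by
    have := sum_mul_left he fun d => μ d * μ d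
    rw [sum_fs_congr (f' := fun d => μ e * μ e * (μ d * μ d)) fun d hd => by
      rw [hμ.map_mul (m he) (m hd)]; ring, ← Finset.mul_sum] at this
    refine (mul_eq_zero.1 (by linear_combination this)).resolve_left
      (sub_ne_zero.2 fun (e2 : μ e * μ e = 1) => e1 ?_)
    obtain ⟨k, hk⟩ := h.ks.D_odd he
    have e3 := hμ.pow_eq_one (m he) (pow_orderOf_eq_one e)
    rwa [hk, pow_succ, pow_mul, sq, e2, one_pow, one_mul] at e3
  rw [Finset.sum_add_distrib, Finset.sum_add_distrib, ← Finset.mul_sum, ← Finset.mul_sum,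
    ← Finset.mul_sum, sum_inv, s1, s2]
  simp

theorem mu_t (hb : b ∈ R ⊔ D) : μ (t * b) = μ b := by
  rw [hμ.map_mul (mem_sup_left (mem_zpowers t)) (mem_sup_right hb), μt, one_mul]

theorem exists_phi : ∃ φ, VCh (zpowers t ⊔ (R ⊔ D)) φ ∧ (∀ b ∈ R ⊔ D, φ (t * b) = 2 * μ b) ∧
    ∀ y, φ y ≠ 0 → t * y ∈ R ⊔ D := by
  have n : (R ⊔ D) ⊴ zpowers t ⊔ (R ⊔ D) := ⟨le_sup_right, sup_le (zpowers_le.2
    (mem_normalizer_of_forall fun y hy => by
      rwa [h.comm y (h.ks.BK hy), mul_inv_cancel_right])) le_normalizer⟩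
  have e := ind_of_inert n.le (res_sp (R ⊔ D) μ) (hμ.cf.res_nrm n).le_inert
  have e2 : ((R ⊔ D).relIndex (zpowers t ⊔ (R ⊔ D)) : ℂ) = 2 := by
    apply mul_left_cancel₀ (card_ne_zero_c (R ⊔ D))
    rw [card_mul_ri_c n.le, h.card_T h.ks.BK, mul_comm]
  rw [e2] at e
  refine ⟨(2 : ℕ) • μ - (2 : ℂ) • res (R ⊔ D) μ, (hμ.vch.nsmul 2).sub
    (e ▸ (hμ.vch.res n.le).ind n.le), fun b hb => ?_, fun y hy => ?_⟩
  · simp [res_of_not_mem (h.not_mem h.ks.BK hb), h.mu_t hμ μt μR μD hb]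
  · by_cases e1 : y ∈ R ⊔ D
    · simp [res_of_mem e1] at hy
    · refine ((h.memT h.ks.BK).1 (hμ.sp.mem fun e => hy ?_)).resolve_left e1
      simp [res_of_not_mem e1, e]

theorem dot_phi {φ : G → ℂ} (φ1 : ∀ b ∈ R ⊔ D, φ (t * b) = 2 * μ b)
    (φ2 : ∀ y, φ y ≠ 0 → t * y ∈ R ⊔ D) (hF : CF ⊤ F) {c0 c1 a b c : ℂ} (f0 : conj (F t) = c0)
    (f1 : ∀ x ∈ R, x ≠ 1 → conj (F (t * x)) = c1)
    (f2 : ∀ d ∈ D, d ≠ 1 → conj (F (t * d)) = a + b * μ d + c * μ d⁻¹) :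
    dot (zpowers t ⊔ (R ⊔ D)) φ F * (q * ♯D) = c0 + (q - 1) * c1 + q * (c * ♯D - a - b - c) := by
  have m : ∀ {d}, d ∈ D → d ∈ zpowers t ⊔ (R ⊔ D) := fun e => mem_sup_right (mem_sup_right e)
  have e1 : ∀ d ∈ sharp D, ∑ x ∈ fs (R : Set G), 2 * μ (x * d) * conj (F (t * (x * d))) =
      2 * q * (a * μ d + b * (μ d * μ d) + 0 * μ d⁻¹ + c) := fun d hd => by
    rw [sum_fs_congr (f' := fun _ => 2 * (a * μ d + b * (μ d * μ d) + 0 * μ d⁻¹ + c)) fun x hx => by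
      obtain ⟨y, hy, e⟩ := h.ks.conj_xd hx hd.1 hd.2
      rw [hμ.map_mul (mem_sup_right (mem_sup_left hx)) (m hd.1), μR x hx, ← e, ← mul_assoc t,
        ← mul_assoc t, h.comm y (h.ks.RK hy), mul_assoc y, hF.cnj y (mem_top _), f2 d hd.1 hd.2]
      linear_combination 2 * c * hμ.mul_inv (m hd.1), sum_sub_const, h.ks.cR]
    ring
  have e2 := h.sum_mu hμ μt μR μD a b 0
  have e3 := sum_sub_const D c
  have e4 := sum_sub_const R (2 * c1)
  rw [sum_sub_sharp] at e2 e3 e4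
  rw [dot_def, h.sum_T h.ks.BK, h.card_T h.ks.BK, h.ks.cardB,
    sum_fs_congr (f' := fun b => 2 * μ b * conj (F (t * b))) fun b hb => by
      rw [φ1 b hb, (by_contra fun e => h.not_mem h.ks.BK hb (φ2 b e) : φ b = 0), zero_mul, zero_add],
    h.ks.sum_B, sum_sub_sharp, sum_fs_congr e1, ← Finset.mul_sum, Finset.sum_add_distrib,
    sum_sub_sharp, sum_fs_congr (A := sharp R) (f' := fun _ => 2 * c1) fun x hx => by
      rw [mul_one, μR x hx.1, f1 x hx.1 hx.2, mul_one]]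
  have n1 := card_ne_zero_c D
  have n2 := card_ne_zero_c R
  rw [h.ks.cR] at n2 e4
  simp only [mul_one, inv_one, hμ.one, f0] at e2 ⊢
  generalize ∑ x ∈ fs (sharp D), (a * μ x + b * (μ x * μ x) + 0 * μ x⁻¹) = S at *
  push_cast
  field_simp
  linear_combination e4 + 2 * q * e2 + 2 * q * e3

theorem dot_psi (hF : CF ⊤ F) {a b c : ℂ}
    (f : ∀ d ∈ D, d ≠ 1 → conj (F d) + conj (F (t * d)) = a + b * μ d + c * μ d⁻¹) :
    dot (zpowers t ⊔ D) (cf1 (zpowers t ⊔ D) - res (zpowers t ⊔ D) μ) F * 2 = a - c := by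
  have m : ∀ {d}, d ∈ D → d ∈ zpowers t ⊔ (R ⊔ D) := fun e => mem_sup_right (mem_sup_right e)
  have e2 := h.sum_mu hμ μt μR μD (b - a) (-b) c
  have e3 := sum_sub_const D (a - c)
  rw [dot_def, h.sum_T h.ks.DK, h.card_T h.ks.DK, sum_fs_congr (f' := fun d =>
    ((b - a) * μ d + -b * (μ d * μ d) + c * μ d⁻¹) + (a - c)) fun d hd => by
      have a1 : d ∈ zpowers t ⊔ D := mem_sup_right hd
      have a2 : t * d ∈ zpowers t ⊔ D := mul_mem (mem_sup_left (mem_zpowers t)) a1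
      simp only [Pi.sub_apply, cf1_of_mem a1, cf1_of_mem a2, res_of_mem a1, res_of_mem a2,
        h.mu_t hμ μt μR μD (mem_sup_right hd)]
      by_cases d1 : d = 1
      · simp only [d1, hμ.one, inv_one]; ring
      · linear_combination (1 - μ d) * f d hd d1 - c * hμ.mul_inv (m hd),
    Finset.sum_add_distrib, e2, e3]
  have n1 := card_ne_zero_c D
  field_simp
  ring

end mu

theorem pow_tb (hb : b ∈ R ⊔ D) : ∃ n, Odd n ∧ (t * b) ^ n = t :=
  ⟨_, h.ks.B_odd hb, by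
    rw [h.tk_pow (h.ks.BK hb), pow_orderOf_eq_one, mul_one, h.t_odd (h.ks.B_odd hb)]⟩

theorem fus_tb (hb : b ∈ R ⊔ D) (hy : t * (y⁻¹ * (t * b) * y) ∈ R ⊔ D) :
    ∃ k ∈ K, (y = k ∨ y = t * k) ∧ k⁻¹ * b * k ∈ R ⊔ D := by
  have e : y * t = t * y := by
    have o := (h.ks.B_odd hb).mul (h.ks.B_odd hy)
    have e1 := h.tk_pow (h.ks.BK hy) (orderOf b * orderOf (t * (y⁻¹ * (t * b) * y)))
    rw [h.tl, h.t_odd o, mul_comm (orderOf b), pow_mul (t * _), pow_orderOf_eq_one, one_pow, mul_one,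
      show y⁻¹ * (t * b) * y = y⁻¹ * (t * b) * y⁻¹⁻¹ by rw [inv_inv], conj_pow, inv_inv,
      h.tk_pow (h.ks.BK hb), mul_comm (orderOf _), h.t_odd o,
      pow_mul, pow_orderOf_eq_one, one_pow, mul_one, mul_assoc,
      inv_mul_eq_iff_eq_mul] at e1
    exact e1.symm
  have e1 : t * (y⁻¹ * (t * b) * y) = y⁻¹ * b * y := by
    rw [← mul_assoc y⁻¹, (Commute.inv_left (e : Commute y t)).eq, mul_assoc t, mul_assoc t, h.tl]
  rw [e1] at hy
  obtain ⟨k, hk, e2⟩ := h.exists_K e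
  refine ⟨k, hk, e2, ?_⟩
  rcases e2 with rfl | rfl
  · exact hy
  · rwa [h.conj_tk hk (h.ks.BK hb)] at hy

theorem mem_of_K {k : G} (hL : L ≤ K) (e : y = k ∨ y = t * k) (hk : k ∈ L ∨ u * k ∈ L) :
    y ∈ zpowers t ⊔ L ∨ u⁻¹ * y ∈ zpowers t ⊔ L := by
  rw [h.ks.uinv, h.memT hL, h.memT hL]
  rcases e with rfl | rfl
  · exact hk.imp Or.inl Or.inl
  · rw [h.tl, ← mul_assoc u, ← h.comm u h.ks.uK, mul_assoc t, h.tl]
    exact hk.imp Or.inr Or.inr

theorem false : False := by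
  obtain ⟨μ, hμ, μt, μR, μD⟩ := h.exists_mu
  obtain ⟨φ, hφ, φ1, φ2⟩ := h.exists_phi hμ μt μR μD
  have m : ∀ {d}, d ∈ D → d ∈ zpowers t ⊔ (R ⊔ D) := fun e => mem_sup_right (mem_sup_right e)
  have cμ : ∀ d, conj (μ d) = μ d⁻¹ := fun d => (hμ.vch.inv d).symm
  have nu : ∀ L ≤ R ⊔ D, u ∉ zpowers t ⊔ L := fun L hL e => ((h.memT (hL.trans h.ks.BK)).1 e).elim
    (fun e => h.ks.nu (hL e)) fun e => h.not_mem le_rfl h.ks.uK (h.ks.BK (hL e))
  have ut : ∀ d ∈ D, u⁻¹ * (t * d) * u = t * d⁻¹ := fun d hd => by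
    rw [h.ks.uinv, ← mul_assoc, ← h.comm u h.ks.uK, ← h.ks.inv d hd]; simp [mul_assoc]
  have hα := hφ.ind le_top
  set α := ind (zpowers t ⊔ (R ⊔ D)) ⊤ φ with eα
  have q0 : (q : ℂ) ≠ 0 := Nat.cast_ne_zero.2 (by have := h.ks.q27; omega)
  have n1 := card_ne_zero_c D
  have αt : α t = 2 * (q + 1) := by
    rw [eα, ind_apply_on hφ.sp (S := 𝒞₁ t) fun y hy => by
      obtain ⟨k, hk, rfl | rfl, -⟩ := h.fus_tb (y := y) (one_mem _) (by rw [mul_one]; exact φ2 _ hy)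
      exacts [h.KH hk, mul_mem (mem_c1.2 rfl) (h.KH hk)],
      sum_fs_congr (f' := fun _ => 2) fun y hy => by
        rw [mul_assoc, ← mem_c1.1 hy, inv_mul_cancel_left, ← mul_one t, φ1 1 (one_mem _), hμ.one,
          mul_one],
      sum_sub_const, h.cardH, h.card_T h.ks.BK, h.ks.cardB]
    push_cast
    field_simp
  have αx : ∀ x ∈ R, x ≠ 1 → α (t * x) = 2 := fun x hx x1 => by
    rw [eα, ind_apply_one hφ.cf fun y hy => by
      obtain ⟨k, hk, e, e1⟩ := h.fus_tb (mem_sup_left hx) (φ2 _ hy)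
      have := h.ks.conjR hk hx x1 e1
      rcases e with rfl | rfl
      exacts [mem_sup_right this, mul_mem (mem_sup_left (mem_zpowers t)) (mem_sup_right this)],
      φ1 x (mem_sup_left hx), μR x hx, mul_one]
  have αd : ∀ d ∈ D, d ≠ 1 → α (t * d) = 2 * μ d + 2 * μ d⁻¹ := fun d hd d1 => by
    rw [eα, ind_apply_two hφ.cf (nu _ le_rfl) fun y hy => by
      obtain ⟨k, hk, e, e1⟩ := h.fus_tb (mem_sup_right hd) (φ2 _ hy)
      exact h.mem_of_K h.ks.BK e (h.ks.conjD hk hd d1 e1),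
      ut d hd, φ1 d (mem_sup_right hd), φ1 _ (mem_sup_right (inv_mem hd))]
  have α0 : ∀ d ∈ D, α d = 0 := fun d hd => ind_apply_zero hφ.sp fun y => by_contra fun e => by
    obtain ⟨n, hn, e1⟩ := h.pow_tb (φ2 _ e)
    rw [h.tl] at e1
    refine h.t_ne (eq_one_of_odd (Odd.of_dvd_nat (h.ks.D_odd hd) ?_) h.tt)
    rw [← e1, ← orderOf_conj' y⁻¹ d, inv_inv]
    exact orderOf_pow_dvd n
  have hψ := (vch_cf1 (zpowers t ⊔ D)).sub (hμ.vch.res (sup_le_sup_left le_sup_right _))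
  have dψ := fun F hF a b c => h.dot_psi (F := F) hμ μt μR μD hF (a := a) (b := b) (c := c)
  set ψ := cf1 (zpowers t ⊔ D) - res (zpowers t ⊔ D) μ with eψ
  have ψ1 : ∀ d ∈ D, ψ d = 1 - μ d ∧ ψ (t * d) = 1 - μ d := fun d hd => by
    have a1 : d ∈ zpowers t ⊔ D := mem_sup_right hd
    have a2 : t * d ∈ zpowers t ⊔ D := mul_mem (mem_sup_left (mem_zpowers t)) a1
    simp only [eψ, Pi.sub_apply, cf1_of_mem a1, cf1_of_mem a2, res_of_mem a1, res_of_mem a2,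
      h.mu_t hμ μt μR μD (mem_sup_right hd), and_self]
  have ψ2 : ∀ y, ψ y ≠ 0 → y * y ∈ D ∧ y * y ≠ 1 := fun y hy => by
    rcases (h.memT h.ks.DK).1 (hψ.sp.mem hy) with e | e
    · exact ⟨mul_mem e e, fun e1 => hy (by rw [(ψ1 y e).1, h.ks.D_sq e e1, hμ.one, sub_self])⟩
    · rw [← h.tl y] at hy ⊢
      rw [h.tk_sq (h.ks.DK e)]
      exact ⟨mul_mem e e, fun e1 => hy (by rw [(ψ1 _ e).2, h.ks.D_sq e e1, hμ.one, sub_self])⟩
  have hγ := hψ.ind le_top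
  set γ := ind (zpowers t ⊔ D) ⊤ ψ with eγ
  have sq : ∀ y g : G, y⁻¹ * g * y * (y⁻¹ * g * y) = y⁻¹ * (g * g) * y := fun y g => by group
  have γ0 : ∀ g, g * g = 1 → γ g = 0 := fun g e => ind_apply_zero hψ.sp fun y => by_contra
    fun e1 => (ψ2 _ e1).2 (by rw [sq, e, mul_one, inv_mul_cancel])
  have γ1 : ∀ g, g * g ∈ D → g * g ≠ 1 → γ g = ψ g + ψ (u⁻¹ * g * u) := fun g a b =>
    ind_apply_two hψ.cf (nu _ le_sup_right) fun y hy => by
      have := (ψ2 _ hy).1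
      rw [sq] at this
      obtain ⟨k, e1, e2⟩ := h.norm_d a b (h.fus a b this) this
      exact h.mem_of_K h.ks.DK e2 e1
  have γd : ∀ d ∈ D, d ≠ 1 → conj (γ d) + conj (γ (t * d)) = 4 + -2 * μ d + -2 * μ d⁻¹ :=
    fun d hd d1 => by
      have a := mul_mem hd hd
      have b : d * d ≠ 1 := fun e => d1 (h.ks.D_sq hd e)
      rw [γ1 d a b, γ1 _ (by rwa [h.tk_sq (h.ks.DK hd)]) (by rwa [h.tk_sq (h.ks.DK hd)]), ut d hd,
        h.ks.uinv, h.ks.inv d hd, (ψ1 d hd).1, (ψ1 d hd).2, (ψ1 _ (inv_mem hd)).1,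
        (ψ1 _ (inv_mem hd)).2]
      simp only [map_add, map_sub, map_one, cμ, inv_inv]
      ring
  have dφ := fun F hF c0 c1 a b c => h.dot_phi (F := F) hμ μt μR μD φ1 φ2 hF (c0 := c0) (c1 := c1)
    (a := a) (b := b) (c := c)
  have hI : ∀ s : G, IsConj t s ↔ s * s = 1 ∧ s ≠ 1 := fun s =>
    ⟨fun e => by
      obtain ⟨g, rfl⟩ := isConj_iff.1 e
      exact ⟨conj_sq h.tt g, by simpa using h.t_ne⟩, fun e => isConj_iff.2 (h.conj_t e.1 e.2)⟩
  have c1 := cf_cf1 (⊤ : Subgroup G)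
  have qD := mul_ne_zero q0 n1
  obtain ⟨y, y0, y1, e⟩ := ree_equation (q := q) (i := (𝒞₁ t).index) (m := ♯(𝒞₁ t)) hI (by
      rw [← h.ncard_inv, ← Nat.card_coe_set_eq]
      exact Nat.card_congr (Equiv.subtypeEquivRight hI))
    (by rw [mul_comm, card_mul_index]) hγ hα
    (by
      rw [eγ, dot_ind_left le_top _ hγ.cf]
      linear_combination dψ _ hγ.cf _ _ _ γd / 2)
    (by
      rw [eγ, dot_ind_left le_top _ c1]
      linear_combination dψ _ c1 2 0 0 (fun d _ _ => by simp [cf1_of_mem]; norm_num) / 2)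
    (by
      rw [eα, dot_ind_left le_top _ hα.cf]
      apply mul_right_cancel₀ qD
      rw [dφ _ hα.cf (2 * (q + 1)) 2 0 2 2 (by simp [αt, map_ofNat])
        (fun x a b => by simp [αx x a b, map_ofNat])
        fun d a b => by simp [αd d a b, cμ, add_comm, map_ofNat]]
      ring)
    (by
      rw [eα, dot_ind_left le_top _ c1]
      apply mul_right_cancel₀ qD
      rw [dφ _ c1 1 1 1 0 0 (by simp [cf1_of_mem]) (fun x _ _ => by simp [cf1_of_mem])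
        fun d _ _ => by simp [cf1_of_mem]]
      ring)
    (by
      rw [eγ, dot_ind_left le_top _ hα.cf]
      linear_combination dψ _ hα.cf 0 2 2 (fun d a b => by
        simp [αd d a b, α0 d a, cμ, add_comm, map_ofNat]) / 2)
    (γ0 1 (mul_one 1)) (γ0 t h.tt) (α0 1 (one_mem _)) αt
    (by
      rw [eα, dot_ind_left le_top _ acnt_cf]
      apply mul_right_cancel₀ qD
      rw [dφ _ acnt_cf (q * (q - 1)) 0 (q - 1) 0 0 (by rw [conj_acnt, h.acnt_t])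
        (fun x a b => by rw [conj_acnt, h.acnt_tx a b]) fun d a b => by
          rw [conj_acnt, h.acnt_E (mul_mem (mem_sup_left (mem_zpowers t)) (mem_sup_right a)) (by
            rw [h.tk_sq (h.ks.DK a)]; exact fun e => b (h.ks.D_sq a e))]
          ring]
      ring)
    (by
      rw [eγ, dot_ind_left le_top _ acnt_cf]
      linear_combination dψ _ acnt_cf (2 * (q - 1)) 0 0 (fun d a b => by
        rw [conj_acnt, conj_acnt, h.acnt_E (mem_sup_right a) fun e => b (h.ks.D_sq a e),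
          h.acnt_E (mul_mem (mem_sup_left (mem_zpowers t)) (mem_sup_right a)) (by
            rw [h.tk_sq (h.ks.DK a)]; exact fun e => b (h.ks.D_sq a e))]
        ring) / 2)
  refine ree_number h.ks.three_dvd h.ks.q8 h.ks.q27 (fun r => h.ks.eq_three) h.odd h.not_three_dvd
    h.coprime_index (fun r => h.index_modEq) y0 y1 ?_
  rw [e, h.cardH, ← h.ks.cD]
  push_cast
  ring

end RT

end Cfsg.H8
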