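import Cfsg.Agent.H8.ReeK2
import Cfsg.Agent.FT.Basic5
import Cfsg.Agent.H4.Dih8

/-! A group of Ree type in which no element of order 3 is real: basic local analysis. -/

set_option autoImplicit false
set_option linter.unusedSectionVars false

namespace Cfsg.H8

open Subgroup Cfsg.L0

local notation "𝒩" X:max => Subgroup.normalizer (SetLike.coe X)
local notation "𝒞" X:max => Subgroup.centralizer (SetLike.coe X)
local notation "𝒞₁" x:max => Subgroup.centralizer (singleton x : Set _)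

variable {G : Type*} [Group G]

theorem mem_c1 {x g : G} : g ∈ 𝒞₁ x ↔ g * x = x * g := mem_centralizer_singleton_iff

theorem conj_sq {s : G} (h : s * s = 1) (g : G) : g * s * g⁻¹ * (g * s * g⁻¹) = 1 := by
  rw [show g * s * g⁻¹ * (g * s * g⁻¹) = g * (s * s) * g⁻¹ by group, h]; group

theorem conj_comm {a b : G} (h : a * b = b * a) (g : G) :
    g * a * g⁻¹ * (g * b * g⁻¹) = g * b * g⁻¹ * (g * a * g⁻¹) := by
  calc _ = g * (a * b) * g⁻¹ := by group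
    _ = _ := by rw [h]; group

theorem conj_pow_one {a : G} {r : ℕ} (h : a ^ r = 1) (g : G) : (g * a * g⁻¹) ^ r = 1 := by
  rw [conj_pow, h]; group

theorem odd_of_pow {a : G} {r : ℕ} (hr : r.Prime) (h2 : r ≠ 2) (h : a ^ r = 1) : Odd (orderOf a) :=
  (hr.odd_of_ne_two h2).of_dvd_nat (orderOf_dvd_of_pow_eq_one h)

theorem exists_prime_pow [Finite G] {a : G} (h : a ≠ 1) :
    ∃ r m : ℕ, r.Prime ∧ r ∣ orderOf a ∧ a ^ m ≠ 1 ∧ (a ^ m) ^ r = 1 := by
  obtain ⟨r, hr, m, hm⟩ := Nat.exists_prime_and_dvd (fun e => h (orderOf_eq_one_iff.1 e))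
  have := orderOf_pos a
  refine ⟨r, m, hr, ⟨m, hm⟩, pow_ne_one_of_lt_orderOf (by rintro rfl; omega) ?_, by
    rw [← pow_mul, mul_comm, ← hm, pow_orderOf_eq_one]⟩
  have := hr.two_le
  rcases m with _ | m
  · omega
  · nlinarith

theorem comm_pow {a g : G} (h : g * a = a * g) (m : ℕ) : g * a ^ m = a ^ m * g :=
  (Commute.pow_right h m).eq

theorem comm_zpowers {a b g : G} (h : g * a = a * g) (hb : b ∈ zpowers a) : g * b = b * g := by
  obtain ⟨n, rfl⟩ := hb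
  exact (Commute.zpow_right h n).eq

theorem inv_pow_of {a w : G} (h : w * a * w⁻¹ = a⁻¹) (m : ℕ) : w * a ^ m * w⁻¹ = (a ^ m)⁻¹ := by
  rw [conj_pow', h, inv_pow]

theorem inv_zpowers {a b w : G} (h : w * a * w⁻¹ = a⁻¹) (hb : b ∈ zpowers a) :
    w * b * w⁻¹ = b⁻¹ := by
  obtain ⟨n, rfl⟩ := hb
  simp only []
  rw [← conj_zpow, h, inv_zpow]

/-- `C(t) = ⟨t⟩ × K` has odd index, `K` looks like `PSL₂(q)`, no subgroup has index 2 and no
element of order 3 is real. -/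
structure RT (t : G) (K R D : Subgroup G) (u : G) (q : ℕ) : Prop where
  ks : KS K R D u q
  tt : t * t = 1
  tK : t ∉ K
  comm : ∀ k ∈ K, t * k = k * t
  cent : ∀ g, g * t = t * g → g ∈ K ∨ t * g ∈ K
  odd : Odd (𝒞₁ t).index
  two : ∀ N : Subgroup G, N.index ≠ 2
  no3 : ¬ Inv 3 (⊤ : Subgroup G)

namespace RT

variable {t : G} {K R D : Subgroup G} {u d e x y k z g s w : G} {q : ℕ} (h : RT t K R D u q)
include h

theorem conj (g : G) : RT (g * t * g⁻¹) (cj g K) (cj g R) (cj g D) (g * u * g⁻¹) q where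
  ks := h.ks.map (MulAut.conj g).toMonoidHom (MulAut.conj g).injective
  tt := conj_sq h.tt g
  tK := fun e => h.tK (by simpa [mem_cj, mul_assoc] using e)
  comm := by
    rintro _ ⟨k, hk, rfl⟩
    exact conj_comm (h.comm k hk) g
  cent := fun y e => by
    have := conj_comm e g⁻¹
    simp only [inv_inv, mul_assoc, inv_mul_cancel_left, inv_mul_cancel, mul_one] at this
    refine (h.cent (g⁻¹ * y * g) (by simpa [mul_assoc] using this)).imp (fun e => mem_cj.2 e)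
      fun e => mem_cj.2 (by simpa [mul_assoc] using e)
  odd := by
    rw [← cj_centralizer_singleton]
    exact (index_map_equiv _ (MulAut.conj g)).symm ▸ h.odd
  two := h.two
  no3 := h.no3

theorem tinv : t⁻¹ = t := inv_self_of h.tt

theorem tl (g : G) : t * (t * g) = g := by rw [← mul_assoc, h.tt, one_mul]

theorem t_ne : t ≠ 1 := fun e => h.tK (e ▸ one_mem K)

theorem noinv (h3 : x ^ 3 = 1) (hg : g * x * g⁻¹ = x⁻¹) : x = 1 := by
  by_contra h1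
  exact h.no3 ⟨x, mem_top _, h1, ⟨1, by simpa⟩, g, mem_top _, hg⟩

theorem noinv' (h3 : ∃ k, x ^ 3 ^ k = 1) (hg : g * x * g⁻¹ = x⁻¹) : x = 1 := by
  by_contra h1
  exact h.no3 ⟨x, mem_top _, h1, h3, g, mem_top _, hg⟩

theorem KH : K ≤ 𝒞₁ t := fun k hk => mem_c1.2 (h.comm k hk).symm

theorem tk_pow (hk : k ∈ K) (n : ℕ) : (t * k) ^ n = t ^ n * k ^ n := Commute.mul_pow (h.comm k hk) n

theorem tk_sq (hk : k ∈ K) : t * k * (t * k) = k * k := by
  rw [mul_assoc, ← mul_assoc k, ← h.comm k hk, mul_assoc, h.tl]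

theorem t_odd {n : ℕ} (hn : Odd n) : t ^ n = t := by
  obtain ⟨m, rfl⟩ := hn
  rw [pow_succ, pow_mul, sq, h.tt, one_pow, one_mul]

theorem odd_mem (hg : g * t = t * g) (ho : Odd (orderOf g)) : g ∈ K := by
  refine (h.cent g hg).resolve_right fun e => h.tK ?_
  have := pow_mem e (orderOf g)
  rwa [Commute.mul_pow hg.symm, pow_orderOf_eq_one, mul_one, h.t_odd ho] at this

/-- conjugation by an element of `C(t)` is conjugation by an element of `K` -/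
theorem exists_K (hg : g * t = t * g) : ∃ k ∈ K, g = k ∨ g = t * k :=
  (h.cent g hg).elim (fun e => ⟨g, e, Or.inl rfl⟩) fun e => ⟨_, e, Or.inr (h.tl g).symm⟩

theorem conj_tk (hk : k ∈ K) (hy : y ∈ K) : (t * k)⁻¹ * y * (t * k) = k⁻¹ * y * k := by
  rw [mul_inv_rev, h.tinv, mul_assoc, mul_assoc, ← mul_assoc y, ← h.comm y hy, mul_assoc, h.tl,
    mul_assoc]

theorem conj_tk' (hk : k ∈ K) (hy : y ∈ K) : t * k * y * (t * k)⁻¹ = k * y * k⁻¹ := by
  rw [h.comm k hk, mul_inv_rev, h.tinv, mul_assoc k t y, h.comm y hy]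
  simp [mul_assoc, h.tl]

variable [Finite G]

theorem riK : K.relIndex (𝒞₁ t) = 2 := by
  rw [relIndex_eq_two_iff]
  refine ⟨t, mem_c1.2 rfl, fun b hb => ?_⟩
  rw [mem_c1.1 hb]
  rcases h.cent b (mem_c1.1 hb) with e | e
  · exact Or.inr ⟨e, fun e' => h.tK (by simpa using mul_mem e' (inv_mem e))⟩
  · exact Or.inl ⟨e, fun e' => h.tK (by simpa using mul_mem e (inv_mem e'))⟩

theorem cardH : Nat.card (𝒞₁ t) = 2 * (q * Nat.card D * (q + 1)) := by
  rw [← card_mul_relIndex h.KH, h.riK, h.ks.cK, mul_comm]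

theorem sq_of_two {j : ℕ} (hy : y ^ 2 ^ j = 1) : y * y = 1 := by
  have : Fact (Nat.Prime 2) := ⟨Nat.prime_two⟩
  obtain ⟨P, hP⟩ := exists_isSyl 2 (𝒞₁ t)
  obtain ⟨g, -, hg⟩ := (hP.trans le_top (by
    rw [relIndex_top_right]; exact h.odd.not_two_dvd_nat)).exists_conj_mem (mem_top y) ⟨j, hy⟩
  have e := conj_pow_one hy g
  suffices g * y * g⁻¹ * (g * y * g⁻¹) = 1 by simpa [mul_assoc] using conj_sq this g⁻¹
  obtain ⟨k, hk, e1 | e1⟩ := h.exists_K (mem_c1.1 (hP.le hg)) <;> rw [e1] at e ⊢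
  · exact h.ks.two k hk j e
  · rw [h.tk_sq hk]
    refine h.ks.two k hk (j + 1) ?_
    rw [pow_succ', pow_mul, sq, ← h.tk_sq hk, ← sq, ← pow_mul, mul_comm, pow_mul, e, one_pow]

theorem ab2 {T : Subgroup G} (hT : IsPGroup 2 T) (hx : x ∈ T) (hy : y ∈ T) : x * y = y * x := by
  have sq : ∀ x ∈ T, x⁻¹ = x := fun x hx =>
    inv_self_of (h.sq_of_two (isPGroup_iff_forall.1 hT x hx).choose_spec)
  rw [← sq _ (mul_mem hx hy), mul_inv_rev, sq x hx, sq y hy]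

theorem conj_u (h2 : s * s = 1) (h1 : s ≠ 1) : ∃ g, g * u * g⁻¹ = s := by
  obtain ⟨g, hg⟩ := H4.exists_conj_mem_of_index h.two (M := K) h.odd (by
    rw [← relIndex_mul_index h.KH, h.riK]) (t := s) (by rw [sq, h2])
  obtain ⟨y, -, e⟩ := h.ks.inv_conj hg (by simpa using conj_sq h2 g⁻¹) (by
    simpa using (conj_eq_one_iff (a := g⁻¹)).not.2 h1)
  exact ⟨g * y, by rw [show g * y * u * (g * y)⁻¹ = g * (y * u * y⁻¹) * g⁻¹ by group, e]; group⟩

theorem conj_t (h2 : s * s = 1) (h1 : s ≠ 1) : ∃ g, g * t * g⁻¹ = s := by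
  obtain ⟨a, ha⟩ := h.conj_u h.tt h.t_ne
  obtain ⟨b, rfl⟩ := h.conj_u h2 h1
  exact ⟨b * a⁻¹, by rw [← ha]; group⟩

theorem rt_of (h2 : s * s = 1) (h1 : s ≠ 1) : ∃ K R D u, RT s K R D u q := by
  obtain ⟨g, rfl⟩ := h.conj_t h2 h1
  exact ⟨_, _, _, _, h.conj g⟩

theorem ncard_inv : {s : G | s * s = 1 ∧ s ≠ 1}.ncard = (𝒞₁ t).index := by
  rw [← relIndex_top_right, ← ncard_class]
  congr 1
  ext s
  constructor
  · rintro ⟨h2, h1⟩
    obtain ⟨g, e⟩ := h.conj_t h2 h1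
    exact ⟨g, mem_top _, e⟩
  · rintro ⟨g, -, rfl⟩
    exact ⟨conj_sq h.tt g, by simpa using h.t_ne⟩

theorem card_syl2 {S : Subgroup G} (hS : IsSyl 2 S ⊤) : Nat.card S = 8 := by
  have : Fact (Nat.Prime 2) := ⟨Nat.prime_two⟩
  obtain ⟨k, hk⟩ := hS.isPGroup.exists_card_eq
  have e := card_mul_relIndex hS.le
  have e1 := (𝒞₁ t).card_mul_index
  obtain ⟨c, hc⟩ : ∃ c, q + 1 = 4 * c ∧ Odd c := ⟨(q + 1) / 4, by have := h.ks.q8; omega, by
    have := h.ks.q8; rw [Nat.odd_iff]; omega⟩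
  have oq : Odd q := by have := h.ks.q8; rw [Nat.odd_iff]; omega
  rw [h.cardH, hc.1, ← card_top (G := G), ← e, hk] at e1
  have e2 : 2 ^ 3 * (q * Nat.card D * c * (𝒞₁ t).index) = 2 ^ k * S.relIndex ⊤ := by
    rw [← e1]; ring
  have o1 : Odd (q * Nat.card D * c * (𝒞₁ t).index) := ((oq.mul h.ks.oddD).mul hc.2).mul h.odd
  have a1 := Nat.Coprime.dvd_of_dvd_mul_right (Nat.Coprime.pow_left 3 hS.coprime.symm) ⟨_, e2.symm⟩
  have a2 := Nat.Coprime.dvd_of_dvd_mul_right (Nat.Coprime.pow_left k (Nat.coprime_two_left.2 o1))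
    ⟨_, e2⟩
  rw [hk]
  exact Nat.dvd_antisymm a2 a1

/-- four-groups: an element cycling the three involutions -/
theorem exists_cycle (h2 : w * w = 1) (h1 : w ≠ 1) (h3 : w ≠ t) (hc : w * t = t * w) :
    ∃ n, n * t * n⁻¹ = w ∧ n * w * n⁻¹ = t * w := by
  have flip : ∀ {n a b : G}, a * a = 1 → n * a * n⁻¹ = a * b → n * (a * b) * n⁻¹ = a * (a * b) →
      a * b = b * a → ∃ n, n * a * n⁻¹ = b ∧ n * b * n⁻¹ = a * b := fun {n a b} e1 e2 e3 e4 => by
    rw [← mul_assoc a a, e1, one_mul] at e3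
    have e5 : n * b * n⁻¹ = a := by
      calc _ = (n * a * n⁻¹)⁻¹ * (n * (a * b) * n⁻¹) := by group
        _ = _ := by rw [e2, e3, e4, mul_inv_rev, mul_assoc, inv_mul_cancel, mul_one, inv_self_of e1]
    refine ⟨n⁻¹, by rw [← e5]; group, ?_⟩
    conv_lhs => rw [← e3]
    group
  have tr : ∀ (g : G) {a b : G}, (∃ n, n * a * n⁻¹ = b ∧ n * b * n⁻¹ = a * b) →
      ∃ n, n * (g * a * g⁻¹) * n⁻¹ = g * b * g⁻¹ ∧
        n * (g * b * g⁻¹) * n⁻¹ = g * a * g⁻¹ * (g * b * g⁻¹) := by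
    rintro g a b ⟨n, e1, e2⟩
    refine ⟨g * n * g⁻¹, by rw [← e1]; group, ?_⟩
    calc _ = g * (n * b * n⁻¹) * g⁻¹ := by group
      _ = _ := by rw [e2]; group
  -- all four-groups through `t` are conjugate to `⟨t, u⟩`
  have red : ∀ w, w * w = 1 → w ≠ 1 → w ≠ t → w * t = t * w →
      ((∃ n, n * t * n⁻¹ = w ∧ n * w * n⁻¹ = t * w) ↔
        ∃ n, n * t * n⁻¹ = u ∧ n * u * n⁻¹ = t * u) := fun w h2 h1 h3 hc => by
    have inK : ∀ w ∈ K, w * w = 1 → w ≠ 1 → ((∃ n, n * t * n⁻¹ = w ∧ n * w * n⁻¹ = t * w) ↔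
        ∃ n, n * t * n⁻¹ = u ∧ n * u * n⁻¹ = t * u) := fun w hw h2 h1 => by
      obtain ⟨y, hy, rfl⟩ := h.ks.inv_conj hw h2 h1
      have e : y * t * y⁻¹ = t := by rw [← h.comm y hy, mul_inv_cancel_right]
      have e' : y⁻¹ * t * y⁻¹⁻¹ = t := by rw [← h.comm _ (inv_mem hy), mul_inv_cancel_right]
      refine ⟨fun a => ?_, fun a => by simpa only [e] using tr y a⟩
      have := tr y⁻¹ a
      rwa [e', show y⁻¹ * (y * u * y⁻¹) * y⁻¹⁻¹ = u by group] at this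
    obtain ⟨k, hk, rfl | rfl⟩ := h.exists_K hc
    · exact inK _ hk h2 h1
    · rw [← inK k hk (by rwa [h.tk_sq hk] at h2) (fun e => h3 (by rw [e, mul_one]))]
      refine ⟨fun ⟨n, e1, e2⟩ => flip h.tt e1 e2 (h.comm k hk), fun ⟨n, e1, e2⟩ =>
        flip h.tt (by rwa [h.tl]) (by rwa [h.tl]) hc.symm⟩
  rw [red w h2 h1 h3 hc]
  obtain ⟨m, -, b, -, b2, b3, b4, b5⟩ := h.ks.exists_cycle
  obtain ⟨g, hg⟩ := h.conj_u h.tt h.t_ne
  have := tr g ⟨m, b5⟩
  rw [hg] at this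
  refine (red _ (conj_sq b2 g) ?_ ?_ ?_).1 this
  · rw [← b5.1]; simpa using h.ks.u_ne
  · rw [← hg]; simpa using b3
  · rw [← hg]; exact conj_comm b4.symm g

end RT

end Cfsg.H8
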