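import Cfsg.Agent.H8.ReeG1

/-! A group of Ree type in which no element of order 3 is real: the prime 3 and the primes
dividing `q + 1`. -/

set_option autoImplicit false
set_option linter.unusedSectionVars false

namespace Cfsg.H8

open Subgroup Cfsg.L0

local notation "𝒩" X:max => Subgroup.normalizer (SetLike.coe X)
local notation "𝒞" X:max => Subgroup.centralizer (SetLike.coe X)
local notation "𝒞₁" x:max => Subgroup.centralizer (singleton x : Set _)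

variable {G : Type*} [Group G]

theorem mem_zp_inv {s y : G} (h : s * s = 1) : y ∈ zpowers s ↔ y = 1 ∨ y = s := by
  refine ⟨?_, by rintro (rfl | rfl) <;> simp⟩
  rintro ⟨n, rfl⟩
  obtain ⟨m, rfl | rfl⟩ := Int.even_or_odd' n
  · left; simp only []; rw [zpow_mul, zpow_two, h, one_zpow]
  · right; simp only []; rw [zpow_add, zpow_mul, zpow_two, h, one_zpow, one_mul, zpow_one]

theorem p2_zp {s : G} (h : s * s = 1) : IsPGroup 2 (zpowers s) :=
  isPGroup_zpowers (k := 1) (by rw [pow_one, sq, h])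

theorem conj_pow_eq_of_forall {R : Subgroup G} {g d : G} (hd : ∀ x ∈ R, d * x * d⁻¹ ∈ R)
    (h : ∀ x ∈ R, g * x * g⁻¹ = d * x * d⁻¹) (m : ℕ) :
    ∀ x ∈ R, g ^ m * x * (g ^ m)⁻¹ = d ^ m * x * (d ^ m)⁻¹ := by
  induction m with
  | zero => simp
  | succ m ih =>
    intro x hx
    calc _ = g ^ m * (g * x * g⁻¹) * (g ^ m)⁻¹ := by group
      _ = _ := by rw [h x hx, ih _ (hd x hx)]; group

namespace RT

variable {t : G} {K R D : Subgroup G} {u d e x y k z g s w v a : G} {q r : ℕ} (h : RT t K R D u q)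
include h

variable [Finite G]

theorem syl_zp {X : Subgroup G} (hs : s ∈ X) (h2 : s * s = 1)
    (hc : ∀ y ∈ X, y * s = s * y → y * y = 1 → y = 1 ∨ y = s) :
    IsSyl 2 (zpowers s) X ∧ ¬ 4 ∣ Nat.card X := by
  have : Fact (Nat.Prime 2) := ⟨Nat.prime_two⟩
  have e : IsSyl 2 (zpowers s) X := isSyl_of_maximal (zpowers_le.2 hs) (p2_zp h2)
    fun Q a b c y hy => (mem_zp_inv h2).2 (hc y (c hy) (h.ab2 a hy (b (mem_zpowers s)))
      (h.sq_of_two (isPGroup_iff_forall.1 a y hy).choose_spec))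
  refine ⟨e, fun e1 => e.not_dvd ?_⟩
  rw [← card_mul_relIndex e.le, Nat.card_zpowers] at e1
  obtain ⟨c, hc⟩ := orderOf_dvd_of_pow_eq_one ((sq s).trans h2)
  have := e1.trans (Nat.mul_dvd_mul_right ⟨c, hc⟩ _)
  omega

theorem le_cent_three {P : Subgroup G} (hP : IsPGroup 3 P) (hn : t ∈ 𝒩 P) : P ≤ 𝒞₁ t := by
  have : t ∈ 𝒞 P := by
    by_contra hc
    obtain ⟨g, -, y, hy, h1, h2⟩ := H1.exists_inverted_of_not_centralize (k := 1)
      (by rw [pow_one, sq, h.tt]) hn hc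
    exact h1 (h.noinv' (isPGroup_iff_forall.1 hP y hy) h2)
  exact fun y hy => mem_c1.2 (this y hy)

theorem cent_x (hx : x ∈ R) (h1 : x ≠ 1) (hy : y * x = x * y) (ht : y * t = t * y) :
    y ∈ R ∨ t * y ∈ R :=
  (h.cent y ht).imp (fun e => h.ks.centR e hx h1 hy) fun e => h.ks.centR e hx h1 (by
    rw [mul_assoc, hy, ← mul_assoc, h.comm x (h.ks.RK hx), mul_assoc])

theorem cent_d (hd : d ∈ D) (h1 : d ≠ 1) (hy : y * d = d * y) (ht : y * t = t * y) :
    y ∈ D ∨ t * y ∈ D :=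
  (h.cent y ht).imp (fun e => h.ks.centD e hd h1 hy) fun e => h.ks.centD e hd h1 (by
    rw [mul_assoc, hy, ← mul_assoc, h.comm d (h.ks.DK hd), mul_assoc])

theorem eq_of_sq {L : Subgroup G} (hL : ∀ y ∈ L, Odd (orderOf y)) (ht : y * t = t * y)
    (h2 : y * y = 1) (hy : y ∈ L ∨ t * y ∈ L) : y = 1 ∨ y = t :=
  hy.imp (fun e => eq_one_of_odd (hL y e) h2) fun e => by
    have := eq_one_of_odd (hL _ e) (by rw [mul_assoc, ← mul_assoc y, ht, mul_assoc, h2, mul_one, h.tt])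
    rw [← h.tl y, this, mul_one]

theorem sylCR : IsSyl 2 (zpowers t) (𝒞 R) ∧ ¬ 4 ∣ Nat.card (𝒞 R) := by
  obtain ⟨x, hx, h1, -⟩ := h.ks.kl
  exact h.syl_zp (fun y hy => (h.comm y (h.ks.RK hy)).symm) h.tt fun y hy a b =>
    h.eq_of_sq (fun _ => h.ks.R_odd) a b (h.cent_x hx h1 (hy x hx).symm a)

theorem mem_R_of_cent (hy : y ∈ 𝒞 R) (h3 : ∃ k, y ^ 3 ^ k = 1) : y ∈ R := by
  have : Fact (Nat.Prime 3) := ⟨Nat.prime_three⟩
  obtain ⟨x, hx, h1, -⟩ := h.ks.kl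
  obtain ⟨O, o1, o2, o3, o4, -⟩ := exists_oddpart h.sylCR.2
  obtain ⟨P, hP, hn⟩ := (FT.mkCA_p Nat.prime_two (A := zpowers t) (K := O) (zpowers_le.2 (o4
    (le_normalizer (h.sylCR.1.le (mem_zpowers t))))) (p2_zp h.tt)
    o2.not_two_dvd_nat).exists_syl Nat.prime_three
  obtain ⟨g, hg, e⟩ := hP.exists_conj_mem (o3 y hy (by
    obtain ⟨k, hk⟩ := h3
    exact (Odd.pow (by decide)).of_dvd_nat (orderOf_dvd_of_pow_eq_one hk))) h3
  have e1 := mem_c1.1 (h.le_cent_three hP.isPGroup (hn (mem_zpowers t)) e)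
  have e2 := h.ks.centR (h.odd_mem e1 (odd_orderOf_of_mem o2 (hP.le e))) hx h1
    (o1 (hP.le e) x hx).symm
  have e3 := o1 hg _ e2
  rw [inv_mul_cancel_right, mul_left_cancel_iff] at e3
  rwa [e3]

theorem act_R (hg : g ∈ 𝒩 R) : ∃ d ∈ D, ∀ x ∈ R, g * x * g⁻¹ = d * x * d⁻¹ := by
  have : Fact (Nat.Prime 2) := ⟨Nat.prime_two⟩
  obtain ⟨x0, hx0, h1, -⟩ := h.ks.kl
  obtain ⟨n, hn, c, hc, rfl⟩ := h.sylCR.1.frattini' (H7.normalizer_le_normalizer_centralizer R hg)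
  have e : n * t = t * n := by
    rcases (mem_zp_inv h.tt).1 (conj_mem_of_mem_normalizer hn (mem_zpowers t)) with e | e
    · exact absurd (by simpa using e) h.t_ne
    · exact mul_inv_eq_iff_eq_mul.1 e
  have e1 : ∀ x ∈ R, n * c * x * (n * c)⁻¹ = n * x * n⁻¹ := fun x hx => by
    rw [mul_assoc n, ← hc x hx]; group
  obtain ⟨k, hk, e2⟩ : ∃ k ∈ K, ∀ x ∈ R, n * c * x * (n * c)⁻¹ = k * x * k⁻¹ := by
    obtain ⟨k, hk, rfl | rfl⟩ := h.exists_K e
    · exact ⟨_, hk, e1⟩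
    · exact ⟨k, hk, fun x hx => (e1 x hx).trans (h.conj_tk' hk (h.ks.RK hx))⟩
  have e3 := h.ks.conjR (inv_mem hk) hx0 h1 (by
    rw [inv_inv, ← e2 x0 hx0]; exact mem_sup_left (conj_mem_of_mem_normalizer hg hx0))
  obtain ⟨y, hy, d, hd, rfl⟩ := h.ks.memB.1 (inv_mem_iff.1 e3)
  refine ⟨d, hd, fun x hx => ?_⟩
  rw [e2 x hx, show y * d * x * (y * d)⁻¹ = y * (d * x * d⁻¹) * y⁻¹ by group,
    h.ks.Rab y hy _ (h.ks.nrm d hd x hx), mul_inv_cancel_right]

theorem sylR : IsSyl 3 R ⊤ := by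
  have : Fact (Nat.Prime 3) := ⟨Nat.prime_three⟩
  obtain ⟨x0, hx0, h1, -⟩ := h.ks.kl
  refine isSyl_of_maximal le_top h.ks.pR fun Q a b _ => (by_contra fun hn => ?_ : R = Q).ge
  obtain ⟨g, hg, h2, h3⟩ := exists_mem_normalizer_not_mem a b hn
  obtain ⟨k, hk⟩ := isPGroup_iff_forall.1 a g hg
  obtain ⟨d, hd, e⟩ := h.act_R h2
  have e1 := conj_pow_eq_of_forall (h.ks.nrm d hd) e (3 ^ k) x0 hx0
  rw [hk, one_mul, inv_one, mul_one, eq_mul_inv_iff_mul_eq] at e1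
  have e2 := (h.ks.fpf _ (pow_mem hd _) x0 hx0 e1.symm).resolve_right h1
  obtain rfl : d = 1 := eq_one_of_pElt_of_coprime ⟨k, e2⟩ (Nat.Coprime.coprime_dvd_left
    (orderOf_dvd_natCard _ hd) ((Nat.Prime.coprime_iff_not_dvd Nat.prime_three).2 h.ks.not3D).symm)
  exact h3 (h.mem_R_of_cent (fun x hx => (mul_inv_eq_iff_eq_mul.1 (by simpa using e x hx)).symm)
    ⟨k, hk⟩)

theorem not_three_dvd : ¬ 3 ∣ (𝒞₁ t).index := by
  simpa using h.sylR.not_dvd_of_le (h.ks.RK.trans h.KH)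

theorem inv_three_aux (hx : x ∈ R) (h1 : x ≠ 1) {m : G} (hm : m * x = x * m) (ho : Odd (orderOf m))
    (h3 : (orderOf m).Coprime 3) : t * m * t = m⁻¹ := by
  have : Fact (Nat.Prime 3) := ⟨Nat.prime_three⟩
  have hn : NPC 3 (𝒞₁ x) := burnside_npc (h.sylR.mono (fun y hy => mem_c1.2 (h.ks.Rab y hy x hx))
    le_top) fun g hg y hy => by
      obtain ⟨d, hd, e⟩ := h.act_R hg.2
      have e1 := e x hx
      rw [mem_c1.1 hg.1, mul_inv_cancel_right, eq_mul_inv_iff_mul_eq] at e1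
      obtain rfl := (h.ks.fpf d hd x hx e1.symm).resolve_right h1
      exact (mul_inv_eq_iff_eq_mul.1 (by simpa using e y hy)).symm
  have tY : t ∈ pResidualOf 3 (𝒞₁ x) := H7.mem_pResidualOf (mem_c1.2 (h.comm x (h.ks.RK hx)))
    (Nat.Coprime.coprime_dvd_left (orderOf_dvd_of_pow_eq_one ((sq t).trans h.tt)) (by norm_num))
  have one : ∀ y ∈ pResidualOf 3 (𝒞₁ x), y ∈ R → y = 1 := fun y a b =>
    eq_one_of_pElt_of_coprime (p := 3) ⟨1, by simpa using h.ks.R3 y b⟩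
      (Nat.Coprime.coprime_dvd_left (orderOf_dvd_natCard _ a) hn)
  refine inv_of_selfcent tY h.tt h.t_ne (fun y hy e => ?_) (H7.mem_pResidualOf (mem_c1.2 hm) h3) ho
  refine (h.cent_x hx h1 (mem_c1.1 (H7.pResidualOf_le _ _ hy)) e).imp (one y hy) fun e1 => ?_
  rw [← h.tl y, one _ (mul_mem tY hy) e1, mul_one]

theorem rt_conj (hy : y ∈ K) : RT t (cj y⁻¹ K) (cj y⁻¹ R) (cj y⁻¹ D) (y⁻¹ * u * y⁻¹⁻¹) q := by
  have := h.conj y⁻¹
  rwa [← h.comm _ (inv_mem hy), mul_inv_cancel_right] at this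

theorem inv_three (h3 : x ^ 3 = 1) (h1 : x ≠ 1) (w2 : w * w = 1) (w1 : w ≠ 1) (hw : x * w = w * x)
    {m : G} (hm : m * x = x * m) (ho : Odd (orderOf m)) (h3' : (orderOf m).Coprime 3) :
    w * m * w = m⁻¹ := by
  obtain ⟨K, R, D, u, h⟩ := h.rt_of w2 w1
  obtain ⟨y, hy, e⟩ := h.ks.conj_R (h.odd_mem hw (odd_of_pow Nat.prime_three (by norm_num) h3)) h3
  exact (h.rt_conj hy).inv_three_aux (mem_cj.2 (by simpa using e)) h1 hm ho h3'

theorem not_dvd_D (hr : ¬ r ∣ q - 1) : ¬ r ∣ Nat.card D := fun e => hr (by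
  rw [← h.ks.cD, Nat.add_sub_cancel]; exact e.mul_left 2)

theorem dvd_D (hr : r.Prime) (h2 : r ≠ 2) (h1 : r ∣ q - 1) : r ∣ Nat.card D := by
  rw [← h.ks.cD, Nat.add_sub_cancel] at h1
  exact (hr.dvd_mul.1 h1).resolve_left fun e => h2 ((Nat.prime_dvd_prime_iff_eq hr Nat.prime_two).1 e)

/-- primes dividing `(q+1)/4` -/
def _root_.Cfsg.H8.ZT (q r : ℕ) : Prop := r.Prime ∧ r ≠ 2 ∧ r ≠ 3 ∧ ¬ r ∣ q - 1

theorem z_comm (ho : Odd (orderOf z)) (h1 : z ≠ 1) (hz : z * t = t * z) {a b : G}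
    (a1 : a * z = z * a) (a2 : a * t = t * a) (b1 : b * z = z * b) (b2 : b * t = t * b) :
    a * b = b * a := by
  have zK := h.odd_mem hz ho
  have key : ∀ c, c * z = z * c → c * t = t * c → ∃ k ∈ K, z * k = k * z ∧ (c = k ∨ c = t * k) :=
    fun c c1 c2 => by
      obtain ⟨k, hk, e⟩ := h.exists_K c2
      refine ⟨k, hk, ?_, e⟩
      rcases e with rfl | rfl
      · exact c1.symm
      · rw [← mul_assoc, hz, mul_assoc, mul_assoc, mul_left_cancel_iff] at c1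
        exact c1.symm
  obtain ⟨k, hk, k1, k2⟩ := key a a1 a2
  obtain ⟨l, hl, l1, l2⟩ := key b b1 b2
  have e : Commute k l := h.ks.ab z zK h1 ho k hk l hl k1 l1
  have e1 : Commute t k := h.comm k hk
  have e2 : Commute t l := h.comm l hl
  rcases k2 with rfl | rfl <;> rcases l2 with rfl | rfl
  · exact e
  · exact e1.symm.mul_right e
  · exact e2.mul_left e
  · exact ((Commute.refl t).mul_right e2).mul_left (e1.symm.mul_right e)

theorem z_local (hr : ZT q r) (hz : z ^ r = 1) (h1 : z ≠ 1) (hc : z * t = t * z) :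
    ∃ v, v * v = 1 ∧ v ≠ 1 ∧ v ≠ t ∧ v * t = t * v ∧ v * z = z * v ∧ ∀ j, j * j = 1 → j ≠ 1 →
      j * z = z * j → j * t = t * j → j = t ∨ j = v ∨ j = t * v := by
  have ho := odd_of_pow hr.1 hr.2.1 hz
  have zK := h.odd_mem hc ho
  obtain ⟨v, hv, v2, v1, vz⟩ := h.ks.exists_inv_cent hr.1 hr.2.2.1 (h.not_dvd_D hr.2.2.2) zK hz
  have uq : ∀ k ∈ K, k * k = 1 → k ≠ 1 → k * z = z * k → k = v := fun k hk k2 k1 kz => by
    by_contra hn
    exact h1 (h.ks.c4 z zK k hk v hv ho k2 v2 k1 v1 hn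
      (h.ks.ab z zK h1 ho k hk v hv kz.symm vz) kz.symm vz)
  refine ⟨v, v2, v1, fun e => h.tK (e ▸ hv), (h.comm v hv).symm, vz.symm, fun j j2 j1 jz jt => ?_⟩
  obtain ⟨k, hk, rfl | rfl⟩ := h.exists_K jt
  · exact Or.inr (Or.inl (uq _ hk j2 j1 jz))
  · by_cases k1 : k = 1
    · left; rw [k1, mul_one]
    · rw [← mul_assoc, hc, mul_assoc, mul_assoc, mul_left_cancel_iff] at jz
      rw [uq k hk (by rwa [h.tk_sq hk] at j2) k1 jz]
      exact Or.inr (Or.inr rfl)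

/-- the involutions commuting with `z` and `s` -/
def _root_.Cfsg.H8.invSet (z s : G) : Set G := {j | j * j = 1 ∧ j ≠ 1 ∧ j * z = z * j ∧ j * s = s * j}

theorem invSet_eq (hr : ZT q r) (hz : z ^ r = 1) (h1 : z ≠ 1) (hc : z * t = t * z) :
    ∃ v, v ≠ t ∧ invSet z t = {t, v, t * v} ∧ (invSet z t).ncard = 3 := by
  obtain ⟨v, v2, v1, vt, vc, vz, e⟩ := h.z_local hr hz h1 hc
  have e1 : invSet z t = {t, v, t * v} := by
    refine Set.Subset.antisymm (fun j ⟨a, b, c, d⟩ => e j a b c d) ?_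
    rintro j (rfl | rfl | rfl)
    · exact ⟨h.tt, h.t_ne, hc.symm, rfl⟩
    · exact ⟨v2, v1, vz, vc⟩
    · refine ⟨by rw [mul_assoc, ← mul_assoc v, vc, mul_assoc, v2, mul_one, h.tt], fun e => vt ?_,
        by rw [mul_assoc, vz, ← mul_assoc, ← hc, mul_assoc], by rw [mul_assoc, vc]⟩
      rw [← h.tl v, e, mul_one]
  refine ⟨v, vt, e1, e1 ▸ Set.ncard_eq_three.2 ⟨_, _, _, vt.symm, by simpa using v1, ?_, rfl⟩⟩
  simpa using h.t_ne

theorem invSet_card (hr : ZT q r) (hz : z ^ r = 1) (h1 : z ≠ 1) (s2 : s * s = 1) (s1 : s ≠ 1)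
    (hc : s * z = z * s) : (invSet z s).ncard = 3 := by
  obtain ⟨K, R, D, u, h⟩ := h.rt_of s2 s1
  exact (h.invSet_eq hr hz h1 hc.symm).choose_spec.2.2

theorem z_comm' (ho : Odd (orderOf z)) (h1 : z ≠ 1) (s2 : s * s = 1) (s1 : s ≠ 1)
    (hz : s * z = z * s) {a b : G} (a1 : a * z = z * a) (a2 : a * s = s * a) (b1 : b * z = z * b)
    (b2 : b * s = s * b) : a * b = b * a := by
  obtain ⟨K, R, D, u, h⟩ := h.rt_of s2 s1
  exact h.z_comm ho h1 hz.symm a1 a2 b1 b2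

theorem invSet_congr (hr : ZT q r) (hz : z ^ r = 1) (h1 : z ≠ 1) (hc : z * t = t * z)
    (hs : s ∈ invSet z t) : invSet z s = invSet z t :=
  (Set.eq_of_subset_of_ncard_le (s := invSet z t) (t := invSet z s) (fun _ hj => ⟨hj.1, hj.2.1, hj.2.2.1, h.z_comm
    (odd_of_pow hr.1 hr.2.1 hz) h1 hc hj.2.2.1 hj.2.2.2 hs.2.2.1 hs.2.2.2⟩) (by
      rw [h.invSet_card hr hz h1 hs.1 hs.2.1 hs.2.2.1, h.invSet_card hr hz h1 h.tt h.t_ne hc.symm])).symm

theorem z_global (hr : ZT q r) (hz : z ^ r = 1) (h1 : z ≠ 1) (hc : z * t = t * z) {j : G}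
    (j2 : j * j = 1) (jz : j * z = z * j) : j * t = t * j := by
  have : Fact (Nat.Prime 2) := ⟨Nat.prime_two⟩
  by_contra hn
  have j1 : j ≠ 1 := fun e => hn (by simp [e])
  obtain ⟨v, vt, e, c3⟩ := h.invSet_eq hr hz h1 hc
  have hv : v ∈ invSet z t := by rw [e]; simp
  have htv : t * v ∈ invSet z t := by rw [e]; simp
  have cg := fun s => h.invSet_congr (s := s) hr hz h1 hc
  have cj : ∀ g s y, g * z = z * g → y ∈ invSet z s → g * y * g⁻¹ ∈ invSet z (g * s * g⁻¹) :=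
    fun g s y hg hy => ⟨conj_sq hy.1 g, by simpa using hy.2.1, by
      simpa only [hg, mul_inv_cancel_right] using conj_comm hy.2.2.1 g, conj_comm hy.2.2.2 g⟩
  set a := j * t * j⁻¹ with ha
  have aa : a ∈ invSet z a := cj j t t jz ⟨h.tt, h.t_ne, hc.symm, rfl⟩
  have pz : v * a * z = z * (v * a) := by rw [mul_assoc, aa.2.2.1, ← mul_assoc, hv.2.2.1, mul_assoc]
  have vp : v * (v * a) * v⁻¹ = (v * a)⁻¹ := by
    rw [← mul_assoc, hv.1, one_mul, mul_inv_rev, inv_self_of aa.1]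
  have ap : a * (v * a) * a⁻¹ = (v * a)⁻¹ := by
    rw [← mul_assoc, mul_inv_cancel_right, mul_inv_rev, inv_self_of aa.1, inv_self_of hv.1]
  rcases Nat.even_or_odd' (orderOf (v * a)) with ⟨m, hm | hm⟩
  · have s2 : (v * a) ^ m * (v * a) ^ m = 1 := by rw [← pow_add, ← two_mul, ← hm, pow_orderOf_eq_one]
    have pos := orderOf_pos (v * a)
    have s1 : (v * a) ^ m ≠ 1 := pow_ne_one_of_lt_orderOf (by omega) (by omega)
    have hs : (v * a) ^ m ∈ invSet z t := by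
      rw [← cg v hv]
      exact ⟨s2, s1, (comm_pow pz.symm m).symm, (mul_inv_eq_iff_eq_mul.1
        ((inv_pow_of vp m).trans (inv_self_of s2))).symm⟩
    have ht : a ∈ invSet z t := by
      rw [← cg _ hs]
      exact ⟨aa.1, aa.2.1, aa.2.2.1, mul_inv_eq_iff_eq_mul.1
        ((inv_pow_of ap m).trans (inv_self_of s2))⟩
    obtain ⟨y, hy, e1⟩ := exists_comm_of_not_dvd (p := 2) (k := 1) (z := j) (by rw [pow_one, sq, j2])
      (S := invSet z t) (fun y hy => cg _ ht ▸ cj j t y jz hy) (by rw [c3]; norm_num)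
    exact hn ((cg y hy).le (show j ∈ invSet z y from ⟨j2, j1, jz, e1⟩)).2.2.2
  · set g := (v * a) ^ (m + 1) with hg
    have ag : a * g * a⁻¹ = g⁻¹ := inv_pow_of ap _
    have gg : g * g = v * a := by
      rw [← pow_add, show m + 1 + (m + 1) = orderOf (v * a) + 1 by omega, pow_succ,
        pow_orderOf_eq_one, one_mul]
    have ga : g * a * g⁻¹ = v := by
      rw [← ag, ← mul_assoc, ← mul_assoc, mul_assoc g, aa.1, mul_one, gg, mul_inv_cancel_right]
    have i2 : g * a * (g * a) = 1 := by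
      rw [mul_assoc, ← mul_assoc a, show a * g * a = g⁻¹ by rw [← ag, inv_self_of aa.1],
        mul_inv_cancel]
    set k := g * a * j with hk
    have jk : j * k * j⁻¹ = k⁻¹ := by
      rw [hk, mul_inv_rev, inv_self_of i2, ← mul_assoc, mul_inv_cancel_right, inv_self_of j2]
    have kz : k * z = z * k := by
      exact (((Commute.pow_right pz.symm _).mul_right aa.2.2.1.symm).mul_right jz.symm).symm
    have kt : k * t * k⁻¹ = v := by
      rw [← ga]
      calc _ = g * (a * (j * t * j⁻¹) * a⁻¹) * g⁻¹ := by rw [hk]; group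
        _ = _ := by rw [← ha, mul_inv_cancel_right]
    have nc : ¬ Commute t k := fun e => vt (by rw [← kt, ← e.eq, mul_inv_cancel_right])
    have kv : k * v * k⁻¹ = t * v := by
      have := cj k t v kz hv
      rw [kt, cg v hv, e] at this
      rcases this with e1 | e1 | e1
      · refine absurd (h.z_comm' (odd_of_pow hr.1 hr.2.1 hz) h1 htv.1 htv.2.1 htv.2.2.1 hc.symm
          htv.2.2.2.symm kz ?_) nc
        rw [← mul_inv_eq_iff_eq_mul, show k * (t * v) * k⁻¹ = k * t * k⁻¹ * (k * v * k⁻¹) by group,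
          kt, e1, hv.2.2.2]
      · exact absurd (by simpa using e1.trans kt.symm) vt
      · exact e1
    have k3 : Commute t (k ^ 3) := by
      refine (mul_inv_eq_iff_eq_mul.1 ?_).symm
      calc _ = k * (k * (k * t * k⁻¹) * k⁻¹) * k⁻¹ := by simp [pow_succ, mul_assoc]
        _ = k * (t * v) * k⁻¹ := by rw [kt, kv]
        _ = k * t * k⁻¹ * (k * v * k⁻¹) := by group
        _ = t := by rw [kt, kv, ← hv.2.2.2, ← mul_assoc, hv.1, one_mul]
    obtain ⟨c, hc⟩ : 3 ∣ orderOf k := by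
      by_contra h3
      exact nc (commute_of_commute_pow ((Nat.Prime.coprime_iff_not_dvd Nat.prime_three).2 h3) k3)
    have pos := orderOf_pos k
    exact pow_ne_one_of_lt_orderOf (n := c) (by omega) (by omega) (h.noinv (by
      rw [← pow_mul, mul_comm, ← hc, pow_orderOf_eq_one]) (inv_pow_of jk c))

theorem index_modEq (hr : r.Prime) (h2 : r ≠ 2) (h1 : r ∣ q + 1) : (𝒞₁ t).index ≡ 3 [MOD r] := by
  have : Fact r.Prime := ⟨hr⟩
  have zt : ZT q r := ⟨hr, h2, fun e => by subst e; have := h.ks.three_dvd; omega, fun e => h2 (by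
    have := h.ks.q27
    have e1 := Nat.dvd_sub h1 e
    rw [show q + 1 - (q - 1) = 2 by omega] at e1
    exact (Nat.prime_dvd_prime_iff_eq hr Nat.prime_two).1 e1)⟩
  obtain ⟨z, hz, e⟩ := exists_orderOf_eq_of_dvd_card (p := r) (H := K) (h.ks.cK ▸ h1.mul_left _)
  have e1 : z ^ r = 1 := e ▸ pow_orderOf_eq_one z
  have z1 : z ≠ 1 := fun e2 => hr.ne_one (by rw [← e, e2, orderOf_one])
  have := ncard_modEq_conj (p := r) (k := 1) (z := z) (by simpa) (S := {s | s * s = 1 ∧ s ≠ 1})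
    fun s hs => ⟨conj_sq hs.1 z, by simpa using hs.2⟩
  rwa [h.ncard_inv, show {s ∈ {s | s * s = 1 ∧ s ≠ 1} | z * s = s * z} = invSet z t from
    Set.ext fun s => ⟨fun a => ⟨a.1.1, a.1.2, a.2.symm, h.z_global zt e1 z1 (h.comm z hz).symm a.1.1
      a.2.symm⟩, fun a => ⟨⟨a.1, a.2.1⟩, a.2.2.1.symm⟩⟩,
    h.invSet_card zt e1 z1 h.tt h.t_ne (h.comm z hz)] at this

end RT

end Cfsg.H8
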