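import Cfsg.Agent.H8.ReeG2
import Cfsg.Agent.H3.Klein

/-! A group of Ree type in which no element of order 3 is real: the primes dividing `q - 1`. -/

set_option autoImplicit false
set_option linter.unusedSectionVars false

namespace Cfsg.H8

open Subgroup Cfsg.L0

local notation "𝒩" X:max => Subgroup.normalizer (SetLike.coe X)
local notation "𝒞" X:max => Subgroup.centralizer (SetLike.coe X)
local notation "𝒞₁" x:max => Subgroup.centralizer (singleton x : Set _)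

variable {G : Type*} [Group G]

/-- odd primes dividing `q - 1` -/
def DT (q r : ℕ) : Prop := r.Prime ∧ r ≠ 2 ∧ r ∣ q - 1

/-- two generators of a four-group -/
structure KP (s w : G) : Prop where
  ss : s * s = 1
  ww : w * w = 1
  s1 : s ≠ 1
  w1 : w ≠ 1
  ne : w ≠ s
  comm : w * s = s * w

/-- an element of order `r` centralized by `s` and inverted by `w` -/
structure Ty (r : ℕ) (s w a : G) : Prop where
  pow : a ^ r = 1
  ne : a ≠ 1
  comm : a * s = s * a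
  inv : w * a * w⁻¹ = a⁻¹

section
variable {s w a g : G} {r : ℕ}

theorem KP.symm (h : KP s w) : KP w s := ⟨h.ww, h.ss, h.w1, h.s1, h.ne.symm, h.comm.symm⟩

theorem KP.sl (h : KP s w) (g : G) : s * (s * g) = g := by rw [← mul_assoc, h.ss, one_mul]

theorem KP.mul (h : KP s w) : KP s (s * w) :=
  ⟨h.ss, by rw [mul_assoc, ← mul_assoc w, h.comm, mul_assoc, h.ww, mul_one, h.ss], h.s1,
    fun e => h.ne (by rw [← h.sl w, e, mul_one]), by simpa using h.w1, by rw [mul_assoc, h.comm]⟩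

theorem Ty.mul (h : Ty r s w a) : Ty r s (s * w) a :=
  ⟨h.pow, h.ne, h.comm, by
    rw [show s * w * a * (s * w)⁻¹ = s * (w * a * w⁻¹) * s⁻¹ by group, h.inv,
      (Commute.inv_right (h.comm.symm : Commute s a)).eq, mul_inv_cancel_right]⟩

theorem Ty.conj (h : Ty r s w a) (g : G) : Ty r (g * s * g⁻¹) (g * w * g⁻¹) (g * a * g⁻¹) :=
  ⟨conj_pow_one h.pow g, by simpa using h.ne, conj_comm h.comm g, by
    calc _ = g * (w * a * w⁻¹) * g⁻¹ := by group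
      _ = _ := by rw [h.inv]; group⟩

theorem Ty.inv' (h : Ty r s w a) : Ty r s w a⁻¹ :=
  ⟨by rw [inv_pow, h.pow, inv_one], inv_ne_one.2 h.ne, (Commute.inv_left h.comm).eq, by
    rw [← conj_inv, h.inv]⟩

theorem mem_norm_c1 (h : g * a * g⁻¹ ∈ zpowers a) [Finite G] : g ∈ 𝒩 (𝒞₁ a) := by
  have e : g ∈ 𝒩 (zpowers a) := mem_normalizer_of_forall fun x hx => by
    obtain ⟨n, rfl⟩ := hx
    simp only []
    rw [← conj_zpow]; exact zpow_mem h n
  rw [← centralizer_zpowers]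
  exact H7.normalizer_le_normalizer_centralizer _ e

theorem mem_norm_zp (h : g * a * g⁻¹ ∈ zpowers a) [Finite G] : g ∈ 𝒩 (zpowers a) :=
  mem_normalizer_of_forall fun x hx => by
    obtain ⟨n, rfl⟩ := hx
    simp only []
    rw [← conj_zpow]; exact zpow_mem h n

theorem conj_mem_zp_of_comm (h : a * g = g * a) : g * a * g⁻¹ ∈ zpowers a := by
  rw [← h, mul_inv_cancel_right]; exact mem_zpowers a

theorem conj_mem_zp_of_inv (h : g * a * g⁻¹ = a⁻¹) : g * a * g⁻¹ ∈ zpowers a := by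
  rw [h]; exact inv_mem (mem_zpowers a)

theorem KP.p2 (h : KP s w) : IsPGroup 2 (closure {s, w} : Subgroup G) :=
  isPGroup_iff_forall.2 fun x hx => ⟨1, by
    rw [pow_one, sq]
    rcases (H3.mem_closure_pair_of_comm h.ss h.ww h.comm).1 hx with rfl | rfl | rfl | rfl
    exacts [one_mul 1, h.ss, h.ww, h.mul.ww]⟩

theorem closure_pair_le {L : Subgroup G} (h1 : s ∈ L) (h2 : w ∈ L) : closure {s, w} ≤ L := by
  rw [closure_le]; rintro _ (rfl | rfl); exacts [h1, h2]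

theorem exists_pow_prime [Finite G] {p : ℕ} [hp : Fact p.Prime] {P : Subgroup G} (hP : IsPGroup p P)
    {y : G} (hy : y ∈ P) (h1 : y ≠ 1) : ∃ m, y ^ m ≠ 1 ∧ (y ^ m) ^ p = 1 := by
  obtain ⟨r, m, hr, h2, h3, h4⟩ := exists_prime_pow h1
  obtain ⟨k, hk⟩ := isPGroup_iff_forall.1 hP y hy
  obtain rfl : r = p := (Nat.prime_dvd_prime_iff_eq hr hp.out).1
    (hr.dvd_of_dvd_pow (h2.trans (orderOf_dvd_of_pow_eq_one hk)))
  exact ⟨m, h3, h4⟩

theorem mem_of_sq_mem {L : Subgroup G} {y : G} (ho : Odd (orderOf y)) (h : y * y ∈ L) : y ∈ L :=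
  mem_of_pow_mem (m := 2) (n := orderOf y) (odd_orderOf_iff.1 ho).symm (by rwa [sq]) (by simp)

end

namespace RT

variable {t : G} {K R D : Subgroup G} {u d e x y k z g s w v a b c a' : G} {q r : ℕ}
  (h : RT t K R D u q)
include h

variable [Finite G]

theorem kp : KP t u := ⟨h.tt, h.ks.uu, h.t_ne, h.ks.u_ne, fun e => h.tK (e ▸ h.ks.uK),
  (h.comm u h.ks.uK).symm⟩

theorem rt_D (hr : DT q r) (s2 : s * s = 1) (s1 : s ≠ 1) (ha : a ^ r = 1) (hc : a * s = s * a) :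
    ∃ K R D u, RT s K R D u q ∧ a ∈ D := by
  obtain ⟨K, R, D, u, h⟩ := h.rt_of s2 s1
  obtain ⟨y, hy, e⟩ := h.ks.conj_D hr.1 (h.dvd_D hr.1 hr.2.1 hr.2.2)
    (h.odd_mem hc (odd_of_pow hr.1 hr.2.1 ha)) ha
  exact ⟨_, _, _, _, h.rt_conj hy, mem_cj.2 (by simpa using e)⟩

theorem norm_d (hd : d ∈ D) (h1 : d ≠ 1) (ht : y * t = t * y) (hy : y⁻¹ * d * y ∈ D) :
    ∃ k, (k ∈ D ∨ u * k ∈ D) ∧ (y = k ∨ y = t * k) := by
  obtain ⟨k, hk, e⟩ := h.exists_K ht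
  refine ⟨k, h.ks.conjDD hk hd h1 ?_, e⟩
  rcases e with rfl | rfl
  · exact hy
  · rwa [h.conj_tk hk (h.ks.DK hd)] at hy

theorem inv_d (hd : d ∈ D) (h1 : d ≠ 1) (ht : y * t = t * y) (hy : y * d * y⁻¹ = d⁻¹) :
    ∃ e ∈ D, y = u * e ∨ y = t * (u * e) := by
  have hy' : y⁻¹ * d * y = d⁻¹ := by
    conv_lhs => rw [← inverts_inv hy]
    group
  obtain ⟨k, hk, e⟩ := h.exists_K ht
  refine ⟨u * k, h.ks.invD hk hd h1 ?_, by rwa [h.ks.ul]⟩
  rcases e with rfl | rfl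
  · exact hy'
  · rwa [h.conj_tk hk (h.ks.DK hd)] at hy'

theorem C1 (hr : DT q r) (s2 : s * s = 1) (s1 : s ≠ 1) (ha : a ^ r = 1) (a1 : a ≠ 1)
    (hc : a * s = s * a) (h1 : y * a = a * y) (h2 : y * s = s * y) (h3 : y * y = 1) :
    y = 1 ∨ y = s := by
  obtain ⟨K, R, D, u, h, hD⟩ := h.rt_D hr s2 s1 ha hc
  exact h.eq_of_sq (fun _ => h.ks.D_odd) h2 h3 (h.cent_d hD a1 h1 h2)

theorem C2 (hr : DT q r) (s2 : s * s = 1) (s1 : s ≠ 1) (ha : a ^ r = 1) (a1 : a ≠ 1)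
    (hc : a * s = s * a) (h1 : y * a = a * y) (h2 : y * s = s * y) (h3 : y ^ r = 1) :
    y ∈ zpowers a := by
  obtain ⟨K, R, D, u, h, hD⟩ := h.rt_D hr s2 s1 ha hc
  exact h.ks.mem_zpowers hr.1 hD (h.ks.centD (h.odd_mem h2 (odd_of_pow hr.1 hr.2.1 h3)) hD a1 h1)
    a1 ha h3

theorem C3 (hr : DT q r) (k : KP s w) (ha : Ty r s w a) (h1 : y * a = a * y) (h2 : y * s = s * y)
    (h3 : y * w = w * y) : y = 1 ∨ y = s := by
  obtain ⟨K, R, D, u, h, hD⟩ := h.rt_D hr k.ss k.s1 ha.pow ha.comm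
  have key : ∀ d ∈ D, d * w = w * d → d = 1 := fun d hd e => by
    obtain ⟨c, hc, e1⟩ := h.inv_d hD ha.ne k.comm ha.inv
    have e2 := h.ks.inv_of (k := u * c) (by rwa [h.ks.ul]) hd
    have uc := mul_mem h.ks.uK (h.ks.DK hc)
    refine h.ks.D_sq hd (mul_eq_one_iff_eq_inv.2 ?_)
    rcases e1 with rfl | rfl
    · rw [← e2, mul_assoc, e, inv_mul_cancel_left]
    · rw [← e2, ← h.conj_tk uc (h.ks.DK hd), mul_assoc, e, inv_mul_cancel_left]
  refine (h.cent_d hD ha.ne h1 h2).imp (fun e => key y e h3) fun e => ?_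
  rw [← h.tl y, key _ e (by rw [mul_assoc, h3, ← mul_assoc, ← k.comm, mul_assoc]), mul_one]

theorem C4 (hr : DT q r) (s2 : s * s = 1) (s1 : s ≠ 1) (ha : a ^ r = 1) (a1 : a ≠ 1)
    (hc : a * s = s * a) (h2 : y * s = s * y) (h1 : y⁻¹ * a * y ∈ zpowers a) :
    y⁻¹ * a * y = a ∨ y⁻¹ * a * y = a⁻¹ := by
  obtain ⟨K, R, D, u, h, hD⟩ := h.rt_D hr s2 s1 ha hc
  obtain ⟨k, hk, e⟩ := h.norm_d hD a1 h2 (zpowers_le.2 hD h1)
  have kK : k ∈ K := hk.elim (fun e => h.ks.DK e) fun e => by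
    simpa [h.ks.ul] using mul_mem h.ks.uK (h.ks.DK e)
  have : y⁻¹ * a * y = k⁻¹ * a * k := by
    rcases e with rfl | rfl
    · rfl
    · exact h.conj_tk kK (h.ks.DK hD)
  rw [this]
  exact hk.imp (fun e => by rw [mul_assoc, h.ks.Dab hD e, inv_mul_cancel_left])
    fun e => h.ks.inv_of e hD

theorem C5 (hr : DT q r) (k : KP s w) (ha : Ty r s w a) (hb : Ty r s w b) :
    ∃ c, c * s = s * c ∧ c * w = w * c ∧ c * b * c⁻¹ ∈ zpowers a := by
  obtain ⟨K, R, D, u, h, hD⟩ := h.rt_D hr k.ss k.s1 ha.pow ha.comm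
  have key : ∀ w ∈ K, w * a * w⁻¹ = a⁻¹ → w * b * w⁻¹ = b⁻¹ →
      ∃ c ∈ K, c * w = w * c ∧ c * b * c⁻¹ ∈ zpowers a := fun w hw ia ib => by
    obtain ⟨y, hy, e⟩ := h.ks.conj_D hr.1 (h.dvd_D hr.1 hr.2.1 hr.2.2)
      (h.odd_mem hb.comm (odd_of_pow hr.1 hr.2.1 hb.pow)) hb.pow
    have f : ∀ w ∈ K, ∀ d ∈ D, d ≠ 1 → w * d * w⁻¹ = d⁻¹ → ∃ e ∈ D, e⁻¹ * u * e = w :=
      fun w hw d hd d1 e => by
        have := h.ks.invD hw hd d1 (by
          conv_lhs => rw [← inverts_inv e]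
          group)
        simpa [h.ks.ul] using h.ks.conj_ud this
    obtain ⟨e1, he1, f1⟩ := f w hw a hD ha.ne ia
    obtain ⟨e2, he2, f2⟩ := f _ (mul_mem (mul_mem hy hw) (inv_mem hy)) _ e (by simpa using hb.ne) (by
      calc _ = y * (w * b * w⁻¹) * y⁻¹ := by group
        _ = _ := by rw [ib]; group)
    refine ⟨e1⁻¹ * e2 * y, mul_mem (mul_mem (inv_mem (h.ks.DK he1)) (h.ks.DK he2)) hy, ?_,
      h.ks.mem_zpowers hr.1 hD ?_ ha.ne ha.pow (conj_pow_one hb.pow _)⟩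
    · calc _ = e1⁻¹ * e2 * (y * w * y⁻¹) * y := by group
        _ = _ := by rw [← f2, ← f1]; group
    · have := mul_mem (mul_mem (mul_mem (inv_mem he1) he2) e) (inv_mem (mul_mem (inv_mem he1) he2))
      simpa [mul_assoc] using this
  obtain ⟨w', hw, rfl | rfl⟩ := h.exists_K k.comm
  · obtain ⟨c, hc, e⟩ := key _ hw ha.inv hb.inv
    exact ⟨c, (h.comm c hc).symm, e⟩
  · obtain ⟨c, hc, e1, e2⟩ := key _ hw (by simpa only [h.tl] using ha.mul.inv)
      (by simpa only [h.tl] using hb.mul.inv)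
    exact ⟨c, (h.comm c hc).symm, by rw [← mul_assoc, ← h.comm c hc, mul_assoc, e1, mul_assoc], e2⟩

theorem C6 (hr : DT q r) (s2 : s * s = 1) (s1 : s ≠ 1) (ha : a ^ r = 1) (a1 : a ≠ 1)
    (hc : a * s = s * a) : ¬ 4 ∣ Nat.card (𝒞₁ a) :=
  (h.syl_zp (mem_c1.2 hc.symm) s2 fun _ hy => h.C1 hr s2 s1 ha a1 hc (mem_c1.1 hy)).2

theorem cycle (k : KP s w) : ∃ n, n * s * n⁻¹ = w ∧ n * w * n⁻¹ = s * w := by
  obtain ⟨K, R, D, u, h⟩ := h.rt_of k.ss k.s1
  exact h.exists_cycle k.ww k.w1 k.ne k.comm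

/-- uniqueness of neighbours -/
theorem nb (hr : DT q r) (k : KP s w) (hb : Ty r w s b) (ha : a ^ r = 1) (a1 : a ≠ 1)
    (h1 : a * s = s * a) (h2 : a * b = b * a) (hy : y ^ r = 1) (h3 : y * s = s * y)
    (h4 : y * b = b * y) : y ∈ zpowers a :=
  h.C2 hr k.ss k.s1 ha a1 h1 (comm_of_selfcent (X := 𝒞₁ b ⊓ 𝒞₁ s) (s := w)
    ⟨mem_c1.2 hb.comm.symm, mem_c1.2 k.comm⟩ k.ww k.w1
    (fun _ hz e => h.C3 hr k.symm hb (mem_c1.1 hz.1) e (mem_c1.1 hz.2))
    ⟨mem_c1.2 h4, mem_c1.2 h3⟩ ⟨mem_c1.2 h2, mem_c1.2 h1⟩ (odd_of_pow hr.1 hr.2.1 hy)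
    (odd_of_pow hr.1 hr.2.1 ha)) h3 hy

theorem transv (hr : DT q r) (k : KP s w) (ha : Ty r s w a) (hb : Ty r w s b)
    (hc : c ^ r = 1) (c1 : c ≠ 1) (c2 : c * (s * w) = s * w * c) (ab : a * b = b * a)
    (cb : c * b = b * c)
    (nt : ∀ y, y ^ r = 1 → y * (s * w) = s * w * y → y * a = a * y → y * b = b * y → y = 1) :
    ∃ g, g * b * g⁻¹ = b ∧ g * a * g⁻¹ = a * b := by
  have : Fact r.Prime := ⟨hr.1⟩
  have od : ∀ {y : G}, y ^ r = 1 → Odd (orderOf y) := odd_of_pow hr.1 hr.2.1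
  obtain ⟨O, o1, o2, o3, o4, -⟩ := exists_oddpart (h.C6 hr k.ww k.w1 hb.pow hb.ne hb.comm)
  have nO : closure {s, w} ≤ 𝒩 O := (closure_pair_le (mem_norm_c1 (conj_mem_zp_of_inv hb.inv))
    (mem_norm_c1 (conj_mem_zp_of_comm hb.comm))).trans o4
  obtain ⟨P, hP, nP, aP⟩ := (FT.mkCA_p Nat.prime_two nO k.p2 o2.not_two_dvd_nat).exists_syl_ge hr.1
    (isPGroup_zpowers (k := 1) (by simpa using ha.pow))
    (zpowers_le.2 (o3 a (mem_c1.2 ab) (od ha.pow)))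
    (closure_pair_le (mem_norm_zp (conj_mem_zp_of_comm ha.comm))
      (mem_norm_zp (conj_mem_zp_of_inv ha.inv)))
  have ms : s ∈ closure {s, w} := subset_closure (by simp)
  have mw : w ∈ closure {s, w} := subset_closure (by simp)
  have Pb : ∀ y ∈ P, y * b = b * y := fun y hy => mem_c1.1 (o1 (hP.le hy))
  have nC : ∀ g ∈ closure {s, w}, g ∈ 𝒩 (P ⊓ 𝒞₁ a) := fun g hg => le_normalizer_inf nP
    (closure_pair_le (mem_norm_c1 (conj_mem_zp_of_comm ha.comm))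
      (mem_norm_c1 (conj_mem_zp_of_inv ha.inv))) hg
  have iC := inverts_of_fpf (nC _ (mul_mem ms mw)) (by simp [k.mul.ww]) fun y hy e => by
    by_contra h1
    obtain ⟨m, h2, h3⟩ := exists_pow_prime hP.isPGroup hy.1 h1
    exact h2 (nt _ h3 (comm_pow e m).symm (comm_pow (mem_c1.1 hy.2).symm m).symm
      (comm_pow (Pb y hy.1).symm m).symm)
  have abC := comm_of_inverts iC
  have nab : zpowers b ≤ 𝒩 (zpowers a) := zpowers_le.2 (mem_norm_zp (conj_mem_zp_of_comm ab))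
  have om : ∀ y ∈ P ⊓ 𝒞₁ a, y ^ r = 1 → y ∈ zpowers a ⊔ zpowers b := fun y hy e => by
    have hy' := conj_mem_of_mem_normalizer (nC s ms) hy
    have cm : Commute y (s * y * s⁻¹) := abC _ hy _ hy'
    have e' := conj_pow_one e s
    have ssy : s * (s * y * s⁻¹) * s⁻¹ = y := by
      rw [inv_self_of k.ss]; simp [mul_assoc, k.sl, k.ss]
    refine mem_of_sq_mem (od e) ?_
    rw [show y * y = y * (s * y * s⁻¹) * ((s * y * s⁻¹)⁻¹ * y) by group]
    refine mul_mem (mem_sup_left ?_) (mem_sup_right ?_)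
    · refine h.C2 hr k.ss k.s1 ha.pow ha.ne ha.comm (mem_c1.1 (mul_mem hy hy').2) ?_ (by
        rw [cm.mul_pow, e, e', mul_one])
      refine (mul_inv_eq_iff_eq_mul.1 ?_).symm
      rw [show s * (y * (s * y * s⁻¹)) * s⁻¹ = s * y * s⁻¹ * (s * (s * y * s⁻¹) * s⁻¹) by group, ssy,
        cm.eq]
    · have hm := mul_mem (inv_mem hy') hy
      refine h.C2 hr k.ww k.w1 hb.pow hb.ne hb.comm (Pb _ hm.1) ?_ (by
        rw [cm.symm.inv_left.mul_pow, inv_pow, e, e', inv_one, mul_one])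
      have e1 := iC _ hm
      have e2 : s * ((s * y * s⁻¹)⁻¹ * y)⁻¹ * s⁻¹ = (s * y * s⁻¹)⁻¹ * y := by
        rw [show s * ((s * y * s⁻¹)⁻¹ * y)⁻¹ * s⁻¹ = (s * y * s⁻¹)⁻¹ * (s * (s * y * s⁻¹) * s⁻¹) by
          group, ssy]
      refine (mul_inv_eq_iff_eq_mul.1 ?_).symm
      conv_rhs => rw [← e2, ← e1]
      rw [mul_inv_rev s w, inv_self_of k.ss]
      simp [mul_assoc, k.sl, k.ss]
  by_cases hE : P ⊓ 𝒞₁ a = P
  · exfalso
    obtain ⟨y, hy, e⟩ := hP.exists_conj_mem (o3 c (mem_c1.2 cb) (od hc)) ⟨1, by simpa⟩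
    have e1 := iC _ (hE.ge e)
    have e2 : s * w * y * (s * w)⁻¹ * y⁻¹ ∈ O :=
      mul_mem (conj_mem_of_mem_normalizer (nO (mul_mem ms mw)) hy) (inv_mem hy)
    refine c1 (conj_eq_one_iff.1 (eq_one_of_odd_inverts (odd_orderOf_of_mem o2 e2)
      (od (conj_pow_one hc y)) ?_))
    rw [← e1]
    calc _ = s * w * y * ((s * w)⁻¹ * (c * (s * w))) * y⁻¹ * (s * w)⁻¹ := by group
      _ = _ := by rw [c2]; group
  obtain ⟨g, hg, h2, h3⟩ := exists_mem_normalizer_not_mem hP.isPGroup inf_le_left hE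
  obtain ⟨_, ⟨i, rfl⟩, _, ⟨j, rfl⟩, e⟩ := (mem_sup_of_le_normalizer_left nab).1 (om _
    (conj_mem_of_mem_normalizer h2 ⟨aP (mem_zpowers a), mem_c1.2 rfl⟩) (conj_pow_one ha.pow g))
  simp only [] at e
  have cab : Commute a b := ab
  have gb : ∀ m : ℕ, ∀ l : ℤ, g ^ m * b ^ l * (g ^ m)⁻¹ = b ^ l := fun m l => by
    rw [((show Commute g b from Pb g hg).pow_left m |>.zpow_right l).eq, mul_inv_cancel_right]
  have oa : orderOf a = r := orderOf_eq_prime ha.pow ha.ne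
  have ob : orderOf b = r := orderOf_eq_prime hb.pow hb.ne
  have e1 : a ^ i = a := by
    have it : ∀ m : ℕ, ∃ l : ℤ, g ^ m * a * (g ^ m)⁻¹ = a ^ i ^ m * b ^ l := fun m => by
      induction m with
      | zero => exact ⟨0, by simp⟩
      | succ m ih =>
        obtain ⟨l, hl⟩ := ih
        refine ⟨l * i + j, ?_⟩
        calc _ = g ^ m * (g * a * g⁻¹) * (g ^ m)⁻¹ := by group
          _ = (g ^ m * a * (g ^ m)⁻¹) ^ i * (g ^ m * b ^ j * (g ^ m)⁻¹) := by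
            rw [← e, conj_zpow]; group
          _ = _ := by rw [hl, gb, (cab.zpow_zpow _ _).mul_zpow]; group
    obtain ⟨m, hm⟩ := isPGroup_iff_forall.1 hP.isPGroup g hg
    obtain ⟨l, hl⟩ := it (r ^ m)
    rw [hm, one_mul, inv_one, mul_one] at hl
    have e2 : b ^ l = 1 := by
      have e3 : b ^ l ∈ zpowers a := by
        rw [eq_inv_mul_of_mul_eq hl.symm]
        exact mul_mem (inv_mem (zpow_mem_zpowers _ _)) (mem_zpowers a)
      refine eq_one_of_odd (odd_orderOf_of_mem (K := zpowers b) (by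
        rw [Nat.card_zpowers]; exact od hb.pow) (zpow_mem_zpowers _ _)) (mul_eq_one_iff_eq_inv.2 ?_)
      rw [← inv_zpowers hb.inv (zpow_mem_zpowers _ _), comm_zpowers ha.comm.symm e3,
        mul_inv_cancel_right]
    rw [e2, mul_one] at hl
    rw [hl]
    conv_lhs => rw [← hl]
    rw [zpow_eq_zpow_iff_modEq, oa, ← ZMod.intCast_eq_intCast_iff]
    push_cast
    exact (ZMod.pow_card_pow _).symm
  rw [e1] at e
  have j0 : (j : ZMod r) ≠ 0 := fun e2 => h3 ⟨hg, mem_c1.2 (mul_inv_eq_iff_eq_mul.1 (by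
    rw [← e, orderOf_dvd_iff_zpow_eq_one.1 (ob ▸ (ZMod.intCast_zmod_eq_zero_iff_dvd j r).1 e2),
      mul_one]))⟩
  have it : ∀ m : ℕ, g ^ m * a * (g ^ m)⁻¹ = a * b ^ (j * m) := fun m => by
    induction m with
    | zero => simp
    | succ m ih =>
      calc _ = g ^ m * (g * a * g⁻¹) * (g ^ m)⁻¹ := by group
        _ = (g ^ m * a * (g ^ m)⁻¹) * (g ^ m * b ^ j * (g ^ m)⁻¹) := by rw [← e]; group
        _ = _ := by rw [ih, gb]; push_cast; group
  refine ⟨g ^ (j : ZMod r)⁻¹.val, by simpa using gb _ 1, ?_⟩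
  rw [it]
  congr 1
  conv_rhs => rw [← zpow_one b]
  rw [zpow_eq_zpow_iff_modEq, ob, ← ZMod.intCast_eq_intCast_iff]
  simp [j0]

theorem not_three_cent (k : KP s w) : ¬ 3 ∣ Nat.card ↥(𝒞₁ s ⊓ 𝒞₁ w) := fun e => by
  have : Fact (Nat.Prime 3) := ⟨Nat.prime_three⟩
  obtain ⟨K, R, D, u, h⟩ := h.rt_of k.ss k.s1
  obtain ⟨y, hy, e1⟩ := exists_orderOf_eq_of_dvd_card e
  have e2 : y ^ 3 = 1 := e1 ▸ pow_orderOf_eq_one y
  obtain ⟨g, hg, e3⟩ := h.ks.conj_R (h.odd_mem (mem_c1.1 hy.1) (by rw [e1]; decide)) e2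
  have h' := h.rt_conj hg
  exact (h'.eq_of_sq (fun _ => h'.ks.R_odd) k.comm k.ww (h'.cent_x (x := y)
    (mem_cj.2 (by simpa using e3)) (by rintro rfl; simp at e1) (mem_c1.1 hy.2).symm k.comm)).elim
    k.w1 k.ne

theorem triangle (hr : DT q r) (k : KP s w) (ha : Ty r s w a) (x3 : x ^ 3 = 1)
    (x1 : x * s * x⁻¹ = w) (x2 : x * w * x⁻¹ = s * w)
    (ab : a * (x * a * x⁻¹) = x * a * x⁻¹ * a) : False := by
  have : Fact (Nat.Prime 2) := ⟨Nat.prime_two⟩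
  have : Fact (Nat.Prime 3) := ⟨Nat.prime_three⟩
  have x4 : x * (s * w) * x⁻¹ = s := by
    rw [show x * (s * w) * x⁻¹ = x * s * x⁻¹ * (x * w * x⁻¹) by group, x1, x2, ← k.comm, k.symm.sl]
  have xx : ∀ y, x * (x * (x * y * x⁻¹) * x⁻¹) * x⁻¹ = y := fun y => by
    calc _ = x ^ 3 * y * (x ^ 3)⁻¹ := by simp [pow_succ, mul_assoc]
      _ = y := by rw [x3]; group
  -- an involution centralizing `x`, `s`, `w`
  obtain ⟨v, v2, v1, vx, vs, vw⟩ : ∃ v, v * v = 1 ∧ v ≠ 1 ∧ x * v = v * x ∧ v * s = s * v ∧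
      v * w = w * v := by
    have n : x ∈ 𝒩 (𝒞₁ s ⊓ 𝒞₁ w) := mem_normalizer_of_forall fun y hy => by
      have e : y * (s * w) = s * w * y :=
        ((Commute.mul_right (mem_c1.1 hy.1 : Commute y s) (mem_c1.1 hy.2 : Commute y w))).eq
      exact ⟨mem_c1.2 (x4 ▸ conj_comm e x), mem_c1.2 (x1 ▸ conj_comm (mem_c1.1 hy.1) x)⟩
    obtain ⟨T, hT, nT⟩ := (FT.mkCA_p Nat.prime_three (zpowers_le.2 n) (isPGroup_zpowers (k := 1)
      (by simpa)) (h.not_three_cent k)).exists_syl Nat.prime_two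
    obtain ⟨S, hS, e⟩ := exists_isSyl_ge k.p2 le_top
    have c8 : Nat.card T = 8 := by
      rw [hT.card_eq (hS.mono (fun y hy => ⟨mem_c1.2 (h.ab2 hS.isPGroup hy (e (subset_closure
        (by simp)))), mem_c1.2 (h.ab2 hS.isPGroup hy (e (subset_closure (by simp))))⟩) le_top),
        h.card_syl2 hS]
    obtain ⟨v, hv, e1⟩ := exists_comm_of_not_dvd (p := 3) (k := 1) (z := x) (by simpa)
      (S := (T : Set G) \ {1}) (fun y hy => ⟨conj_mem_of_mem_normalizer (nT (mem_zpowers x)) hy.1,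
        by simpa using hy.2⟩) (by
        rw [Set.ncard_sdiff_singleton_of_mem (one_mem T), ← Nat.card_coe_set_eq]
        change ¬ 3 ∣ Nat.card T - 1
        rw [c8]; norm_num)
    exact ⟨v, h.sq_of_two (isPGroup_iff_forall.1 hT.isPGroup v hv.1).choose_spec, hv.2, e1,
      mem_c1.1 (hT.le hv.1).1, mem_c1.1 (hT.le hv.1).2⟩
  set b := x * a * x⁻¹ with hb
  set c := x * b * x⁻¹ with hc
  have bc : Commute b c := conj_comm ab x
  have ca : Commute c a := show c * a = a * c by simpa only [hc, hb, xx] using conj_comm bc x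
  have ab' : Commute a b := ab
  have sb : s * b * s⁻¹ = b⁻¹ := by simpa only [x1, x4] using (ha.mul.conj x).inv
  have sc : s * c * s⁻¹ = c⁻¹ := by simpa only [x1, x2, x4] using ((ha.conj x).conj x).inv
  have mr : (a * b * c) ^ r = 1 := by
    rw [(ca.symm.mul_left bc).mul_pow, ab'.mul_pow, ha.pow, conj_pow_one ha.pow,
      conj_pow_one (conj_pow_one ha.pow x), mul_one, mul_one]
  have mx : a * b * c * x = x * (a * b * c) := by
    refine (mul_inv_eq_iff_eq_mul.1 ?_).symm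
    calc _ = b * c * (x * (x * (x * a * x⁻¹) * x⁻¹) * x⁻¹) := by rw [hc, hb]; group
      _ = _ := by rw [xx, ← (ab'.mul_right ca.symm).eq, mul_assoc a b c]
  have r3 : r ≠ 3 := fun e => h.ks.not3D (e ▸ h.dvd_D hr.1 hr.2.1 hr.2.2)
  have im := h.inv_three x3 (by rintro rfl; exact k.ne (by simpa using x1.symm)) v2 v1 vx mx
    (odd_of_pow hr.1 hr.2.1 mr) (Nat.Coprime.coprime_dvd_left (orderOf_dvd_of_pow_eq_one mr)
      ((Nat.coprime_primes hr.1 Nat.prime_three).2 r3))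
  nth_rewrite 2 [← inv_self_of v2] at im
  have e1 : s * (a * b * c) * s⁻¹ = a * (b * c)⁻¹ := by
    calc _ = s * a * s⁻¹ * (s * b * s⁻¹) * (s * c * s⁻¹) := by group
      _ = _ := by rw [sb, sc, ← ha.comm, mul_inv_cancel_right, bc.eq, mul_inv_rev c b, mul_assoc a]
  have e2 : a * a = s * (a * b * c) * s⁻¹ * (a * b * c) := by
    rw [e1, mul_assoc a b, (ab'.mul_right ca.symm).eq]; group
  have e3 : v * (a * a) * v⁻¹ = (a * a)⁻¹ := by
    have e4 : v * (s * (a * b * c) * s⁻¹) * v⁻¹ = (s * (a * b * c) * s⁻¹)⁻¹ := by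
      calc _ = v * s * (a * b * c) * (v * s)⁻¹ := by group
        _ = s * (v * (a * b * c) * v⁻¹) * s⁻¹ := by rw [vs]; group
        _ = _ := by rw [im]; group
    have e5 : Commute (s * (a * b * c) * s⁻¹) (a * b * c) := by
      have := ab'.mul_right ca.symm
      rw [e1, mul_assoc a b]
      exact ((Commute.refl a).mul_right this).mul_left
        (this.symm.mul_right (Commute.refl _)).inv_left
    calc _ = v * (s * (a * b * c) * s⁻¹) * v⁻¹ * (v * (a * b * c) * v⁻¹) := by rw [e2]; group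
      _ = _ := by rw [e4, im, e2, e5.eq, mul_inv_rev (a * b * c)]
  have e6 := inv_zpowers e3 (mem_of_sq_mem (odd_of_pow hr.1 hr.2.1 ha.pow) (mem_zpowers _))
  have e7 : w * v * a = a * (w * v) := by
    refine mul_inv_eq_iff_eq_mul.1 ?_
    rw [show w * v * a * (w * v)⁻¹ = w * (v * a * v⁻¹) * w⁻¹ by group, e6, inverts_inv ha.inv]
  have xv : x * v * x⁻¹ = v := by rw [vx, mul_inv_cancel_right]
  rcases h.C3 hr k ha e7 (by rw [mul_assoc, vs, ← mul_assoc, k.comm, mul_assoc])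
    (by rw [mul_assoc, vw]) with e | e
  · obtain rfl : v = w := by rw [← k.symm.sl v, e, mul_one]
    exact k.s1 (by simpa using x2.symm.trans xv)
  · obtain rfl : v = s * w := by rw [← k.symm.sl v, e, k.comm]
    exact k.w1 (by simpa using xv.symm.trans x4)

theorem no_pair (hr : DT q r) (k : KP s w) (ha : Ty r s w a) (hb : Ty r w s b)
    (ab : a * b = b * a) : False := by
  obtain ⟨n, n1, n2, n0⟩ : ∃ n, n * s * n⁻¹ = w ∧ n * w * n⁻¹ = s * w ∧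
      a * (n * a * n⁻¹) = n * a * n⁻¹ * a := by
    obtain ⟨n, n1, n2⟩ := h.cycle k
    have hb' := hb.mul.conj n⁻¹
    rw [k.comm, ← n2] at hb'
    nth_rewrite 1 [← n1] at hb'
    simp only [inv_inv, mul_assoc, inv_mul_cancel_left, inv_mul_cancel, mul_one] at hb'
    obtain ⟨c, c1, c2, c3⟩ := h.C5 hr k hb' ha
    refine ⟨n * c, by rw [← n1, mul_assoc n, c1]; group, by rw [← n2, mul_assoc n, c2]; group,
      comm_zpowers ab ?_⟩
    obtain ⟨i, hi⟩ := c3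
    refine ⟨i, ?_⟩
    calc _ = (n * (n⁻¹ * (b * n)) * n⁻¹) ^ i := by simp [mul_assoc]
      _ = _ := by rw [conj_zpow]; simp only [] at hi; rw [hi]; group
  clear hb ab
  have n3 : n * (s * w) * n⁻¹ = s := by
    rw [show n * (s * w) * n⁻¹ = n * s * n⁻¹ * (n * w * n⁻¹) by group, n1, n2, ← k.comm, k.symm.sl]
  have t1 : Ty r w s (n * a * n⁻¹) := by simpa only [n1, n3] using ha.mul.conj n
  have t1' : Ty r w (s * w) (n * a * n⁻¹) := by simpa only [n1, n2] using ha.conj n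
  have t2 : Ty r (s * w) s (n * (n * a * n⁻¹) * n⁻¹) := by simpa only [n2, n3] using t1'.conj n
  have t3 : Ty r s w (n * (n * (n * a * n⁻¹) * n⁻¹) * n⁻¹) := by
    simpa only [n1, n3] using t2.conj n
  by_cases nt : ∀ y, y ^ r = 1 → y * (s * w) = s * w * y → y * a = a * y →
      y * (n * a * n⁻¹) = n * a * n⁻¹ * y → y = 1
  · obtain ⟨g, g1, g2⟩ := h.transv hr k ha t1 t2.pow t2.ne t2.comm n0 (conj_comm n0 n).symm nt
    obtain ⟨f, f1, f2⟩ := h.transv (c := n⁻¹ * a * n⁻¹⁻¹) hr k.symm t1 ha.inv' (conj_pow_one ha.pow _)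
      (conj_eq_one_iff.not.2 ha.ne) (by
        have := conj_comm ha.comm n⁻¹
        rwa [← n3, show n⁻¹ * (n * (s * w) * n⁻¹) * n⁻¹⁻¹ = s * w by group, ← k.comm] at this)
      (Commute.inv_right (n0.symm : Commute _ a)).eq
      (Commute.inv_right (show _ * a = a * _ by simpa [mul_assoc] using conj_comm n0 n⁻¹)).eq
      fun y y1 y2 y3 y4 => nt y y1 (by rwa [k.comm] at y2)
        (by simpa using (Commute.inv_right (y4 : Commute y a⁻¹)).eq) y3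
    generalize n * a * n⁻¹ = b at *
    have f0 : f * a * f⁻¹ = a := by rw [← conj_inv] at f1; exact inv_injective f1
    have m1 : g * f * g * a * (g * f * g)⁻¹ = b := by
      calc _ = g * (f * (g * a * g⁻¹) * f⁻¹) * g⁻¹ := by group
        _ = g * (f * a * f⁻¹ * (f * b * f⁻¹)) * g⁻¹ := by rw [g2]; group
        _ = b := by rw [f0, f2, ← mul_assoc a, n0, mul_inv_cancel_right, g1]
    have m2 : g * f * g * b * (g * f * g)⁻¹ = a⁻¹ := by
      calc _ = g * (f * (g * b * g⁻¹) * f⁻¹) * g⁻¹ := by group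
        _ = g * (b * a⁻¹) * g⁻¹ := by rw [g1, f2]
        _ = g * b * g⁻¹ * (g * a * g⁻¹)⁻¹ := by group
        _ = a⁻¹ := by rw [g1, g2]; group
    generalize g * f * g = m at m1 m2
    have m3 : m ^ 2 * a * (m ^ 2)⁻¹ = a⁻¹ := by rw [← m2, ← m1]; simp [pow_succ, mul_assoc]
    have : Fact (Nat.Prime 2) := ⟨Nat.prime_two⟩
    obtain ⟨i, j, hi, hj⟩ := exists_pow_pElt 2 m
    have := inverts_odd_pow m3 (Nat.coprime_two_right.1 hi)
    rw [← pow_mul, mul_comm 2, pow_mul, sq, h.sq_of_two hj, one_mul, inv_one, mul_one] at this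
    exact ha.ne (eq_one_of_odd (odd_of_pow hr.1 hr.2.1 ha.pow) (mul_eq_one_iff_eq_inv.2 this))
  push Not at nt
  obtain ⟨y, y1, y2, y3, y4, y5⟩ := nt
  have k' : KP (s * w) w := by simpa only [k.comm] using k.symm.mul.symm
  have e1 := comm_zpowers y3.symm (h.nb hr k' t1' y1 y5 y2 y4 t2.pow t2.comm (conj_comm n0 n).symm)
  have e2 := h.nb hr k t1 ha.pow ha.ne ha.comm n0 t3.pow t3.comm (conj_comm e1 n).symm
  have n6 : ∀ y, n * (n * (n * y * n⁻¹) * n⁻¹) * n⁻¹ = n ^ 3 * y * (n ^ 3)⁻¹ := fun y => by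
    simp [pow_succ, mul_assoc]
  rw [n6] at e2
  have c1 : n ^ 3 * s = s * n ^ 3 := mul_inv_eq_iff_eq_mul.1 (by rw [← n6, n1, n2, n3])
  have c2 : n ^ 3 * w = w * n ^ 3 := mul_inv_eq_iff_eq_mul.1 (by rw [← n6, n2, n3, n1])
  have c3 : n ^ 3 * n ^ 3 = 1 := by
    rcases h.C4 (y := (n ^ 3)⁻¹) hr k.ss k.s1 ha.pow ha.ne ha.comm
      (Commute.inv_left (c1 : Commute _ s)).eq (by rwa [inv_inv]) with e | e <;> rw [inv_inv] at e
    · rcases h.C3 hr k ha (mul_inv_eq_iff_eq_mul.1 e) c1 c2 with e3 | e3 <;> rw [e3]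
      exacts [one_mul 1, k.ss]
    · have e4 : w * n ^ 3 * a = a * (w * n ^ 3) := by
        refine mul_inv_eq_iff_eq_mul.1 ?_
        rw [show w * n ^ 3 * a * (w * n ^ 3)⁻¹ = w * (n ^ 3 * a * (n ^ 3)⁻¹) * w⁻¹ by group, e,
          inverts_inv ha.inv]
      rcases h.C3 hr k ha e4 (by rw [mul_assoc, c1, ← mul_assoc, k.comm, mul_assoc])
        (by rw [mul_assoc, c2]) with e3 | e3 <;> rw [← k.symm.sl (n ^ 3), e3]
      exacts [by rw [mul_one, k.ww], k.symm.mul.ww]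
  have n4 : ∀ y, n * n ^ 3 * y * (n * n ^ 3)⁻¹ = n * (n ^ 3 * y * (n ^ 3)⁻¹) * n⁻¹ := fun y => by group
  refine h.triangle (x := n * n ^ 3) hr k ha ?_ (by rw [n4, c1, mul_inv_cancel_right, n1])
    (by rw [n4, c2, mul_inv_cancel_right, n2]) (comm_zpowers n0 ?_)
  · calc _ = (n ^ 3 * n ^ 3) ^ 2 := by group
      _ = 1 := by rw [c3, one_pow]
  · obtain ⟨i, hi⟩ := e2
    refine ⟨i, ?_⟩
    simp only [] at hi ⊢
    rw [n4, ← hi, conj_zpow]

theorem cent_prime (hr : DT q r) (hd : d ∈ D) (d1 : d ≠ 1) (dr : d ^ r = 1) (hg : g * d = d * g) :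
    g * t = t * g := by
  have ty : Ty r t u d := ⟨dr, d1, (h.comm d (h.ks.DK hd)).symm, by rw [h.ks.uinv, h.ks.inv d hd]⟩
  have k := h.kp
  obtain ⟨O, o1, o2, o3, o4, o5⟩ := exists_oddpart (h.C6 hr h.tt h.t_ne dr d1 ty.comm)
  have nO : closure {t, u} ≤ 𝒩 O := (closure_pair_le (mem_norm_c1 (conj_mem_zp_of_comm ty.comm))
    (mem_norm_c1 (conj_mem_zp_of_inv ty.inv))).trans o4
  have mt : t ∈ closure {t, u} := subset_closure (by simp)
  have mu : u ∈ closure {t, u} := subset_closure (by simp)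
  have tO : t ∉ O := fun e => h.t_ne (eq_one_of_odd (odd_orderOf_of_mem o2 e) h.tt)
  have c0 : ∀ w, KP t w → Ty r t w d → ∀ y ∈ O, y * t = t * y → y * w = w * y → y = 1 :=
    fun w k ty y hy e1 e2 => (h.C3 hr k ty (mem_c1.1 (o1 hy)) e1 e2).resolve_right
      fun e => tO (e ▸ hy)
  -- elements of `O` centralized by one involution of `⟨t, u⟩` are inverted by the others
  have iv : ∀ s ∈ closure {t, u}, ∀ w ∈ closure {t, u}, KP s w → (∀ y ∈ O, y * s = s * y →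
      y * w = w * y → y = 1) → ∀ y ∈ O, y * s = s * y → w * y * w⁻¹ = y⁻¹ :=
    fun s _ w hw k e y hy e1 => inverts_of_fpf (K := O ⊓ 𝒞₁ s) (mem_normalizer_of_forall
      fun y hy => ⟨conj_mem_of_mem_normalizer (nO hw) hy.1, conj_mem_of_mem_normalizer
        (mem_norm_c1 (conj_mem_zp_of_comm k.comm.symm)) hy.2⟩) (by simp [k.ww])
      (fun y hy e2 => e y hy.1 (mem_c1.1 hy.2) e2.symm) y ⟨hy, mem_c1.2 e1⟩
  have sp : ∀ L : Subgroup G, closure {t, u} ≤ 𝒩 L → ¬ L ≤ 𝒞₁ t → ∃ w ∈ closure {t, u}, KP t w ∧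
      Ty r t w d ∧ ∃ y ∈ L, y ≠ 1 ∧ y * w = w * y := fun L nL hn => by
    by_contra hc
    push Not at hc
    have i1 := inverts_of_fpf (nL mu) (by simp [k.ww]) fun y hy e => by_contra fun e1 =>
      hc u mu k ty y hy e1 e.symm
    have i2 := inverts_of_fpf (nL (mul_mem mt mu)) (by simp [k.mul.ww]) fun y hy e =>
      by_contra fun e1 => hc _ (mul_mem mt mu) k.mul ty.mul y hy e1 e.symm
    refine hn fun y hy => mem_c1.2 (mul_inv_eq_iff_eq_mul.1 ?_).symm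
    conv_lhs => rw [← inverts_inv (i1 y hy)]
    conv_rhs => rw [← inv_inv y, ← i2 _ (inv_mem hy)]
    group
  suffices O ≤ 𝒞₁ t by
    by_cases e : g ∈ O
    · exact mem_c1.1 (this e)
    · have := mem_c1.1 (this (o5 g (mem_c1.2 hg) t (mem_c1.2 ty.comm.symm) e tO))
      rwa [← mul_assoc, mul_right_cancel_iff] at this
  by_contra hn
  obtain ⟨w, hw, kw, tw, y, hy, y1, yw⟩ := sp O nO hn
  obtain ⟨p, m, hp, p1, e1, ep⟩ := exists_prime_pow y1
  have eO := pow_mem hy m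
  have ew := (comm_pow yw.symm m).symm
  generalize y ^ m = e at e1 ep eO ew
  have te := iv w hw t mt kw.symm (fun y a b c => c0 w kw tw y a c b) e eO ew
  have p2 : p ≠ 2 := by
    rintro rfl
    exact (odd_orderOf_of_mem o2 hy).not_two_dvd_nat p1
  have p3 : p ≠ 3 := by
    rintro rfl
    exact e1 (h.noinv ep te)
  by_cases hq : p ∣ q - 1
  swap
  · obtain ⟨K', R', D', u', h'⟩ := h.rt_of kw.ww kw.w1
    have := h'.z_global ⟨hp, p2, p3, hq⟩ ep e1 ew (conj_sq kw.ww d) (by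
      have := conj_comm ew d
      rwa [← mem_c1.1 (o1 eO), mul_inv_cancel_right, eq_comm] at this)
    have a1 : d * w * d⁻¹ * w = d * d := by
      calc _ = d * (w * d⁻¹ * w⁻¹) := by rw [inv_self_of kw.ww]; group
        _ = _ := by rw [inverts_inv tw.inv]
    have a2 : w * (d * w * d⁻¹) = (d * d)⁻¹ := by
      calc _ = w * d * w⁻¹ * d⁻¹ := by rw [inv_self_of kw.ww]; group
        _ = _ := by rw [tw.inv, mul_inv_rev]
    rw [a1, a2] at this
    exact d1 (h.ks.D_sq hd (h.ks.D_sq (mul_mem hd hd) (mul_eq_one_iff_eq_inv.2 this)))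
  have : Fact p.Prime := ⟨hp⟩
  have hp' : DT q p := ⟨hp, p2, hq⟩
  obtain ⟨a, ha, oa⟩ := exists_orderOf_eq_of_dvd_card (h.dvd_D hp p2 hq)
  have ta : ∀ w, KP t w → Ty r t w d → w ∈ closure {t, u} → Ty p t w a := fun w k ty hw =>
    ⟨oa ▸ pow_orderOf_eq_one a, by rintro rfl; exact hp.ne_one (by rw [← oa, orderOf_one]),
      (h.comm a (h.ks.DK ha)).symm, iv t mt w hw k (c0 w k ty) a
      (o3 a (mem_c1.2 (h.ks.Dab ha hd)) (h.ks.D_odd ha)) (h.comm a (h.ks.DK ha)).symm⟩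
  have tu := ta u k ty mu
  obtain ⟨P, hP, nP, aP⟩ := (FT.mkCA_p Nat.prime_two nO k.p2 o2.not_two_dvd_nat).exists_syl_ge hp
    (isPGroup_zpowers (k := 1) (by simpa using tu.pow))
    (zpowers_le.2 (o3 a (mem_c1.2 (h.ks.Dab ha hd)) (h.ks.D_odd ha)))
    (closure_pair_le (mem_norm_zp (conj_mem_zp_of_comm tu.comm))
      (mem_norm_zp (conj_mem_zp_of_inv tu.inv)))
  have pr : ∀ L ≤ P, closure {t, u} ≤ 𝒩 L → ¬ L ≤ 𝒞₁ t → ∃ w ∈ closure {t, u}, KP t w ∧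
      Ty r t w d ∧ ∃ y ∈ L, Ty p w t y := fun L hL nL hn => by
    obtain ⟨w, hw, kw, tw, y, hy, y1, yw⟩ := sp L nL hn
    obtain ⟨m, a1, a2⟩ := exists_pow_prime hP.isPGroup (hL hy) y1
    have := (comm_pow yw.symm m).symm
    exact ⟨w, hw, kw, tw, _, pow_mem hy m, a2, a1, this, iv w hw t mt kw.symm
      (fun y a b c => c0 w kw tw y a c b) _ (hP.le (hL (pow_mem hy m))) this⟩
  by_cases hc : P ≤ 𝒞₁ t
  · obtain ⟨y, hy, e2⟩ := hP.exists_conj_mem eO ⟨1, by simpa⟩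
    have e3 := mem_c1.1 (hc e2)
    have e4 : t * y⁻¹ * t⁻¹ * y ∈ O :=
      mul_mem (conj_mem_of_mem_normalizer (nO mt) (inv_mem hy)) hy
    refine e1 (eq_one_of_odd_inverts (odd_orderOf_of_mem o2 e4) (odd_of_pow hp p2 ep) ?_)
    rw [← te]
    calc _ = t * y⁻¹ * (t⁻¹ * (y * e * y⁻¹ * t)) * y * t⁻¹ := by group
      _ = _ := by rw [e3]; group
  obtain ⟨w', hw', kw', tw', b, hb, tb⟩ := pr P le_rfl nP hc
  have nZ : closure {t, u} ≤ 𝒩 (P ⊓ 𝒞 P) :=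
    le_normalizer_inf nP (nP.trans (H7.normalizer_le_normalizer_centralizer P))
  by_cases hz : P ⊓ 𝒞 P ≤ 𝒞₁ t
  · obtain ⟨z, z0, z1⟩ := FT.exists_ne_one (FT.inf_cent_ne_bot_of_pgroup hp hP.isPGroup hP.isPGroup
      le_normalizer (FT.ne_bot_of_mem hb tb.ne))
    obtain ⟨m, a1, a2⟩ := exists_pow_prime hP.isPGroup z0.1 z1
    have z2 := pow_mem z0 m
    exact h.no_pair hp' kw' ⟨a2, a1, mem_c1.1 (hz z2), iv t mt w' hw' kw' (c0 w' kw' tw') _
      (hP.le z2.1) (mem_c1.1 (hz z2))⟩ tb (z2.2 b hb).symm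
  · obtain ⟨w'', hw'', kw'', tw'', z, z0, tz⟩ := pr _ inf_le_left nZ hz
    exact h.no_pair hp' kw'' (ta _ kw'' tw'' hw'') tz (z0.2 a (aP (mem_zpowers a)))

theorem cent_le (hd : d ∈ D) (d1 : d ≠ 1) (hg : g * d = d * g) : g * t = t * g := by
  obtain ⟨r, m, hr, h1, h2, h3⟩ := exists_prime_pow d1
  have h4 := h1.trans (orderOf_dvd_natCard _ hd)
  refine h.cent_prime (r := r) ⟨hr, ?_, ?_⟩ (pow_mem hd m) h2 h3 (comm_pow hg m)
  · rintro rfl
    exact h.ks.oddD.not_two_dvd_nat h4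
  · rw [← h.ks.cD, Nat.add_sub_cancel]; exact h4.mul_left 2

theorem fus (hd : d ∈ D) (d1 : d ≠ 1) (hg : g⁻¹ * d * g ∈ D) : g * t = t * g := by
  have e : g⁻¹ * t * g⁻¹⁻¹ * (g⁻¹ * d * g) = g⁻¹ * d * g * (g⁻¹ * t * g⁻¹⁻¹) := by
    simpa only [inv_inv] using conj_comm (h.comm d (h.ks.DK hd)) g⁻¹
  have d2 : g⁻¹ * d * g ≠ 1 := by simpa using (conj_eq_one_iff (a := g⁻¹)).not.2 d1
  have e1 := h.cent_le hg d2 e
  rcases h.eq_of_sq (fun _ => h.ks.D_odd) e1 (conj_sq h.tt _) (h.cent_d hg d2 e e1) with e2 | e2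
  · exact absurd (conj_eq_one_iff.1 e2) h.t_ne
  · rw [inv_inv, mul_assoc, inv_mul_eq_iff_eq_mul] at e2
    exact e2.symm

theorem coprime_index : (𝒞₁ t).index.Coprime (q - 1) := by
  rw [← h.ks.cD, Nat.add_sub_cancel]
  refine Nat.Coprime.mul_right (Nat.coprime_two_right.2 h.odd) (Nat.Coprime.symm
    (Nat.coprime_of_dvd fun r hr h1 => ?_))
  have : Fact r.Prime := ⟨hr⟩
  obtain ⟨P, hP⟩ := exists_isSyl r D
  obtain ⟨x, hx, x1⟩ := FT.exists_ne_one (hP.ne_bot h1)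
  have e := (hP.trans h.ks.DK fun e => h.ks.cop hr h1 (h.ks.riD ▸ e.mul_left 2)).trans h.KH
    fun e => h.ks.cop hr h1 ((h.riK ▸ e).mul_right _)
  have e1 : IsSyl r P ⊤ := IsSyl.of_normalizer (e.mono (le_inf le_top le_normalizer) fun g hg =>
    mem_c1.2 (h.fus (hP.le hx) x1 (hP.le (conj_mem_of_mem_normalizer' hg.2 hx))))
  simpa using e1.not_dvd_of_le e.le

end RT

end Cfsg.H8
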