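import Cfsg.Agent.H8.S4Cls
import Cfsg.Agent.H3.Dickson2

/-! The structure of `PSL₂(3^(2n+1))`, `n ≥ 1`, in abstract form. -/

set_option autoImplicit false
set_option linter.unusedSectionVars false

namespace Cfsg.H8

open Subgroup Cfsg.L0

/-- `K` looks like `PSL₂(q)`, `q = 3^(2n+1) ≥ 27`: `R` unipotent, `D` diagonal, `u` the Weyl element. -/
structure KS {G : Type*} [Group G] (K R D : Subgroup G) (u : G) (q : ℕ) : Prop where
  RK : R ≤ K
  DK : D ≤ K
  uK : u ∈ K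
  cR : Nat.card R = q
  cD : 2 * Nat.card D + 1 = q
  cK : Nat.card K = q * Nat.card D * (q + 1)
  q3 : ∃ n, 1 ≤ n ∧ q = 3 ^ (2 * n + 1)
  R3 : ∀ x ∈ R, x ^ 3 = 1
  Rab : ∀ x ∈ R, ∀ y ∈ R, x * y = y * x
  cyc : IsCyclic D
  nrm : ∀ d ∈ D, ∀ x ∈ R, d * x * d⁻¹ ∈ R
  fpf : ∀ d ∈ D, ∀ x ∈ R, d * x = x * d → d = 1 ∨ x = 1
  uu : u * u = 1
  inv : ∀ d ∈ D, u * d * u = d⁻¹
  sep : ∀ x ∈ R, ∀ y ∈ R, ∀ d ∈ D, u * x * u = y * d → x = 1
  bru : ∀ k ∈ K, (∃ x ∈ R, ∃ d ∈ D, k = x * d) ∨ ∃ x ∈ R, ∃ y ∈ R, ∃ d ∈ D, k = x * u * (y * d)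
  ab : ∀ a ∈ K, a ≠ 1 → Odd (orderOf a) → ∀ y ∈ K, ∀ z ∈ K, a * y = y * a → a * z = z * a →
    y * z = z * y
  two : ∀ k ∈ K, ∀ j, k ^ 2 ^ j = 1 → k * k = 1
  c4 : ∀ x ∈ K, ∀ a ∈ K, ∀ b ∈ K, Odd (orderOf x) → a * a = 1 → b * b = 1 → a ≠ 1 → b ≠ 1 →
    a ≠ b → a * b = b * a → x * a = a * x → x * b = b * x → x = 1
  kl : ∃ x ∈ R, x ≠ 1 ∧ (u * x) ^ 3 = 1

theorem KS.map {L G : Type*} [Group L] [Group G] {K R D : Subgroup L} {u : L} {q : ℕ}
    (h : KS K R D u q) (f : L →* G) (hf : Function.Injective f) :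
    KS (K.map f) (R.map f) (D.map f) (f u) q where
  RK := map_mono h.RK
  DK := map_mono h.DK
  uK := mem_map_of_mem f h.uK
  cR := by rw [card_map_of_injective hf, h.cR]
  cD := by rw [card_map_of_injective hf, h.cD]
  cK := by rw [card_map_of_injective hf, card_map_of_injective hf, h.cK]
  q3 := h.q3
  R3 := by
    rintro _ ⟨x, hx, rfl⟩
    rw [← map_pow, h.R3 x hx, map_one]
  Rab := by
    rintro _ ⟨x, hx, rfl⟩ _ ⟨y, hy, rfl⟩
    rw [← map_mul, h.Rab x hx y hy, map_mul]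
  cyc := by
    have := h.cyc
    exact isCyclic_of_surjective _ (D.equivMapOfInjective f hf).surjective
  nrm := by
    rintro _ ⟨d, hd, rfl⟩ _ ⟨x, hx, rfl⟩
    exact ⟨_, h.nrm d hd x hx, by simp⟩
  fpf := by
    rintro _ ⟨d, hd, rfl⟩ _ ⟨x, hx, rfl⟩ e
    rw [← map_mul, ← map_mul] at e
    exact (h.fpf d hd x hx (hf e)).imp (fun e => by rw [e, map_one]) fun e => by rw [e, map_one]
  uu := by rw [← map_mul, h.uu, map_one]
  inv := by
    rintro _ ⟨d, hd, rfl⟩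
    rw [← map_mul, ← map_mul, h.inv d hd, map_inv]
  sep := by
    rintro _ ⟨x, hx, rfl⟩ _ ⟨y, hy, rfl⟩ _ ⟨d, hd, rfl⟩ e
    rw [← map_mul, ← map_mul, ← map_mul] at e
    rw [h.sep x hx y hy d hd (hf e), map_one]
  bru := by
    rintro _ ⟨k, hk, rfl⟩
    rcases h.bru k hk with ⟨x, hx, d, hd, rfl⟩ | ⟨x, hx, y, hy, d, hd, rfl⟩
    · exact Or.inl ⟨_, mem_map_of_mem f hx, _, mem_map_of_mem f hd, by simp⟩
    · exact Or.inr ⟨_, mem_map_of_mem f hx, _, mem_map_of_mem f hy, _, mem_map_of_mem f hd, by simp⟩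
  ab := by
    rintro _ ⟨a, ha, rfl⟩ h1 h2 _ ⟨y, hy, rfl⟩ _ ⟨z, hz, rfl⟩ h3 h4
    rw [← map_mul, ← map_mul] at h3 h4 ⊢
    rw [orderOf_injective f hf] at h2
    rw [h.ab a ha (fun e => h1 (by rw [e, map_one])) h2 y hy z hz (hf h3) (hf h4)]
  two := by
    rintro _ ⟨k, hk, rfl⟩ j e
    rw [← map_pow, map_eq_one_iff f hf] at e
    rw [← map_mul, h.two k hk j e, map_one]
  c4 := by
    rintro _ ⟨x, hx, rfl⟩ _ ⟨a, ha, rfl⟩ _ ⟨b, hb, rfl⟩ h1 h2 h3 h4 h5 h6 h7 h8 h9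
    rw [orderOf_injective f hf] at h1
    rw [← map_mul, map_eq_one_iff f hf] at h2 h3
    rw [← map_mul, ← map_mul] at h7 h8 h9
    rw [h.c4 x hx a ha b hb h1 h2 h3 (fun e => h4 (by rw [e, map_one]))
      (fun e => h5 (by rw [e, map_one])) (fun e => h6 (by rw [e])) (hf h7) (hf h8) (hf h9), map_one]
  kl := by
    obtain ⟨x, hx, h1, h2⟩ := h.kl
    exact ⟨_, mem_map_of_mem f hx, fun e => h1 ((map_eq_one_iff f hf).1 e), by
      rw [← map_mul, ← map_pow, h2, map_one]⟩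

section L2

open scoped MatrixGroups
open H3

variable {F : Type*} [Field F]

/-- diagonal matrix -/
def dgSL (a : Fˣ) : SL(2, F) := mkSL (a : F) 0 0 (a⁻¹ : Fˣ) (by simp)

/-- the Weyl element -/
def wSL : SL(2, F) := mkSL 0 1 (-1) 0 (by simp)

theorem SL2_ext {A B : SL(2, F)} (h : A 0 0 = B 0 0 ∧ A 0 1 = B 0 1 ∧ A 1 0 = B 1 0 ∧ A 1 1 = B 1 1) :
    A = B := by
  obtain ⟨a, b, c, d⟩ := h
  ext i j; fin_cases i <;> fin_cases j <;> assumption

variable (F) in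
/-- diagonal subgroup -/
def dHom : Fˣ →* PSL(2, F) where
  toFun a := dgSL a
  map_one' := by
    rw [mk_eq_one_SL2]; left
    exact SL2_ext (by simp [dgSL, mkSL_coe])
  map_mul' a b := by
    rw [← QuotientGroup.mk_mul]
    congr 1
    exact SL2_ext (by simp [dgSL, mkSL_coe, mul_comm])

theorem comm_of_odd (h2 : (2 : F) ≠ 0) {X Y : SL(2, F)} (a1 : Odd (orderOf (X : PSL(2, F))))
    (e : (X : PSL(2, F)) * Y = Y * X) : X * Y = Y * X := by
  refine (H3.mk_eq_mk_SL2.1 e).resolve_right fun e' => H3.neg_one_ne_one_SL2 h2 ?_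
  have k : ∀ k : ℕ, X ^ k * Y = (-1) ^ k * (Y * X ^ k) := fun k => by
    induction k with
    | zero => simp
    | succ k ih =>
      have e'' : X * Y = -(Y * X) := e'
      rw [pow_succ', mul_assoc, ih, ← mul_assoc, ((Commute.neg_one_right X).pow_right k).eq,
        mul_assoc, ← mul_assoc X, e'', pow_succ (-1)]
      simp [mul_assoc]
  have k1 := k (orderOf (X : PSL(2, F)))
  rw [a1.neg_one_pow] at k1
  rcases H3.mk_eq_one_SL2.1 (show ((X ^ orderOf (X : PSL(2, F)) : SL(2, F)) : PSL(2, F)) = 1 by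
    rw [QuotientGroup.mk_pow, pow_orderOf_eq_one]) with e1 | e1 <;> rw [e1] at k1
  · exact mul_right_cancel (b := Y) (by simpa using k1.symm)
  · exact mul_right_cancel (b := Y) (by simpa using k1)

theorem card_dHom [Fintype F] (h2 : (2 : F) ≠ 0) :
    2 * Nat.card (dHom F).range + 1 = Fintype.card F := by
  classical
  have e1 := (dHom F).ker.card_mul_index
  rw [index_ker, Nat.card_units, Nat.card_eq_fintype_card (α := F)] at e1
  have e2 : ((dHom F).ker : Set Fˣ) = {1, -1} := by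
    ext a
    simp only [SetLike.mem_coe, MonoidHom.mem_ker, Set.mem_insert_iff, Set.mem_singleton_iff]
    change ((dgSL a : SL(2, F)) : PSL(2, F)) = 1 ↔ _
    rw [mk_eq_one_SL2]
    constructor
    · rintro (e | e)
      · exact Or.inl (Units.ext (by simpa [dgSL, mkSL_coe] using congrArg (fun A : SL(2, F) => A 0 0) e))
      · exact Or.inr (Units.ext (by simpa [dgSL, mkSL_coe] using congrArg (fun A : SL(2, F) => A 0 0) e))
    · rintro (rfl | rfl)
      · exact Or.inl (SL2_ext (by simp [dgSL, mkSL_coe]))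
      · exact Or.inr (SL2_ext (by simp [dgSL, mkSL_coe]))
  have e3 : Nat.card (dHom F).ker = 2 := by
    change Nat.card ((dHom F).ker : Set Fˣ) = 2
    rw [e2, Nat.card_coe_set_eq, Set.ncard_pair]
    intro e
    apply h2
    have := congrArg Units.val e
    simp only [Units.val_one, Units.val_neg] at this
    linear_combination this
  have := Fintype.card_pos (α := F)
  rw [e3] at e1
  omega

theorem ks_psl [Fintype F] {n : ℕ} (hn : 1 ≤ n) (h : Fintype.card F = 3 ^ (2 * n + 1)) :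
    KS (⊤ : Subgroup PSL(2, F)) (H3.uHom F).range (dHom F).range ((wSL : SL(2, F)) : PSL(2, F))
      (Fintype.card F) := by
  have h3 : CharP F 3 := charP_of_card_eq_prime_pow (hp := Fact.mk Nat.prime_three) h
  have : Fact (Nat.Prime 3) := Fact.mk Nat.prime_three
  have three : (3 : F) = 0 := by exact_mod_cast CharP.cast_eq_zero F 3
  have h2 : (2 : F) ≠ 0 := fun e => one_ne_zero (α := F) (by linear_combination three - e)
  have cD := card_dHom h2
  have mD : ∀ {g : PSL(2, F)}, g ∈ (dHom F).range ↔ ∃ a : Fˣ, g = dgSL a :=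
    ⟨fun ⟨a, e⟩ => ⟨a, e.symm⟩, fun ⟨a, e⟩ => ⟨a, e.symm⟩⟩
  refine ⟨le_top, le_top, mem_top _, by rw [H3.card_uHom_range, Nat.card_eq_fintype_card], cD, ?_,
    ⟨n, hn, h⟩, ?_, ?_, isCyclic_of_surjective _ (dHom F).rangeRestrict_surjective, ?_, ?_, ?_, ?_,
    ?_, ?_, ?_, ?_, (l2h_psl h).cent, ?_⟩
  · have e1 := card_PSL2_mul (F := F)
    rw [gcd_two_of_two_ne_zero h2] at e1
    rw [card_top]
    generalize Fintype.card F = q at *
    subst cD
    have : (2 * Nat.card (dHom F).range + 1) ^ 2 - 1 =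
        Nat.card (dHom F).range * (2 * Nat.card (dHom F).range + 1 + 1) * 2 :=
      Nat.sub_eq_of_eq_add (by ring)
    rw [this] at e1
    apply Nat.eq_of_mul_eq_mul_right two_pos
    rw [e1]; ring
  · intro x hx
    obtain ⟨b, rfl⟩ := H3.mem_uHom_range.1 hx
    rw [← QuotientGroup.mk_pow, U_pow]
    simp [three, U_zero]
  · intro x hx y hy
    obtain ⟨b, rfl⟩ := H3.mem_uHom_range.1 hx
    obtain ⟨c, rfl⟩ := H3.mem_uHom_range.1 hy
    rw [← QuotientGroup.mk_mul, ← QuotientGroup.mk_mul, ← U_add, ← U_add, add_comm]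
  · intro d hd x hx
    obtain ⟨a, rfl⟩ := mD.1 hd
    exact (mem_normalizer_iff.1 (borel_le_normalizer (mk_mem_borel.2
      (by simp [dgSL, mkSL_coe]))) x).1 hx
  · intro d hd x hx e
    obtain ⟨a, rfl⟩ := mD.1 hd
    obtain ⟨b, rfl⟩ := H3.mem_uHom_range.1 hx
    have e1 := conj_U_of_upper (dgSL a) (by simp [dgSL, mkSL_coe]) b
    have e2 : ((U ((dgSL a) 0 0 ^ 2 * b) : SL(2, F)) : PSL(2, F)) = (U b : SL(2, F)) := by
      rw [← e1, QuotientGroup.mk_mul, QuotientGroup.mk_mul, e, QuotientGroup.mk_inv,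
        mul_inv_cancel_right]
    have e3 := mk_U_injective e2
    by_cases hb : b = 0
    · right; rw [hb, U_zero]; rfl
    · left
      have e4 : (a : F) ^ 2 = 1 := by
        apply mul_right_cancel₀ hb
        simpa [dgSL, mkSL_coe] using e3
      rw [mk_eq_one_SL2]
      rcases mul_self_eq_one_iff.1 (by rw [← sq, e4] : (a : F) * a = 1) with e5 | e5
      · left
        obtain rfl : a = 1 := Units.ext e5
        exact SL2_ext (by simp [dgSL, mkSL_coe])
      · right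
        obtain rfl : a = -1 := Units.ext e5
        exact SL2_ext (by simp [dgSL, mkSL_coe])
  · rw [← QuotientGroup.mk_mul, mk_eq_one_SL2]
    exact Or.inr (SL2_ext (by simp [wSL, mkSL_coe]))
  · intro d hd
    obtain ⟨a, rfl⟩ := mD.1 hd
    rw [eq_inv_iff_mul_eq_one, ← QuotientGroup.mk_mul, ← QuotientGroup.mk_mul,
      ← QuotientGroup.mk_mul, mk_eq_one_SL2]
    exact Or.inr (SL2_ext (by simp [wSL, dgSL, mkSL_coe]))
  · intro x hx y hy d hd e
    obtain ⟨a, rfl⟩ := mD.1 hd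
    obtain ⟨b, rfl⟩ := H3.mem_uHom_range.1 hx
    obtain ⟨c, rfl⟩ := H3.mem_uHom_range.1 hy
    rw [← QuotientGroup.mk_mul, ← QuotientGroup.mk_mul, ← QuotientGroup.mk_mul, mk_eq_mk_SL2] at e
    have : b = 0 := by
      rcases e with e | e <;>
        simpa [wSL, dgSL, mkSL_coe, U_coe] using congrArg (fun A : SL(2, F) => A 1 0) e
    rw [this, U_zero]; rfl
  · intro k _
    obtain ⟨A, rfl⟩ := QuotientGroup.mk_surjective k
    have hd := det_SL2 A
    by_cases hA : A 1 0 = 0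
    · have h0 : A 0 0 ≠ 0 := fun e => by simp [e, hA] at hd
      refine Or.inl ⟨_, H3.mem_uHom_range.2 ⟨A 0 1 * A 0 0, rfl⟩, _, mD.2 ⟨Units.mk0 _ h0, rfl⟩, ?_⟩
      rw [← QuotientGroup.mk_mul]
      congr 1
      refine SL2_ext ?_
      simp [dgSL, mkSL_coe, U_coe, hA, h0]
      field_simp
      linear_combination hd + A 0 1 * hA
    · refine Or.inr ⟨_, H3.mem_uHom_range.2 ⟨A 0 0 / A 1 0, rfl⟩, _,
        H3.mem_uHom_range.2 ⟨A 1 1 * A 1 0, rfl⟩, _, mD.2 ⟨Units.mk0 _ hA, rfl⟩, ?_⟩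
      rw [← QuotientGroup.mk_mul, ← QuotientGroup.mk_mul, ← QuotientGroup.mk_mul, mk_eq_mk_SL2]
      refine Or.inr (SL2_ext ?_)
      simp [wSL, dgSL, mkSL_coe, U_coe, hA]
      field_simp
      linear_combination -hd
  · intro a _ h1 ho y _ z _ e1 e2
    obtain ⟨X, rfl⟩ := QuotientGroup.mk_surjective a
    obtain ⟨A, rfl⟩ := QuotientGroup.mk_surjective y
    obtain ⟨B, rfl⟩ := QuotientGroup.mk_surjective z
    rw [← QuotientGroup.mk_mul, ← QuotientGroup.mk_mul, comm_of_comm_SL2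
      (fun e => h1 (mk_eq_one_SL2.2 e)) (comm_of_odd h2 ho e1) (comm_of_odd h2 ho e2)]
  · intro k _ j e
    have e2 : Fintype.card F % 8 = 3 := by
      rw [h, pow_succ, pow_mul, Nat.mul_mod, Nat.pow_mod]; simp
    obtain ⟨i, -, hi⟩ := (Nat.dvd_prime_pow Nat.prime_two).1 (orderOf_dvd_of_pow_eq_one e)
    rw [← sq, ← orderOf_dvd_iff_pow_eq_one, hi]
    rcases i with _ | _ | i
    · simp
    · simp
    · exfalso
      have e4 : 4 ∣ orderOf k := by rw [hi]; exact Dvd.intro_left (2 ^ i) (by ring)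
      have := PSL2_order 3 k
      rw [gcd_two_of_two_ne_zero h2] at this
      rcases this with e3 | e3 | e3 <;> have := e4.trans (orderOf_dvd_of_pow_eq_one e3) <;> omega
  · refine ⟨_, H3.mem_uHom_range.2 ⟨1, rfl⟩, U_one_ne_one, ?_⟩
    rw [← QuotientGroup.mk_mul, ← QuotientGroup.mk_pow, mk_eq_one_SL2]
    refine Or.inl (SL2_ext ?_)
    simp [wSL, mkSL_coe, U_coe, pow_succ]

end L2

end Cfsg.H8
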