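import Cfsg.Agent.H8.ReeK

/-! General lemmas on involutions, and consequences of `KS`. -/

set_option autoImplicit false
set_option linter.unusedSectionVars false

namespace Cfsg.H8

open Subgroup Cfsg.L0

local notation "𝒩" X:max => Subgroup.normalizer (SetLike.coe X)
local notation "𝒞" X:max => Subgroup.centralizer (SetLike.coe X)

variable {G : Type*} [Group G]

theorem conj_pow' (g x : G) (n : ℕ) : g * x ^ n * g⁻¹ = (g * x * g⁻¹) ^ n := conj_pow.symm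

theorem orderOf_conj' (g x : G) : orderOf (g * x * g⁻¹) = orderOf x :=
  (MulAut.conj g).orderOf_eq x

theorem inv_self_of {s : G} (h : s * s = 1) : s⁻¹ = s := inv_eq_of_mul_eq_one_right h

theorem ncard_modEq_conj [Finite G] {p k : ℕ} [Fact p.Prime] {z : G} (hz : z ^ p ^ k = 1)
    {S : Set G} (hS : ∀ s ∈ S, z * s * z⁻¹ ∈ S) :
    S.ncard ≡ {s ∈ S | z * s = s * z}.ncard [MOD p] := by
  classical
  have := Fintype.ofFinite G
  let f : Function.End S := fun k => ⟨z * k * z⁻¹, hS k k.2⟩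
  have hf : ∀ n : ℕ, ∀ k : S, (((f ^ n) k : S) : G) = z ^ n * k * (z ^ n)⁻¹ := by
    intro n
    induction n with
    | zero => intro k; simp; rfl
    | succ n ih =>
      intro k
      rw [pow_succ', pow_succ']
      show z * ((f ^ n) k : S) * z⁻¹ = _
      rw [ih]; group
  have h1 : f ^ p ^ k = 1 := by
    funext k
    apply Subtype.ext
    rw [hf, hz]; simp; rfl
  have h2 := Equiv.Perm.card_fixedPoints_modEq h1
  rw [← Nat.card_eq_fintype_card, ← Nat.card_eq_fintype_card] at h2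
  have : Nat.card (Function.fixedPoints f) = Nat.card {s ∈ S | z * s = s * z} := by
    refine Nat.card_congr ⟨fun k => ⟨k.1.1, k.1.2, ?_⟩, fun k => ⟨⟨k.1, k.2.1⟩, ?_⟩,
      fun _ => rfl, fun _ => rfl⟩
    · exact mul_inv_eq_iff_eq_mul.1 (congrArg Subtype.val k.2)
    · exact Subtype.ext (mul_inv_eq_iff_eq_mul.2 k.2.2)
  rwa [this, Nat.card_coe_set_eq, Nat.card_coe_set_eq] at h2

theorem exists_comm_of_not_dvd [Finite G] {p k : ℕ} [Fact p.Prime] {z : G} (hz : z ^ p ^ k = 1)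
    {S : Set G} (hS : ∀ s ∈ S, z * s * z⁻¹ ∈ S) (h : ¬ p ∣ S.ncard) : ∃ s ∈ S, z * s = s * z := by
  by_contra hn
  have e : {s ∈ S | z * s = s * z} = ∅ :=
    Set.eq_empty_of_forall_notMem fun s hs => hn ⟨s, hs.1, hs.2⟩
  have := ncard_modEq_conj hz hS
  rw [e, Set.ncard_empty] at this
  exact h ((Nat.modEq_zero_iff_dvd).1 this)

/-- An element of odd order cannot invert an element of odd order. -/
theorem eq_one_of_odd_inverts {g x : G} (hg : Odd (orderOf g)) (hx : Odd (orderOf x))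
    (h : g * x * g⁻¹ = x⁻¹) : x = 1 := by
  have := inverts_odd_pow h hg
  rw [pow_orderOf_eq_one, one_mul, inv_one, mul_one] at this
  exact eq_one_of_odd hx (mul_eq_one_iff_eq_inv.2 this)

theorem ncard_class (X : Subgroup G) (s : G) :
    {y | ∃ g ∈ X, g * s * g⁻¹ = y}.ncard = (centralizer {s}).relIndex X := by
  have e : {y | ∃ g ∈ X, g * s * g⁻¹ = y} =
      MulAction.orbit (X.map (ConjAct.toConjAct (G := G)).toMonoidHom) s := by
    ext y
    constructor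
    · rintro ⟨g, hg, rfl⟩
      exact ⟨⟨_, mem_map_of_mem _ hg⟩, rfl⟩
    · rintro ⟨⟨_, g, hg, rfl⟩, rfl⟩
      exact ⟨g, hg, rfl⟩
  rw [e, ← MulAction.index_stabilizer]
  have e2 : MulAction.stabilizer (X.map (ConjAct.toConjAct (G := G)).toMonoidHom) s =
      ((centralizer {s}).map (ConjAct.toConjAct (G := G)).toMonoidHom).subgroupOf _ := by
    ext ⟨_, g, hg, rfl⟩
    rw [MulAction.mem_stabilizer_iff, mem_subgroupOf]
    change g * s * g⁻¹ = s ↔ _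
    rw [mem_map_iff_mem (ConjAct.toConjAct (G := G)).injective, mem_centralizer_singleton_iff,
      mul_inv_eq_iff_eq_mul]
  rw [e2]
  exact relIndex_map_map_of_injective _ _ (ConjAct.toConjAct (G := G)).injective

/-- In a group with a self-centralizing involution `s` every element is conjugate to `s` or
inverted by `s`. -/
theorem conj_or_inv [Finite G] {X : Subgroup G} {s : G} (hs : s ∈ X) (h2 : s * s = 1) (h1 : s ≠ 1)
    (hc : ∀ y ∈ X, y * s = s * y → y = 1 ∨ y = s) {y : G} (hy : y ∈ X) :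
    (∃ g ∈ X, g * s * g⁻¹ = y) ∨ s * y * s = y⁻¹ := by
  set C := {y | ∃ g ∈ X, g * s * g⁻¹ = y} with hC
  have sq : ∀ c ∈ C, c * c = 1 := by
    rintro _ ⟨g, -, rfl⟩
    rw [show g * s * g⁻¹ * (g * s * g⁻¹) = g * (s * s) * g⁻¹ by group, h2]; group
  have c1 : C.ncard * 2 = Nat.card X := by
    rw [ncard_class, ← card_inf_mul_relIndex (centralizer {s}) X, mul_comm]
    congr 1
    have : ((centralizer {s} ⊓ X : Subgroup G) : Set G) = {1, s} := by
      ext y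
      simp only [SetLike.mem_coe, mem_inf, mem_centralizer_singleton_iff, Set.mem_insert_iff,
        Set.mem_singleton_iff]
      exact ⟨fun h => hc y h.2 h.1, by rintro (rfl | rfl) <;> simp [hs]⟩
    change _ = Nat.card ((centralizer {s} ⊓ X : Subgroup G) : Set G)
    rw [this, Nat.card_coe_set_eq, Set.ncard_pair h1.symm]
  have CX : C ⊆ X := by
    rintro _ ⟨g, hg, rfl⟩
    exact mul_mem (mul_mem hg hs) (inv_mem hg)
  have dj : Disjoint C ((s * ·) '' C) := by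
    rw [Set.disjoint_left]
    rintro _ h3 ⟨c, h4, rfl⟩
    have e : c * s = s * c := by
      have := inv_self_of (sq _ h3)
      rwa [mul_inv_rev, inv_self_of h2, inv_self_of (sq c h4)] at this
    obtain ⟨g, -, e1⟩ := h3
    obtain ⟨g', -, e2⟩ := id h4
    rcases hc c (CX h4) e with e3 | e3
    · exact h1 (by simpa [e3] using e2)
    · exact h1 (by simpa [e3, h2] using e1)
  have un : C ∪ (s * ·) '' C = X := by
    refine Set.eq_of_subset_of_ncard_le (Set.union_subset CX ?_) ?_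
    · rintro _ ⟨c, h4, rfl⟩
      exact mul_mem hs (CX h4)
    · rw [Set.ncard_union_eq dj, Set.ncard_image_of_injective _ (mul_right_injective s),
        ← Nat.card_coe_set_eq (X : Set G)]
      change Nat.card X ≤ _
      omega
  rcases (un.symm ▸ hy : y ∈ C ∪ (s * ·) '' C) with h3 | ⟨c, h3, rfl⟩
  · exact Or.inl h3
  · right
    rw [mul_inv_rev, inv_self_of h2, inv_self_of (sq c h3), ← mul_assoc, h2, one_mul]

theorem inv_of_selfcent [Finite G] {X : Subgroup G} {s : G} (hs : s ∈ X) (h2 : s * s = 1)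
    (h1 : s ≠ 1) (hc : ∀ y ∈ X, y * s = s * y → y = 1 ∨ y = s) {y : G} (hy : y ∈ X)
    (ho : Odd (orderOf y)) : s * y * s = y⁻¹ := by
  refine (conj_or_inv hs h2 h1 hc hy).resolve_left ?_
  rintro ⟨g, -, rfl⟩
  rw [orderOf_conj'] at ho
  exact h1 (eq_one_of_odd ho h2)

theorem comm_of_selfcent [Finite G] {X : Subgroup G} {s : G} (hs : s ∈ X) (h2 : s * s = 1)
    (h1 : s ≠ 1) (hc : ∀ y ∈ X, y * s = s * y → y = 1 ∨ y = s) {a b : G} (ha : a ∈ X) (hb : b ∈ X)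
    (oa : Odd (orderOf a)) (ob : Odd (orderOf b)) : a * b = b * a := by
  have ia := inv_of_selfcent hs h2 h1 hc ha oa
  have ib := inv_of_selfcent hs h2 h1 hc hb ob
  have sl : ∀ g, s * (s * g) = g := fun g => by rw [← mul_assoc, h2, one_mul]
  have e : s * (a * b) * s = a⁻¹ * b⁻¹ := by rw [← ia, ← ib]; simp [mul_assoc, sl]
  rcases conj_or_inv hs h2 h1 hc (mul_mem ha hb) with ⟨g, hg, e1⟩ | e1
  · exfalso
    have jj : a * b * (a * b) = 1 := by
      rw [← e1, show g * s * g⁻¹ * (g * s * g⁻¹) = g * (s * s) * g⁻¹ by group, h2]; group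
    have e2 : a * s * (a * s) = 1 := by rw [mul_assoc, ← mul_assoc s, ia, mul_inv_cancel]
    have e3 : s * b * (s * b) = 1 := by rw [← mul_assoc, ib, inv_mul_cancel]
    have e4 : a * b = a * s * (s * b) := by rw [mul_assoc, sl]
    have e5 : a * b = s * b * (a * s) := by
      rw [← inv_self_of jj, e4, mul_inv_rev, inv_self_of e2, inv_self_of e3]
    have e6 : a * s * (a * b) = a * b * (a * s) := by
      conv_lhs => rw [e5]
      conv_rhs => rw [e4]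
      rw [mul_assoc (a * s)]
    rw [← e1] at e6
    rcases hc (g⁻¹ * (a * s) * g) (mul_mem (mul_mem (inv_mem hg) (mul_mem ha hs)) hg) (by
      calc _ = g⁻¹ * (a * s * (g * s * g⁻¹)) * g := by group
        _ = _ := by rw [e6]; group) with e7 | e7
    · have : a = s := by
        rw [← inv_self_of h2, eq_inv_iff_mul_eq_one]
        calc _ = g * (g⁻¹ * (a * s) * g) * g⁻¹ := by group
          _ = _ := by rw [e7]; group
      exact h1 (eq_one_of_odd (this ▸ oa) h2)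
    · have : s = b := by
        apply mul_left_cancel (a := a)
        rw [← e1, ← e7]
        conv_lhs => rw [e7]
        group
      exact h1 (eq_one_of_odd (this ▸ ob) h2)
  · rw [e, mul_inv_rev] at e1
    have := congrArg Inv.inv e1
    simpa using this.symm

/-- The elements of odd order of a group of order not divisible by 4 form a subgroup. -/
theorem exists_oddpart [Finite G] {X : Subgroup G} (h : ¬ 4 ∣ Nat.card X) :
    ∃ O : Subgroup G, O ≤ X ∧ Odd (Nat.card O) ∧ (∀ y ∈ X, Odd (orderOf y) → y ∈ O) ∧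
      𝒩 X ≤ 𝒩 O ∧ ∀ a ∈ X, ∀ b ∈ X, a ∉ O → b ∉ O → a * b ∈ O := by
  have : Fact (Nat.Prime 2) := ⟨Nat.prime_two⟩
  obtain ⟨P, hP⟩ := exists_isSyl 2 X
  have c2 : Nat.card P ∣ 2 := by
    obtain ⟨k, hk⟩ := hP.isPGroup.exists_card_eq
    have := card_dvd_of_le hP.le
    rw [hk] at this ⊢
    rcases k with _ | _ | k
    · simp
    · simp
    · exact absurd ((Dvd.intro_left (2 ^ k) (by ring)).trans this) h
  have uq : ∀ a ∈ P, ∀ b ∈ P, a ≠ 1 → b ≠ 1 → a = b := fun a ha b hb a1 b1 => by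
    by_contra hn
    have : ({1, a, b} : Set G).ncard ≤ (P : Set G).ncard :=
      Set.ncard_le_ncard (by rintro _ (rfl | rfl | rfl) <;> simp [ha, hb])
    rw [Set.ncard_eq_three.2 ⟨1, a, b, a1.symm, b1.symm, hn, rfl⟩, ← Nat.card_coe_set_eq] at this
    exact absurd (this.trans (Nat.le_of_dvd two_pos c2)) (by norm_num)
  have hn : NPC 2 X := burnside_npc hP fun g hg x hx => by
    by_cases h1 : x = 1
    · simp [h1]
    · exact (mul_inv_eq_iff_eq_mul.1 (uq _ (conj_mem_of_mem_normalizer hg.2 hx) _ hx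
        (by simpa using h1) h1)).symm
  have hO : ∀ y ∈ X, Odd (orderOf y) → y ∈ pResidualOf 2 X := fun y hy ho =>
    H7.mem_pResidualOf hy (odd_orderOf_iff.1 ho)
  have hle : pResidualOf 2 X ≤ X := H7.pResidualOf_le 2 X
  have hodd : Odd (Nat.card (pResidualOf 2 X)) := Nat.coprime_two_right.1 hn
  have hN : 𝒩 X ≤ 𝒩 (pResidualOf 2 X) := fun g hg => mem_normalizer_of_forall fun x hx =>
    hO _ (conj_mem_of_mem_normalizer hg (hle hx)) (by
      rw [orderOf_conj']; exact odd_orderOf_of_mem hodd hx)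
  refine ⟨_, hle, hodd, hO, hN, fun a ha b hb h1 h2 => ?_⟩
  have key : ∀ x ∈ X, ∃ k, x ^ 2 ^ k ∈ pResidualOf 2 X := fun x hx => by
    obtain ⟨k, hk⟩ := exists_pow_coprime 2 x
    exact ⟨k, hO _ (pow_mem hx _) (odd_orderOf_iff.2 hk)⟩
  obtain ⟨a1, ha1, a2, ha2, rfl⟩ := hP.exists_mul_of_forall (le_normalizer.trans hN) key ha
  obtain ⟨b1, hb1, b2, hb2, rfl⟩ := hP.exists_mul_of_forall (le_normalizer.trans hN) key hb
  obtain rfl := uq a2 ha2 b2 hb2 (fun e => h1 (by simpa [e])) (fun e => h2 (by simpa [e]))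
  have e : a2 * a2 = 1 := by
    rw [← sq, ← orderOf_dvd_iff_pow_eq_one]
    exact (orderOf_dvd_natCard _ ha2).trans c2
  rw [show a1 * a2 * (b1 * a2) = a1 * (a2 * b1 * a2⁻¹) * (a2 * a2) by group, e, mul_one]
  exact mul_mem ha1 (conj_mem_of_mem_normalizer (hN (le_normalizer (hP.le ha2))) hb1)

namespace KS

variable {K R D : Subgroup G} {u d e x y k z : G} {q : ℕ} (h : KS K R D u q)
include h

theorem uinv : u⁻¹ = u := inv_self_of h.uu

theorem ul (g : G) : u * (u * g) = g := by rw [← mul_assoc, h.uu, one_mul]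

theorem du (hd : d ∈ D) : d * u = u * d⁻¹ := by rw [← h.inv d hd, mul_assoc, h.ul]

theorem Dab (hd : d ∈ D) (he : e ∈ D) : d * e = e * d := by
  have := h.inv _ (mul_mem he hd)
  rw [show u * (e * d) * u = (u * e * u) * (u * d * u) by simp [mul_assoc, h.ul], h.inv d hd,
    h.inv e he, ← mul_inv_rev, inv_inj] at this
  exact this

theorem q8 : q % 8 = 3 := by
  obtain ⟨n, -, rfl⟩ := h.q3
  rw [pow_succ, pow_mul, Nat.mul_mod, Nat.pow_mod]; simp

theorem q27 : 27 ≤ q := by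
  obtain ⟨n, hn, rfl⟩ := h.q3
  exact Nat.pow_le_pow_right (n := 3) (i := 3) (by norm_num) (by omega)

theorem three_dvd : 3 ∣ q := by
  obtain ⟨n, -, rfl⟩ := h.q3
  exact Dvd.intro_left _ (pow_succ 3 _).symm

theorem eq_three {r : ℕ} (hr : r.Prime) (h1 : r ∣ q) : r = 3 := by
  obtain ⟨n, -, rfl⟩ := h.q3
  exact (Nat.prime_dvd_prime_iff_eq hr Nat.prime_three).1 (hr.dvd_of_dvd_pow h1)

theorem oddD : Odd (Nat.card D) := by
  have := h.q8
  have := h.cD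
  rw [Nat.odd_iff]; omega

theorem not3D : ¬ 3 ∣ Nat.card D := by
  have := h.three_dvd
  have := h.cD
  omega

theorem D_odd (hd : d ∈ D) : Odd (orderOf d) := odd_orderOf_of_mem h.oddD hd

theorem D_sq (hd : d ∈ D) (h1 : d * d = 1) : d = 1 := eq_one_of_odd (h.D_odd hd) h1

theorem R_odd (hx : x ∈ R) : Odd (orderOf x) :=
  Odd.of_dvd_nat (by decide : Odd 3) (orderOf_dvd_of_pow_eq_one (h.R3 x hx))

theorem RD (hx : x ∈ R) (hd : x ∈ D) : x = 1 := (h.fpf x hd x hx rfl).elim id id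

theorem nrm' (hd : d ∈ D) (hx : x ∈ R) : d⁻¹ * x * d ∈ R := by
  simpa using h.nrm _ (inv_mem hd) x hx

theorem pR : IsPGroup 3 R := isPGroup_iff_forall.2 fun x hx => ⟨1, by simpa using h.R3 x hx⟩

theorem cop {r : ℕ} (hr : r.Prime) (h1 : r ∣ Nat.card D) : ¬ r ∣ 2 * (q * (q + 1)) := fun h2 => by
  have e := h.cD
  have o : r ≠ 2 := fun e => Nat.not_even_iff_odd.2 h.oddD (even_iff_two_dvd.2 (e ▸ h1))
  have o' : ¬ r ∣ 2 := fun e => o ((Nat.prime_dvd_prime_iff_eq hr Nat.prime_two).1 e)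
  rcases hr.dvd_mul.1 ((hr.dvd_mul.1 h2).resolve_left o') with h3 | h3
  · exact h.not3D (h.eq_three hr h3 ▸ h1)
  · rw [← e, add_assoc] at h3
    exact o' ((Nat.dvd_add_right (h1.mul_left 2)).1 h3)

theorem u_ne : u ≠ 1 := fun e => by
  obtain ⟨x, hx, h1, -⟩ := h.kl
  exact h1 (h.sep x hx x hx 1 (one_mem _) (by simp [e]))

theorem uniq (hx : x ∈ R) (hy : y ∈ R) (hd : d ∈ D) (he : e ∈ D) (h1 : x * d = y * e) :
    x = y ∧ d = e := by
  have e1 : y⁻¹ * x = e * d⁻¹ := by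
    rw [inv_mul_eq_iff_eq_mul, ← mul_assoc, ← h1, mul_inv_cancel_right]
  have e2 := h.RD (mul_mem (inv_mem hy) hx) (e1 ▸ mul_mem he (inv_mem hd))
  obtain rfl : x = y := (inv_mul_eq_one.1 e2).symm
  exact ⟨rfl, mul_left_cancel h1⟩

variable [Finite G]

theorem DN : D ≤ 𝒩 R := fun d hd => mem_normalizer_of_forall (h.nrm d hd)

theorem memB : k ∈ R ⊔ D ↔ ∃ x ∈ R, ∃ d ∈ D, x * d = k := mem_sup_of_le_normalizer_left h.DN

theorem BK : R ⊔ D ≤ K := sup_le h.RK h.DK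

theorem cardB : Nat.card ↥(R ⊔ D) = q * Nat.card D := by
  have := card_sup_mul_card_inf h.DN
  rw [show D ⊓ R = ⊥ from eq_bot_iff.2 fun x hx => h.RD hx.2 hx.1, card_bot, mul_one, sup_comm,
    h.cR, mul_comm] at this
  exact this

theorem B_odd (hk : k ∈ R ⊔ D) : Odd (orderOf k) := by
  refine odd_orderOf_of_mem ?_ hk
  have := h.q8
  rw [h.cardB]
  exact Odd.mul (Nat.odd_iff.2 (by omega)) h.oddD

theorem nu : u ∉ R ⊔ D := fun e => h.u_ne (eq_one_of_odd (h.B_odd e) h.uu)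

theorem bru' (hk : k ∈ K) : k ∈ R ⊔ D ∨ ∃ x ∈ R, ∃ b ∈ R ⊔ D, k = x * u * b :=
  (h.bru k hk).imp (fun ⟨x, hx, d, hd, e⟩ => h.memB.2 ⟨x, hx, d, hd, e.symm⟩)
    fun ⟨x, hx, y, hy, d, hd, e⟩ => ⟨x, hx, _, mul_mem (mem_sup_left hy) (mem_sup_right hd), e⟩

theorem sepB (hk : k ∈ R ⊔ D) (h1 : u * k * u ∈ R ⊔ D) : k ∈ D := by
  obtain ⟨x, hx, d, hd, rfl⟩ := h.memB.1 hk
  have : u * x * u ∈ R ⊔ D := by
    have := mul_mem h1 (mem_sup_right hd)
    rwa [show u * (x * d) * u * d = u * x * u * (u * d * u * d) by simp [mul_assoc, h.ul],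
      h.inv d hd, inv_mul_cancel, mul_one] at this
  obtain ⟨y, hy, e, he, e1⟩ := h.memB.1 this
  rw [h.sep x hx y hy e he e1.symm, one_mul]
  exact hd

theorem conjR (hk : k ∈ K) (hx : x ∈ R) (h1 : x ≠ 1) (h2 : k⁻¹ * x * k ∈ R ⊔ D) : k ∈ R ⊔ D := by
  refine (h.bru' hk).resolve_right ?_
  rintro ⟨y, hy, b, hb, rfl⟩
  have := mul_mem (mul_mem hb h2) (inv_mem hb)
  rw [show b * ((y * u * b)⁻¹ * x * (y * u * b)) * b⁻¹ = u⁻¹ * (y⁻¹ * (x * y)) * u by group,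
    h.Rab x hx y hy, inv_mul_cancel_left, h.uinv] at this
  exact h1 (h.RD hx (h.sepB (mem_sup_left hx) this))

theorem eq_one_of_conjD (hx : x ∈ R) (hd : d ∈ D) (h1 : d ≠ 1) (h2 : x⁻¹ * d * x ∈ D) : x = 1 := by
  have e := h.uniq (mul_mem (inv_mem hx) (h.nrm d hd x hx)) (one_mem R) hd h2 (by group)
  exact (h.fpf d hd x hx (mul_inv_eq_iff_eq_mul.1 (inv_mul_eq_one.1 e.1).symm)).resolve_left h1

theorem conjD (hk : k ∈ K) (hd : d ∈ D) (h1 : d ≠ 1) (h2 : k⁻¹ * d * k ∈ R ⊔ D) :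
    k ∈ R ⊔ D ∨ u * k ∈ R ⊔ D := by
  refine (h.bru' hk).imp_right ?_
  rintro ⟨y, hy, b, hb, rfl⟩
  have := mul_mem (mul_mem hb h2) (inv_mem hb)
  rw [show b * ((y * u * b)⁻¹ * d * (y * u * b)) * b⁻¹ = u⁻¹ * (y⁻¹ * d * y) * u by group,
    h.uinv] at this
  have e := h.sepB (mul_mem (mul_mem (inv_mem (mem_sup_left hy)) (mem_sup_right hd))
    (mem_sup_left hy)) this
  rw [h.eq_one_of_conjD hy hd h1 e, one_mul, h.ul]
  exact hb

theorem memD_of (hk : k ∈ R ⊔ D) (hd : d ∈ D) (h1 : d ≠ 1) (h2 : k⁻¹ * d * k ∈ D) : k ∈ D := by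
  obtain ⟨x, hx, e, he, rfl⟩ := h.memB.1 hk
  have := mul_mem (mul_mem he h2) (inv_mem he)
  rw [show e * ((x * e)⁻¹ * d * (x * e)) * e⁻¹ = x⁻¹ * d * x by group] at this
  rw [h.eq_one_of_conjD hx hd h1 this, one_mul]
  exact he

theorem conjDD (hk : k ∈ K) (hd : d ∈ D) (h1 : d ≠ 1) (h2 : k⁻¹ * d * k ∈ D) :
    k ∈ D ∨ u * k ∈ D := by
  refine (h.conjD hk hd h1 (mem_sup_right h2)).imp (fun e => h.memD_of e hd h1 h2) fun e =>
    h.memD_of e (inv_mem hd) (inv_ne_one.2 h1) ?_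
  rw [← h.inv d hd, mul_inv_rev, h.uinv]
  simpa [mul_assoc, h.ul] using h2

theorem inv_of (hk : u * k ∈ D) (hd : d ∈ D) : k⁻¹ * d * k = d⁻¹ := by
  calc _ = (u * k)⁻¹ * (u * d * u) * (u * k) := by
        rw [mul_inv_rev, h.uinv]; simp [mul_assoc, h.ul]
    _ = _ := by rw [h.inv d hd, mul_assoc, h.Dab (inv_mem hd) hk, inv_mul_cancel_left]

theorem centD (hk : k ∈ K) (hd : d ∈ D) (h1 : d ≠ 1) (h2 : k * d = d * k) : k ∈ D := by
  have e : k⁻¹ * d * k = d := by rw [mul_assoc, ← h2, inv_mul_cancel_left]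
  refine (h.conjDD hk hd h1 (by rwa [e])).resolve_right fun e1 => h1 (h.D_sq hd ?_)
  rw [mul_eq_one_iff_eq_inv, ← h.inv_of e1 hd, e]

theorem invD (hk : k ∈ K) (hd : d ∈ D) (h1 : d ≠ 1) (h2 : k⁻¹ * d * k = d⁻¹) : u * k ∈ D := by
  refine (h.conjDD hk hd h1 (h2 ▸ inv_mem hd)).resolve_left fun e1 => h1 (h.D_sq hd ?_)
  rw [mul_eq_one_iff_eq_inv, ← h2, mul_assoc, h.Dab hd e1, inv_mul_cancel_left]

theorem centR (hk : k ∈ K) (hx : x ∈ R) (h1 : x ≠ 1) (h2 : k * x = x * k) : k ∈ R := by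
  have e : k⁻¹ * x * k = x := by rw [mul_assoc, ← h2, inv_mul_cancel_left]
  obtain ⟨y, hy, d, hd, rfl⟩ := h.memB.1 (h.conjR hk hx h1 (by rw [e]; exact mem_sup_left hx))
  rw [mul_assoc, ← mul_assoc x, h.Rab x hx y hy, mul_assoc, mul_left_cancel_iff] at h2
  rw [(h.fpf d hd x hx h2).resolve_right h1, mul_one]
  exact hy

theorem exists_sqrt (hd : d ∈ D) : ∃ e ∈ D, e * e = d := by
  obtain ⟨m, hm⟩ := h.D_odd hd
  refine ⟨d ^ (m + 1), pow_mem hd _, ?_⟩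
  rw [← pow_add, show m + 1 + (m + 1) = orderOf d + 1 by omega, pow_succ, pow_orderOf_eq_one,
    one_mul]

theorem conj_ud (hd : d ∈ D) : ∃ e ∈ D, e⁻¹ * u * e = u * d := by
  obtain ⟨e, he, rfl⟩ := h.exists_sqrt hd
  exact ⟨e, he, by rw [h.du (inv_mem he), inv_inv, mul_assoc]⟩

theorem inv_form (hk : k ∈ K) (h2 : k * k = 1) (h1 : k ≠ 1) :
    ∃ x ∈ R, ∃ d ∈ D, k = x * (u * d) * x⁻¹ := by
  rcases h.bru' hk with e | ⟨x, hx, b, hb, rfl⟩
  · exact absurd (eq_one_of_odd (h.B_odd e) h2) h1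
  refine ⟨x, hx, b * x, h.sepB (mul_mem hb (mem_sup_left hx)) ?_, by group⟩
  have : u * (b * x) * u = (b * x)⁻¹ := by
    rw [eq_inv_iff_mul_eq_one]
    calc _ = x⁻¹ * (x * u * b * (x * u * b)) * x := by group
      _ = 1 := by rw [h2]; group
  rw [this]
  exact inv_mem (mul_mem hb (mem_sup_left hx))

theorem inv_conj (hk : k ∈ K) (h2 : k * k = 1) (h1 : k ≠ 1) : ∃ y ∈ K, y * u * y⁻¹ = k := by
  obtain ⟨x, hx, d, hd, rfl⟩ := h.inv_form hk h2 h1
  obtain ⟨e, he, e1⟩ := h.conj_ud hd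
  exact ⟨x * e⁻¹, mul_mem (h.RK hx) (inv_mem (h.DK he)), by rw [← e1]; group⟩

theorem ud_sq (hd : d ∈ D) : u * d * (u * d) = 1 := by
  rw [← mul_assoc, h.inv d hd, inv_mul_cancel]

theorem ud_ne (hd : d ∈ D) : u * d ≠ 1 := fun e =>
  h.nu (mem_sup_right (by rw [eq_inv_of_mul_eq_one_left e]; exact inv_mem hd))

theorem ncard_inv : {k | k ∈ K ∧ k * k = 1 ∧ k ≠ 1}.ncard = q * Nat.card D := by
  rw [← h.cR, ← Nat.card_prod, ← Nat.card_coe_set_eq]
  symm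
  refine Nat.card_congr (Equiv.ofBijective (fun p => ⟨p.1 * (u * p.2) * p.1⁻¹, mul_mem (mul_mem
    (h.RK p.1.2) (mul_mem h.uK (h.DK p.2.2))) (inv_mem (h.RK p.1.2)), ?_, ?_⟩) ⟨?_, ?_⟩)
  · rw [show (p.1 : G) * (u * p.2) * p.1⁻¹ * (p.1 * (u * p.2) * p.1⁻¹) =
      p.1 * (u * p.2 * (u * p.2)) * p.1⁻¹ by simp [mul_assoc], h.ud_sq p.2.2]; simp
  · simpa using h.ud_ne p.2.2
  · rintro ⟨⟨x, hx⟩, d, hd⟩ ⟨⟨y, hy⟩, e, he⟩ e1
    have e2 : x * (u * d) * x⁻¹ = y * (u * e) * y⁻¹ := congrArg Subtype.val e1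
    have hz := mul_mem (inv_mem hy) hx
    have e3 : u * (y⁻¹ * x) * u = e * (y⁻¹ * x) * d⁻¹ := by
      calc _ = u * y⁻¹ * (x * (u * d) * x⁻¹) * x * d⁻¹ := by group
        _ = _ := by rw [e2]; simp [mul_assoc, h.ul]
    have e4 := h.RD hz (h.sepB (mem_sup_left hz) (e3 ▸ mul_mem (mul_mem (mem_sup_right he)
      (mem_sup_left hz)) (inv_mem (mem_sup_right hd))))
    obtain rfl : y = x := inv_mul_eq_one.1 e4
    obtain rfl : d = e := by simpa using e2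
    rfl
  · rintro ⟨k, hk, h2, h1⟩
    obtain ⟨x, hx, d, hd, rfl⟩ := h.inv_form hk h2 h1
    exact ⟨⟨⟨x, hx⟩, d, hd⟩, rfl⟩

theorem sylR : IsSyl 3 R K := by
  refine ⟨h.RK, h.pR, fun e => ?_⟩
  have e1 := card_mul_relIndex h.RK
  have := h.q27
  rw [h.cR, h.cK, mul_assoc] at e1
  rw [Nat.eq_of_mul_eq_mul_left (by omega) e1] at e
  have := h.three_dvd
  rcases (Nat.prime_three.dvd_mul).1 e with e | e
  · exact h.not3D e
  · omega

theorem riD : D.relIndex K = q * (q + 1) := by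
  have e1 := card_mul_relIndex h.DK
  rw [h.cK] at e1
  exact Nat.eq_of_mul_eq_mul_left (Nat.card_pos (α := D)) (by rw [e1]; ring)

theorem conj_R (hk : k ∈ K) (h3 : k ^ 3 = 1) : ∃ y ∈ K, y * k * y⁻¹ ∈ R :=
  haveI : Fact (Nat.Prime 3) := ⟨Nat.prime_three⟩
  h.sylR.exists_conj_mem hk ⟨1, by simpa⟩

theorem conj_D {r : ℕ} (hr : r.Prime) (h1 : r ∣ Nat.card D) (hk : k ∈ K) (h3 : k ^ r = 1) :
    ∃ y ∈ K, y * k * y⁻¹ ∈ D := by
  have : Fact r.Prime := ⟨hr⟩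
  obtain ⟨P, hP⟩ := exists_isSyl r D
  obtain ⟨y, hy, e⟩ := (hP.trans h.DK fun e => h.cop hr h1 (h.riD ▸ e.mul_left 2)).exists_conj_mem hk
    ⟨1, by simpa⟩
  exact ⟨y, hy, hP.le e⟩

theorem exists_inv_cent {r : ℕ} (hr : r.Prime) (h3 : r ≠ 3) (h1 : ¬ r ∣ Nat.card D) (hk : k ∈ K)
    (h4 : k ^ r = 1) : ∃ v ∈ K, v * v = 1 ∧ v ≠ 1 ∧ k * v = v * k := by
  have : Fact r.Prime := ⟨hr⟩
  obtain ⟨v, ⟨a, b, c⟩, e⟩ := exists_comm_of_not_dvd (p := r) (k := 1) (z := k) (by simpa)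
    (S := {k | k ∈ K ∧ k * k = 1 ∧ k ≠ 1}) (fun s hs => ⟨mul_mem (mul_mem hk hs.1) (inv_mem hk), by
      rw [show k * s * k⁻¹ * (k * s * k⁻¹) = k * (s * s) * k⁻¹ by group, hs.2.1]; group,
      by simpa using hs.2.2⟩) (by
      rw [h.ncard_inv, hr.dvd_mul, not_or]
      exact ⟨fun e => h3 (h.eq_three hr e), h1⟩)
  exact ⟨v, a, b, c, e⟩

theorem conj_xd (hx : x ∈ R) (hd : d ∈ D) (h1 : d ≠ 1) : ∃ y ∈ R, y * d * y⁻¹ = x * d := by
  let f : R → R := fun y => ⟨y * (d * y⁻¹ * d⁻¹), mul_mem y.2 (h.nrm d hd _ (inv_mem y.2))⟩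
  have hf : Function.Injective f := by
    rintro ⟨a, ha⟩ ⟨b, hb⟩ e
    have e1 : a * (d * a⁻¹ * d⁻¹) = b * (d * b⁻¹ * d⁻¹) := congrArg Subtype.val e
    have e2 : d * (b⁻¹ * a) = b⁻¹ * a * d := by
      calc _ = b⁻¹ * (b * (d * b⁻¹ * d⁻¹)) * d * a := by group
        _ = _ := by rw [← e1]; group
    exact Subtype.ext (inv_mul_eq_one.1 ((h.fpf d hd _ (mul_mem (inv_mem hb) ha) e2).resolve_left
      h1)).symm
  obtain ⟨y, e⟩ := Finite.surjective_of_injective hf ⟨x, hx⟩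
  refine ⟨y, y.2, ?_⟩
  rw [← (show (y : G) * (d * y⁻¹ * d⁻¹) = x from congrArg Subtype.val e)]
  simp [mul_assoc]

theorem mem_zpowers {r : ℕ} (hr : r.Prime) (hd : d ∈ D) (he : e ∈ D) (h1 : d ≠ 1) (h2 : d ^ r = 1)
    (h3 : e ^ r = 1) : e ∈ zpowers d := by
  have := h.cyc
  have : Fact r.Prime := ⟨hr⟩
  classical
  have := Fintype.ofFinite D
  have o : orderOf (⟨d, hd⟩ : D) = r :=
    orderOf_eq_prime (Subtype.ext h2) fun e => h1 (congrArg Subtype.val e)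
  have c := IsCyclic.card_pow_eq_one_le (α := D) hr.pos
  have s : (zpowers (⟨d, hd⟩ : D) : Set D) = {a | a ^ r = 1} := by
    refine Set.eq_of_subset_of_ncard_le ?_ ?_
    · rintro _ ⟨n, rfl⟩
      simp only [Set.mem_ofPred_eq]
      rw [← zpow_natCast, ← zpow_mul, mul_comm, zpow_mul, zpow_natCast, ← o, pow_orderOf_eq_one,
        one_zpow]
    · change _ ≤ Nat.card (zpowers (⟨d, hd⟩ : D))
      rw [Nat.card_zpowers, o, Set.ncard_eq_toFinset_card']
      simpa using c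
  obtain ⟨n, hn⟩ : (⟨e, he⟩ : D) ∈ (zpowers (⟨d, hd⟩ : D) : Set D) := by
    rw [s]; exact Subtype.ext h3
  exact ⟨n, congrArg Subtype.val hn⟩

theorem exists_cycle : ∃ m ∈ K, ∃ b ∈ K, b * b = 1 ∧ b ≠ u ∧ u * b = b * u ∧ m * u * m⁻¹ = b ∧
    m * b * m⁻¹ = u * b := by
  obtain ⟨x, hx, h1, h2⟩ := h.kl
  have x3 := h.R3 x hx
  have sq : ∀ g : G, g * u * g⁻¹ * (g * u * g⁻¹) = 1 := fun g => by
    rw [show g * u * g⁻¹ * (g * u * g⁻¹) = g * (u * u) * g⁻¹ by group, h.uu]; group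
  have e : x * (x * u * x⁻¹) * x⁻¹ = x * u * x⁻¹ * u := by
    rw [← inv_self_of (sq x), ← h.uinv, ← mul_inv_rev, eq_inv_iff_mul_eq_one, h.uinv,
      inv_self_of (sq x), mul_eq_one_comm, ← h2, ← mul_one (_ * _), ← x3]
    simp [pow_succ, mul_assoc]
  have c : u * (x * u * x⁻¹) = x * u * x⁻¹ * u := by
    have := sq (x * x)
    rw [show x * x * u * (x * x)⁻¹ = x * (x * u * x⁻¹) * x⁻¹ by group, e] at this
    rw [← inv_self_of this, mul_inv_rev, h.uinv, inv_self_of (sq x)]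
  refine ⟨x, h.RK hx, _, mul_mem (mul_mem (h.RK hx) h.uK) (inv_mem (h.RK hx)), sq x, fun e1 => h1 ?_,
    c, rfl, e.trans c.symm⟩
  refine h.sep x hx x hx 1 (one_mem _) ?_
  rw [mul_assoc, mul_inv_eq_iff_eq_mul.1 e1, h.ul, mul_one]

end KS

end Cfsg.H8
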